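import Groth.Agent.AssLib2.Scheme
import Groth.Agent.AssLib.NoEmbTensor
import Groth.Agent.ConsPropLib.Fibre
import Groth.Agent.FibDim.Minimal
import Groth.Agent.FibDim.FlatBC
import Groth.Agent.FibDim.Comp
import Groth.Agent.FibDim.BaseField
import Groth.Agent.AssPtX.Basic

/-!
# Points associated in their fibres
-/

set_option autoImplicit false
set_option linter.style.haveILetI false
set_option backward.isDefEq.respectTransparency false
set_option backward.isDefEq.respectTransparency.types false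

universe u

open AlgebraicGeometry CategoryTheory Limits IsLocalRing

namespace Groth.Agent.FibreAss

open AssLib2 (Soc)

variable {X Y : Scheme.{u}} (f : X ⟶ Y) (F : X.Modules)

/-- The points of `X` which are associated points of the restriction of `F` to their fibre. -/
def FA : Set X :=
  {z | Soc (X.presheaf.stalk z) (F.presheaf.stalk z ⧸ (Codepth5.fibIdeal f z • ⊤ : Submodule (X.presheaf.stalk z) (F.presheaf.stalk z)))}

theorem mem_ass_fiber_iff [LocallyOfFiniteType f] (y : Y) (w : ↥(f.fiber y)) :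
    w ∈ AssSch.Ass ((Scheme.Modules.pullback (f.fiberι y)).obj F) ↔ f.fiberι y w ∈ FA f F := by
  haveI : IsLocallyNoetherian (f.fiber y) :=
    LocallyOfFiniteType.isLocallyNoetherian (f.fiberToSpecResidueField y)
  obtain ⟨σ, hσ, e, he⟩ := AssLib2.exists_fibre_equiv f _ F y w rfl
  rw [AssLib2.mem_ass_iff_soc]
  exact (AssLib2.soc_of_semilinear σ hσ e he).symm

theorem fiberι_specializes_iff' (y : Y) (w : ↥(f.fiber y)) {z : X} (hz : f z = y) :
    (∃ w', f.fiberι y w' = z ∧ w' ⤳ w) ↔ z ⤳ f.fiberι y w := by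
  refine ⟨fun ⟨w', h, hw⟩ => h ▸ hw.map (f.fiberι y).continuous, fun h => ?_⟩
  obtain ⟨w', rfl⟩ : z ∈ Set.range (f.fiberι y) := by rw [Scheme.Hom.range_fiberι]; exact hz
  exact ⟨w', rfl, (f.fiberι y).isEmbedding.isInducing.specializes_iff.1 h⟩

/-- Open immersions of the source. -/
theorem mem_FA_comp {U : Scheme.{u}} (j : U ⟶ X) [IsOpenImmersion j] (u : U) :
    u ∈ FA (j ≫ f) ((Scheme.Modules.pullback j).obj F) ↔ j u ∈ FA f F := by
  let σ : X.presheaf.stalk (j u) →+* U.presheaf.stalk u := (j.stalkMap u).hom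
  have hσ : Function.Bijective σ := ConcreteCategory.bijective_of_isIso (j.stalkMap u)
  letI : Algebra (X.presheaf.stalk (j u)) (U.presheaf.stalk u) := σ.toAlgebra
  let V := F.presheaf.stalk (j u)
  let e₀ : ((Scheme.Modules.pullback j).obj F).presheaf.stalk u ≃ₗ[U.presheaf.stalk u]
      TensorProduct (X.presheaf.stalk (j u)) (U.presheaf.stalk u) V :=
    ((KFlatLib.stalkPullbackIso j u).app F).toLinearEquiv
  let e₁ : X.presheaf.stalk (j u) ≃ₗ[X.presheaf.stalk (j u)] U.presheaf.stalk u :=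
    LinearEquiv.ofBijective (Algebra.linearMap _ _) hσ
  let e₂ : V ≃ₗ[X.presheaf.stalk (j u)] TensorProduct (X.presheaf.stalk (j u)) (U.presheaf.stalk u) V :=
    (TensorProduct.lid _ V).symm ≪≫ₗ TensorProduct.congr e₁ (LinearEquiv.refl _ V)
  let e : V ≃+ ((Scheme.Modules.pullback j).obj F).presheaf.stalk u := e₂.toAddEquiv.trans e₀.symm.toAddEquiv
  have he : ∀ (r : X.presheaf.stalk (j u)) (v : V), e (r • v) = σ r • e v := fun r v => by
    show e₀.symm (e₂ (r • v)) = σ r • e₀.symm (e₂ v)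
    rw [e₂.map_smul, show r • e₂ v = σ r • e₂ v from (algebraMap_smul (U.presheaf.stalk u) r (e₂ v)).symm,
      e₀.symm.map_smul]
  have hJ : Codepth5.fibIdeal (j ≫ f) u = (Codepth5.fibIdeal f (j u)).map σ := by
    rw [Codepth5.fibIdeal, Codepth5.fibIdeal, Scheme.Hom.stalkMap_comp, CommRingCat.hom_comp, ← Ideal.map_map]
    rfl
  let N : Submodule (X.presheaf.stalk (j u)) V := Codepth5.fibIdeal f (j u) • ⊤
  let N' : Submodule (U.presheaf.stalk u) (((Scheme.Modules.pullback j).obj F).presheaf.stalk u) :=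
    Codepth5.fibIdeal (j ≫ f) u • ⊤
  have hN : ∀ v, e v ∈ N' ↔ v ∈ N := by
    have h1 : ∀ v ∈ N, e v ∈ N' := fun v hv => Submodule.smul_induction_on hv
      (fun r hr m _ => by
        rw [he]
        exact Submodule.smul_mem_smul (hJ ▸ Ideal.mem_map_of_mem σ hr) Submodule.mem_top)
      (fun a b ha hb => by rw [map_add]; exact add_mem ha hb)
    refine fun v => ⟨fun hv => ?_, h1 v⟩
    rw [← e.symm_apply_apply v]
    refine Submodule.smul_induction_on hv (fun r hr m _ => ?_) (fun a b ha hb => by rw [map_add]; exact add_mem ha hb)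
    rw [hJ] at hr
    obtain ⟨r₀, hr₀, rfl⟩ := (Ideal.mem_map_iff_of_surjective σ hσ.2).1 hr
    obtain ⟨m, rfl⟩ : ∃ m', e m' = m := ⟨_, e.apply_symm_apply m⟩
    rw [← he, e.symm_apply_apply]
    exact Submodule.smul_mem_smul hr₀ Submodule.mem_top
  let q : (V ⧸ N) ≃+ (((Scheme.Modules.pullback j).obj F).presheaf.stalk u ⧸ N') :=
    QuotientAddGroup.congr N.toAddSubgroup N'.toAddSubgroup e (by
      ext x
      rw [AddSubgroup.mem_map]
      exact ⟨fun ⟨v, hv, hvx⟩ => hvx ▸ (hN v).2 hv,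
        fun hx => ⟨e.symm x, (hN _).1 (by rwa [e.apply_symm_apply]), e.apply_symm_apply x⟩⟩)
  exact (AssLib2.soc_of_semilinear σ hσ.2 q (fun r v => by
    obtain ⟨v, rfl⟩ := Submodule.Quotient.mk_surjective _ v
    show Submodule.Quotient.mk (p := N') (e (r • v)) = σ r • Submodule.Quotient.mk (p := N') (e v)
    rw [he, Submodule.Quotient.mk_smul])).symm

/-! ## Base change -/

theorem isPullback_fiber_ass_maximal {Z Z' : Scheme.{u}} {k L : Type u} [Field k] [Field L]
    {e : Z' ⟶ Z} {q' : Z' ⟶ Spec (CommRingCat.of L)} {q : Z ⟶ Spec (CommRingCat.of k)} {g : Spec (CommRingCat.of L) ⟶ Spec (CommRingCat.of k)} (h : IsPullback e q' q g)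
    (z : Z) (v v' : ↥(e.fiber z)) [IsNoetherianRing ((e.fiber z).presheaf.stalk v)]
    (hv : v ∈ AssSch.Ass (Coh.structureModule (e.fiber z))) (hvv : v' ⤳ v) : v' = v := by
  have hsq := (IsPullback.of_hasPullback e (Z.fromSpecResidueField z)).paste_horiz h.flip
  let K := Z.residueField z
  obtain ⟨ψ, hψ⟩ := Spec.map_surjective (Z.fromSpecResidueField z ≫ q)
  obtain ⟨χ, hχ⟩ := Spec.map_surjective g
  letI : Algebra k K := ψ.hom.toAlgebra
  letI : Algebra k L := χ.hom.toAlgebra
  let i : e.fiber z ≅ Spec (CommRingCat.of (TensorProduct k K L)) :=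
    hsq.flip.isoPullback ≪≫ pullback.congrHom hψ.symm hχ.symm ≪≫ pullbackSpecIso k K L
  let Q : PrimeSpectrum (TensorProduct k K L) := i.hom v
  let P : PrimeSpectrum (TensorProduct k K L) := i.hom v'
  have hPQ : P.asIdeal ≤ Q.asIdeal := (PrimeSpectrum.le_iff_specializes P Q).2 (hvv.map i.hom.continuous)
  have hd : AssLib.DepthZero ((e.fiber z).presheaf.stalk v) := by
    obtain ⟨u⟩ := AssLib2.nonempty_stalkUnit (X := e.fiber z) v
    rw [AssLib2.mem_ass_iff_soc,
      ← AssLib2.soc_of_semilinear (RingHom.id _) Function.surjective_id u.toAddEquiv (fun r v => u.map_smul r v)] at hv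
    exact hv
  have h' : AssLib.DepthZero (Localization.AtPrime Q.asIdeal) :=
    hd.of_equiv ((asIso (i.hom.stalkMap v)).symm.commRingCatIsoToRingEquiv.trans
      (StructureSheaf.stalkIso (TensorProduct k K L) Q).toRingEquiv.symm)
  exact i.hom.homeomorph.injective (PrimeSpectrum.ext (AssLib.eq_of_depthZero_tensor_fields Q.asIdeal h' P.asIdeal hPQ))

variable {f} {X' Y' : Scheme.{u}} {p : X' ⟶ X} {q : X' ⟶ Y'} {g : Y' ⟶ Y}

/-- The data over one point of the new base. -/
theorem exists_fibre_data (h : IsPullback p q f g) [LocallyOfFiniteType f] (y' : Y') :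
    ∃ e : q.fiber y' ⟶ f.fiber (g y'), Flat e ∧ e ≫ f.fiberι (g y') = q.fiberι y' ≫ p ∧
      (∀ z (v : ↥(e.fiber z)), v ∈ AssSch.Ass (Coh.structureModule (e.fiber z)) ↔ ∀ v', v' ⤳ v → v' = v) ∧
      ∀ z (v : ↥(e.fiber z)), q.fiberι y' (e.fiberι z v) ∈ FA q ((Scheme.Modules.pullback p).obj F) ↔
        f.fiberι (g y') z ∈ FA f F ∧ v ∈ AssSch.Ass (Coh.structureModule (e.fiber z)) := by
  haveI : LocallyOfFiniteType q := MorphismProperty.of_isPullback h inferInstance
  obtain ⟨e, he, hι⟩ := ConsPropLib.exists_fibre_pullback h y'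
  haveI : Flat e := MorphismProperty.of_isPullback he.flip (by
    rw [HasRingHomProperty.Spec_iff (P := @Flat)]
    algebraize [(g.residueFieldMap y').hom]
    exact RingHom.flat_algebraMap_iff.2 inferInstance)
  haveI : IsLocallyNoetherian (q.fiber y') :=
    LocallyOfFiniteType.isLocallyNoetherian (q.fiberToSpecResidueField y')
  haveI : IsLocallyNoetherian (f.fiber (g y')) :=
    LocallyOfFiniteType.isLocallyNoetherian (f.fiberToSpecResidueField (g y'))
  refine ⟨e, inferInstance, hι, fun z v => ?_, fun z v => ?_⟩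
  · haveI := AssLib2.isNoetherianRing_stalk_fibre e z v
    refine ⟨fun hv v' hvv =>
      isPullback_fiber_ass_maximal (k := Y.residueField (g y')) (L := Y'.residueField y') he z v v' hv hvv, fun hmax => ?_⟩
    let R := (e.fiber z).presheaf.stalk v
    let j := (e.fiber z).fromSpecStalk v
    have key : ∀ a : PrimeSpectrum R, j a = v := fun a => hmax _ (by
      have h := Set.mem_range_self (f := j) a
      rwa [Scheme.range_fromSpecStalk] at h)
    obtain ⟨P, hP⟩ := associatedPrimes.nonempty R R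
    haveI := hP.isPrime
    have hPm : P = maximalIdeal R := congrArg PrimeSpectrum.asIdeal
      (j.isEmbedding.injective ((key ⟨P, inferInstance⟩).trans (key (closedPoint R)).symm))
    obtain ⟨u⟩ := AssLib2.nonempty_stalkUnit (X := e.fiber z) v
    exact u.isAssociatedPrime_iff.1 (hPm ▸ hP)
  · let i : (Scheme.Modules.pullback (q.fiberι y')).obj ((Scheme.Modules.pullback p).obj F) ≅
        (Scheme.Modules.pullback e).obj ((Scheme.Modules.pullback (f.fiberι (g y'))).obj F) :=
      (Scheme.Modules.pullbackComp _ _).app F ≪≫ (Scheme.Modules.pullbackCongr hι.symm).app F ≪≫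
        ((Scheme.Modules.pullbackComp _ _).app F).symm
    rw [← mem_ass_fiber_iff q _ y', AssLib2.ass_congr i, AssLib2.mem_ass_pullback_iff e _ z v,
      mem_ass_fiber_iff f F (g y')]

/-- Associated points of the fibres of a base change. -/
theorem map_FA (h : IsPullback p q f g) [LocallyOfFiniteType f] {z' : X'}
    (hz : z' ∈ FA q ((Scheme.Modules.pullback p).obj F)) :
    p z' ∈ FA f F ∧ (∀ w, w ⤳ z' → p w = p z' → q w = q z' → w = z') ∧ FibDim.rd f (p z') =
      haveI : LocallyOfFiniteType q := MorphismProperty.of_isPullback h inferInstance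
      FibDim.rd q z' := by
  obtain ⟨y', hy'⟩ : ∃ y', q z' = y' := ⟨_, rfl⟩
  obtain ⟨e, -, hι, hmax, hFA⟩ := exists_fibre_data F h y'
  obtain ⟨a, rfl⟩ : z' ∈ Set.range (q.fiberι y') := by rw [Scheme.Hom.range_fiberι]; exact hy'
  obtain ⟨v, hv⟩ : a ∈ Set.range (e.fiberι (e a)) := by rw [Scheme.Hom.range_fiberι]; rfl
  generalize e a = z at v hv
  subst hv
  obtain ⟨h1, h2⟩ := (hFA z v).1 hz
  have hpa : ∀ b, p (q.fiberι y' b) = f.fiberι (g y') (e b) := fun b => by
    rw [← Scheme.Hom.comp_apply, ← hι, Scheme.Hom.comp_apply]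
  have hev : e (e.fiberι z v) = z := FibDim.fiber_apply_fiberι e v
  have hmin : ∀ w, w ⤳ q.fiberι y' (e.fiberι z v) → p w = p (q.fiberι y' (e.fiberι z v)) →
      q w = q (q.fiberι y' (e.fiberι z v)) → w = q.fiberι y' (e.fiberι z v) := fun w hw hpw hqw => by
    obtain ⟨b, rfl⟩ : w ∈ Set.range (q.fiberι y') := by rw [Scheme.Hom.range_fiberι]; exact hqw.trans hy'
    rw [hpa, hpa] at hpw
    obtain ⟨v', rfl⟩ : b ∈ Set.range (e.fiberι z) := by
      rw [Scheme.Hom.range_fiberι]; exact ((f.fiberι (g y')).isEmbedding.injective hpw).trans hev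
    rw [(hmax z v).1 h2 v' ((e.fiberι z).isEmbedding.isInducing.specializes_iff.1
      ((q.fiberι y').isEmbedding.isInducing.specializes_iff.1 hw))]
  refine ⟨?_, hmin, ?_⟩
  · rw [hpa, hev]; exact h1
  · haveI : LocallyOfFiniteType q := MorphismProperty.of_isPullback h inferInstance
    exact (FibDim.rd_baseChange_eq_of_minimal h _ hmin).symm

/-- Associated points of fibres lift along base change. -/
theorem exists_lift_FA (h : IsPullback p q f g) [LocallyOfFiniteType f] {x' : X'} {z : X}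
    (hz : z ∈ FA f F) (hfz : f z = f (p x')) (hsp : z ⤳ p x') :
    ∃ z' ∈ FA q ((Scheme.Modules.pullback p).obj F), q z' = q x' ∧ z' ⤳ x' ∧ p z' = z := by
  obtain ⟨y', hy'⟩ : ∃ y', q x' = y' := ⟨_, rfl⟩
  obtain ⟨e, hfl, hι, hmax, hFA⟩ := exists_fibre_data F h y'
  have hgy : f (p x') = g y' := by
    rw [← hy', ← Scheme.Hom.comp_apply, h.w, Scheme.Hom.comp_apply]
  obtain ⟨c, rfl⟩ : z ∈ Set.range (f.fiberι (g y')) := by
    rw [Scheme.Hom.range_fiberι]; exact hfz.trans hgy
  obtain ⟨a, rfl⟩ : x' ∈ Set.range (q.fiberι y') := by rw [Scheme.Hom.range_fiberι]; exact hy'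
  have hpa : ∀ b, p (q.fiberι y' b) = f.fiberι (g y') (e b) := fun b => by
    rw [← Scheme.Hom.comp_apply, ← hι, Scheme.Hom.comp_apply]
  rw [hpa] at hsp
  haveI := hfl
  obtain ⟨b, hba, hb⟩ := Flat.generalizingMap e ((f.fiberι (g y')).isEmbedding.isInducing.specializes_iff.1 hsp)
  obtain ⟨v₀, rfl⟩ : b ∈ Set.range (e.fiberι c) := by rw [Scheme.Hom.range_fiberι]; exact hb
  obtain ⟨v, hvv, hv⟩ := FibDim.exists_maximal_generization v₀
  refine ⟨q.fiberι y' (e.fiberι c v), (hFA c v).2 ⟨hz, (hmax c v).2 hv⟩, ?_,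
    ((hvv.map (e.fiberι c).continuous).trans hba).map (q.fiberι y').continuous, ?_⟩
  · rw [FibDim.fiber_apply_fiberι, hy']
  · rw [hpa, FibDim.fiber_apply_fiberι e v]

end Groth.Agent.FibreAss
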