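import Groth.Agent.DimFormula.Trdeg
import Mathlib.RingTheory.Localization.Integral
import Mathlib.RingTheory.Localization.BaseChange
import Mathlib.RingTheory.NoetherNormalization
import Mathlib.RingTheory.MvPolynomial.Localization

/-!
# Generic Noether normalisation modulo a prime
-/

set_option autoImplicit false
set_option linter.style.haveILetI false

universe u

open TensorProduct MvPolynomial

namespace Groth.Agent.FibreAss

variable (R : Type u) {A : Type u} [CommRing R] [CommRing A] [Algebra R A]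

/-- After inverting `r`, the ring `A/I` is integral over `R[t]`. -/
def IntMod {d : ℕ} (t : Fin d → A) (r : R) (I : Ideal A) : Prop :=
  ∀ a : A, ∃ e : ℕ, ((Ideal.Quotient.mk I).comp (aeval (R := R) t).toRingHom).IsIntegralElem
    (Ideal.Quotient.mk I (algebraMap R A r ^ e * a))

variable {R}

theorem IntMod.mono {d : ℕ} {t : Fin d → A} {r : R} {I J : Ideal A} (h : IntMod R t r I) (hIJ : I ≤ J) :
    IntMod R t r J := fun a => by
  obtain ⟨e, G, hG, hGa⟩ := h a
  refine ⟨e, G, hG, ?_⟩
  have h1 := congrArg (Ideal.Quotient.factor hIJ) hGa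
  rw [Polynomial.hom_eval₂, map_zero, ← RingHom.comp_assoc, Ideal.Quotient.factor_mk,
    Ideal.Quotient.factor_comp_mk] at h1
  exact h1

/-- Integrality modulo a prime lifts to ideals containing one of its powers. -/
theorem IntMod.of_pow {d : ℕ} {t : Fin d → A} {r : R} {I J : Ideal A} (h : IntMod R t r I) {m : ℕ}
    (hIJ : I ^ m ≤ J) : IntMod R t r J := fun a => by
  obtain ⟨e, G, hG, hGa⟩ := h a
  refine ⟨e, G ^ m, hG.pow m, ?_⟩
  rw [← Polynomial.hom_eval₂] at hGa
  rw [← Polynomial.hom_eval₂, Polynomial.eval₂_pow, Ideal.Quotient.eq_zero_iff_mem]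
  exact hIJ (Ideal.pow_mem_pow (Ideal.Quotient.eq_zero_iff_mem.1 hGa) m)

/-- Noether normalisation of the generic fibre of `A/P`, spread out. -/
theorem exists_chart [IsDomain R] [Algebra.FiniteType R A] (P : Ideal A) [P.IsPrime]
    (hP : ∀ r : R, algebraMap R A r ∈ P → r = 0) :
    ∃ (d : ℕ) (t : Fin d → A) (r : R), r ≠ 0 ∧
      (∀ G : MvPolynomial (Fin d) R, aeval t G ∈ P → G = 0) ∧ IntMod R t r P := by
  classical
  let D := A ⧸ P
  let M := nonZeroDivisors R
  let K := Localization M
  let T := K ⊗[R] D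
  haveI : IsLocalizedModule M (TensorProduct.mk R K D 1) := inferInstance
  have hinjR : ∀ r : R, algebraMap R D r = 0 → r = 0 := fun r hr =>
    hP r (Ideal.Quotient.eq_zero_iff_mem.1 hr)
  let ι : D →ₐ[R] T := Algebra.TensorProduct.includeRight
  have hι : Function.Injective ι := by
    refine (injective_iff_map_eq_zero ι).2 fun v hv => ?_
    obtain ⟨⟨c, hc⟩, hcv⟩ := (IsLocalizedModule.eq_zero_iff M (TensorProduct.mk R K D 1)).1 hv
    rw [Submonoid.mk_smul, Algebra.smul_def] at hcv
    exact (mul_eq_zero.1 hcv).resolve_left fun h => nonZeroDivisors.ne_zero hc (hinjR c h)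
  haveI : Nontrivial T := hι.nontrivial
  letI : Field K := IsFractionRing.toField R
  obtain ⟨d, ψ, hψ, hψfin⟩ := exists_finite_inj_algHom_of_fg K T
  have hsurj : ∀ y : T, ∃ s : M, ∃ v : D, (s : R) • y = ι v := fun y => by
    obtain ⟨⟨v, s⟩, h⟩ := IsLocalizedModule.surj M (TensorProduct.mk R K D 1) y
    exact ⟨s, v, h⟩
  choose s v hsv using fun i => hsurj (ψ (X i))
  choose t ht using fun i => Ideal.Quotient.mk_surjective (v i)
  let ω : MvPolynomial (Fin d) K →ₐ[K] T := aeval fun i => ι (Ideal.Quotient.mk P (t i))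
  have hs0 : ∀ i, algebraMap R K (s i : R) ≠ 0 := fun i =>
    (map_ne_zero_iff _ (IsFractionRing.injective R K)).2 (nonZeroDivisors.ne_zero (s i).2)
  let σ : MvPolynomial (Fin d) K →ₐ[K] MvPolynomial (Fin d) K := aeval fun i => C (algebraMap R K (s i : R)) * X i
  let τ : MvPolynomial (Fin d) K →ₐ[K] MvPolynomial (Fin d) K := aeval fun i => C (algebraMap R K (s i : R))⁻¹ * X i
  have hω : ω = ψ.comp σ := MvPolynomial.algHom_ext fun i => by
    simp only [ω, σ, AlgHom.comp_apply, aeval_X, map_mul]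
    rw [← MvPolynomial.algebraMap_eq, AlgHom.commutes, ← IsScalarTower.algebraMap_apply, ← Algebra.smul_def, hsv, ht]
  have hστ : σ.comp τ = AlgHom.id K _ := MvPolynomial.algHom_ext fun i => by
    simp only [σ, τ, AlgHom.comp_apply, aeval_X, map_mul, algHom_C, MvPolynomial.algebraMap_eq, AlgHom.id_apply]
    rw [← mul_assoc, ← map_mul, inv_mul_cancel₀ (hs0 i), map_one, one_mul]
  have hτσ : τ.comp σ = AlgHom.id K _ := MvPolynomial.algHom_ext fun i => by
    simp only [σ, τ, AlgHom.comp_apply, aeval_X, map_mul, algHom_C, MvPolynomial.algebraMap_eq, AlgHom.id_apply]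
    rw [← mul_assoc, ← map_mul, mul_inv_cancel₀ (hs0 i), map_one, one_mul]
  have hωinj : Function.Injective ω := by
    rw [hω, AlgHom.coe_comp]
    exact hψ.comp (Function.LeftInverse.injective (g := τ) fun G => DFunLike.congr_fun hτσ G)
  have hωfin : ω.Finite := by
    rw [hω]
    exact hψfin.comp (RingHom.Finite.of_surjective _ fun G => ⟨τ G, DFunLike.congr_fun hστ G⟩)
  -- descent to `R[t]`
  letI : Algebra (MvPolynomial (Fin d) R) (MvPolynomial (Fin d) K) := algebraMvPolynomial
  letI : Algebra (MvPolynomial (Fin d) K) T := ω.toRingHom.toAlgebra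
  let φ : MvPolynomial (Fin d) R →+* D := (Ideal.Quotient.mk P).comp (aeval (R := R) t).toRingHom
  letI : Algebra (MvPolynomial (Fin d) R) D := φ.toAlgebra
  letI : Algebra (MvPolynomial (Fin d) R) T := (ι.toRingHom.comp φ).toAlgebra
  letI : Algebra D T := ι.toRingHom.toAlgebra
  haveI : IsScalarTower (MvPolynomial (Fin d) R) D T := IsScalarTower.of_algebraMap_eq fun _ => rfl
  have hcomm : ∀ G : MvPolynomial (Fin d) R, ω (map (algebraMap R K) G) = ι (φ G) := fun G => by
    simp only [ω, MvPolynomial.aeval_map_algebraMap]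
    exact (MvPolynomial.comp_aeval_apply t (ι.comp (Ideal.Quotient.mkₐ R P)) G).symm
  haveI : IsScalarTower (MvPolynomial (Fin d) R) (MvPolynomial (Fin d) K) T :=
    IsScalarTower.of_algebraMap_eq fun G => (hcomm G).symm
  haveI : Module.Finite (MvPolynomial (Fin d) K) T := hωfin
  have hint : ∀ a : A, ∃ c : R, c ≠ 0 ∧ φ.IsIntegralElem (Ideal.Quotient.mk P (algebraMap R A c * a)) := fun a => by
    obtain ⟨⟨m, hm⟩, hmint⟩ := IsIntegral.exists_multiple_integral_of_isLocalization (R := MvPolynomial (Fin d) R)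
      (M.map (MvPolynomial.C (σ := Fin d))) (Rₘ := MvPolynomial (Fin d) K) (ι (Ideal.Quotient.mk P a))
      (IsIntegral.of_finite _ _)
    obtain ⟨c, hc, rfl⟩ := Submonoid.mem_map.1 hm
    refine ⟨c, nonZeroDivisors.ne_zero hc, (isIntegral_algHom_iff (IsScalarTower.toAlgHom (MvPolynomial (Fin d) R) D T) hι).1 ?_⟩
    have he : ι (Ideal.Quotient.mk P (algebraMap R A c * a)) =
        ((MvPolynomial.C c : MvPolynomial (Fin d) R)) • ι (Ideal.Quotient.mk P a) := by
      rw [Algebra.smul_def, map_mul, map_mul]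
      congr 1
      show _ = ι (φ (MvPolynomial.C c))
      simp [φ]
    show IsIntegral (MvPolynomial (Fin d) R) (ι (Ideal.Quotient.mk P (algebraMap R A c * a)))
    rw [he]
    exact hmint
  obtain ⟨gens, hgens⟩ := (Algebra.FiniteType.out : (⊤ : Subalgebra R A).FG)
  choose c hc0 hc using hint
  refine ⟨d, t, ∏ a ∈ gens, c a, Finset.prod_ne_zero_iff.2 fun a _ => hc0 a, fun G hG => ?_, fun a => ?_⟩
  · have h1 : ω (map (algebraMap R K) G) = 0 := by
      rw [hcomm]
      show ι (Ideal.Quotient.mk P (aeval t G)) = 0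
      rw [Ideal.Quotient.eq_zero_iff_mem.2 hG, map_zero]
    exact MvPolynomial.map_injective _ (IsFractionRing.injective R K)
      ((map_eq_zero_iff ω hωinj).1 h1 |>.trans (map_zero _).symm)
  · have hC : ∀ r : R, φ.IsIntegralElem (Ideal.Quotient.mk P (algebraMap R A r)) := fun r => by
      convert φ.isIntegralElem_map (x := MvPolynomial.C r) using 1
      simp [φ]
    show ∃ e : ℕ, φ.IsIntegralElem _
    have ha : a ∈ Algebra.adjoin R (gens : Set A) := hgens ▸ Algebra.mem_top
    induction ha using Algebra.adjoin_induction with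
    | mem x hx =>
      refine ⟨1, ?_⟩
      rw [pow_one, ← Finset.prod_erase_mul gens c (Finset.mem_coe.1 hx), map_mul (algebraMap R A), mul_assoc,
        map_mul (Ideal.Quotient.mk P)]
      exact RingHom.IsIntegralElem.mul φ (hC _) (hc x)
    | algebraMap r => exact ⟨0, by rw [pow_zero, one_mul]; exact hC r⟩
    | add x y _ _ hx hy =>
      obtain ⟨e, hx⟩ := hx
      obtain ⟨e', hy⟩ := hy
      refine ⟨e + e', ?_⟩
      rw [show algebraMap R A (∏ a ∈ gens, c a) ^ (e + e') * (x + y) =
        algebraMap R A ((∏ a ∈ gens, c a) ^ e') * (algebraMap R A (∏ a ∈ gens, c a) ^ e * x) +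
          algebraMap R A ((∏ a ∈ gens, c a) ^ e) * (algebraMap R A (∏ a ∈ gens, c a) ^ e' * y) by
            rw [map_pow, map_pow, pow_add]; ring, map_add, map_mul (Ideal.Quotient.mk P), map_mul (Ideal.Quotient.mk P)]
      exact RingHom.IsIntegralElem.add φ (RingHom.IsIntegralElem.mul φ (hC _) hx) (RingHom.IsIntegralElem.mul φ (hC _) hy)
    | mul x y _ _ hx hy =>
      obtain ⟨e, hx⟩ := hx
      obtain ⟨e', hy⟩ := hy
      refine ⟨e + e', ?_⟩
      rw [pow_add, mul_mul_mul_comm, map_mul]
      exact RingHom.IsIntegralElem.mul φ hx hy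

end Groth.Agent.FibreAss
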