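import Groth.Agent.S1562
import Groth.Agent.S1669
import Groth.Agent.FibreLoc5.Smooth
import Groth.Agent.H23.StalkPrimes
import Groth.Agent.H23.RedSub
import Groth.Agent.RegLoc6.Serre
import Groth.Agent.GrpSchLib.FieldSmooth
import Groth.Agent.AssLib.FlatFibre
import Groth.Agent.AssLib.FlatField
import Groth.Agent.DimFormula.Fibre
import Groth.Agent.FibDim.Semicont
import Groth.Agent.VarDim.Fibre

/-!
# Geometric `(R_k)` of the fibres through the smooth locus
-/

set_option autoImplicit false
set_option linter.style.haveILetI false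

universe u

open AlgebraicGeometry CategoryTheory Limits IsLocalRing

namespace Groth.Agent.FibreAss

section Local

theorem regular_of_specializes {Z : Scheme.{u}} {t w : Z} (h : t ⤳ w)
    [IsRegularLocalRing (Z.presheaf.stalk w)] : IsRegularLocalRing (Z.presheaf.stalk t) := by
  letI := (Z.presheaf.stalkSpecializes h).hom.toAlgebra
  haveI := (CDiv6.primeOf h).2
  haveI := H23.StalkPrimes.isLocalization_primeOf h
  haveI := RegLoc6.isRegularLocalRing_localization (Z.presheaf.stalk w) (CDiv6.primeOf h).asIdeal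
  exact IsRegularLocalRing.of_ringEquiv (IsLocalization.algEquiv (CDiv6.primeOf h).asIdeal.primeCompl
    (Localization.AtPrime (CDiv6.primeOf h).asIdeal) (Z.presheaf.stalk t)).toRingEquiv

theorem hasRk_stalk_iff {Z : Scheme.{u}} [IsLocallyNoetherian Z] (k : ℕ) (w : Z) :
    LocCoh.HasRk k (Z.presheaf.stalk w) ↔
      ∀ t, t ⤳ w → DimFormula.codim t ≤ k → IsRegularLocalRing (Z.presheaf.stalk t) := by
  have hht : ∀ t (h : t ⤳ w), (CDiv6.primeOf h).asIdeal.height = (DimFormula.codim t : ℕ∞) := fun t h => by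
    letI := (Z.presheaf.stalkSpecializes h).hom.toAlgebra
    haveI := (CDiv6.primeOf h).2
    haveI := H23.StalkPrimes.isLocalization_primeOf h
    have := IsLocalization.AtPrime.ringKrullDim_eq_height (CDiv6.primeOf h).asIdeal (Z.presheaf.stalk t)
    rw [DimFormula.ringKrullDim_stalk] at this
    exact_mod_cast this.symm
  constructor
  · intro h t ht hk
    letI := (Z.presheaf.stalkSpecializes ht).hom.toAlgebra
    haveI := (CDiv6.primeOf ht).2
    haveI := H23.StalkPrimes.isLocalization_primeOf ht
    haveI := h (CDiv6.primeOf ht).asIdeal (by rw [hht t ht]; exact_mod_cast hk)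
    exact IsRegularLocalRing.of_ringEquiv (IsLocalization.algEquiv (CDiv6.primeOf ht).asIdeal.primeCompl
      (Localization.AtPrime (CDiv6.primeOf ht).asIdeal) (Z.presheaf.stalk t)).toRingEquiv
  · intro h P hP hk
    obtain ⟨t, ht, rfl⟩ := H23.StalkPrimes.exists_point P
    rw [hht t ht] at hk
    letI := (Z.presheaf.stalkSpecializes ht).hom.toAlgebra
    haveI := H23.StalkPrimes.isLocalization_primeOf ht
    haveI := h t ht (by exact_mod_cast hk)
    exact IsRegularLocalRing.of_ringEquiv (IsLocalization.algEquiv (CDiv6.primeOf ht).asIdeal.primeCompl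
      (Localization.AtPrime (CDiv6.primeOf ht).asIdeal) (Z.presheaf.stalk t)).toRingEquiv.symm

theorem eq_of_specializes_of_finite {W Z : Scheme.{u}} (p : W ⟶ Z) [IsFinite p] {a b : W} (h : a ⤳ b)
    (he : p a = p b) : a = b := by
  haveI : Finite ↥(p ⁻¹' {p b}) := (IsFinite.finite_preimage_singleton p (p b)).to_subtype
  obtain ⟨a', rfl⟩ : a ∈ Set.range (p.fiberι (p b)) := by rw [Scheme.Hom.range_fiberι]; exact he
  have h' : a' ⤳ p.asFiber b := by
    rw [← (p.fiberι (p b)).isEmbedding.isInducing.specializes_iff, Scheme.Hom.fiberι_asFiber]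
    exact h
  haveI : DiscreteTopology ↥(p.fiber (p b)) := inferInstance
  rw [specializes_iff_eq.1 h', Scheme.Hom.fiberι_asFiber]

theorem codim_le_of_finite {W Z : Scheme.{u}} [IsLocallyNoetherian W] [IsLocallyNoetherian Z] (p : W ⟶ Z)
    [IsFinite p] (w : W) : DimFormula.codim w ≤ DimFormula.codim (p w) := by
  have hs : StrictMono (p : W → Z) := fun a b hab => by
    refine lt_of_le_not_ge (α := Z) (hab.le.map p.continuous) fun hge => hab.not_ge ?_
    have he : p b = p a := DimFormula.eq_of_specializes_of_specializes (hab.le.map p.continuous) hge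
    exact le_of_eq (eq_of_specializes_of_finite p hab.le he)
  have h := Order.coheight_le_coheight_apply_of_strictMono _ hs w
  rw [← DimFormula.coe_codim, ← DimFormula.coe_codim] at h
  exact_mod_cast h

theorem codim_le_of_flat {W Z : Scheme.{u}} [IsLocallyNoetherian W] [IsLocallyNoetherian Z] (p : W ⟶ Z)
    [Flat p] (w : W) : DimFormula.codim (p w) ≤ DimFormula.codim w := by
  letI := (p.stalkMap w).hom.toAlgebra
  haveI : IsLocalHom (algebraMap (Z.presheaf.stalk (p w)) (W.presheaf.stalk w)) :=
    inferInstanceAs (IsLocalHom (p.stalkMap w).hom)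
  haveI : Module.Flat (Z.presheaf.stalk (p w)) (W.presheaf.stalk w) := Flat.stalkMap p w
  haveI : (maximalIdeal (W.presheaf.stalk w)).LiesOver (maximalIdeal (Z.presheaf.stalk (p w))) :=
    ⟨(maximalIdeal_comap (algebraMap (Z.presheaf.stalk (p w)) (W.presheaf.stalk w))).symm⟩
  have key := Ideal.height_eq_height_add_of_liesOver_of_hasGoingDown (maximalIdeal (Z.presheaf.stalk (p w)))
    (maximalIdeal (W.presheaf.stalk w))
  have h : (maximalIdeal (Z.presheaf.stalk (p w))).height ≤ (maximalIdeal (W.presheaf.stalk w)).height :=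
    key ▸ le_self_add
  have h' : ringKrullDim (Z.presheaf.stalk (p w)) ≤ ringKrullDim (W.presheaf.stalk w) := by
    rw [← IsLocalRing.maximalIdeal_height_eq_ringKrullDim, ← IsLocalRing.maximalIdeal_height_eq_ringKrullDim]
    exact_mod_cast h
  rw [DimFormula.ringKrullDim_stalk, DimFormula.ringKrullDim_stalk] at h'
  exact_mod_cast h'

end Local

section Field

variable {k : Type u} [Field k] {Z : Scheme.{u}} (g : Z ⟶ Spec (CommRingCat.of k))

theorem isFinite_bcπ (K : Type u) [Field K] [Algebra k K] (hK : Module.Finite k K) : IsFinite (FBase.bcπ g K) := by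
  haveI : IsFinite (Spec.map (CommRingCat.ofHom (algebraMap k K))) := by
    rw [IsFinite.SpecMap_iff]
    exact RingHom.finite_algebraMap.2 hK
  exact inferInstanceAs (IsFinite (pullback.fst g _))

theorem flat_bcπ (K : Type u) [Field K] [Algebra k K] : Flat (FBase.bcπ g K) := by
  haveI : Flat (Spec.map (CommRingCat.ofHom (algebraMap k K))) := AssLib.flat_over_field _
  exact inferInstanceAs (Flat (pullback.fst g _))

variable [LocallyOfFiniteType g]

theorem regular_bc_of_smooth [LocallyOfFinitePresentation g] (K : Type u) [Field K] [Algebra k K]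
    (w : ↥(FBase.bc g K)) (h : FBase.bcπ g K w ∈ g.smoothLocus) :
    IsRegularLocalRing ((FBase.bc g K).presheaf.stalk w) := by
  haveI : LocallyOfFinitePresentation (FBase.bcStr g K) := inferInstanceAs (LocallyOfFinitePresentation (pullback.snd g _))
  refine SmoothReg.isRegularLocalRing_stalk_of_mem_smoothLocus (FBase.bcStr g K) ?_
  rw [S2155.result g (Spec.map (CommRingCat.ofHom (algebraMap k K))) (FBase.bcStr g K) (FBase.bcπ g K)
    (IsPullback.of_hasPullback _ _) (Or.inr (AssLib.flat_over_field _))]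
  exact h

/-- A point which is regular after every finite extension of the field is smooth. -/
theorem smooth_of_finite_regular [LocallyOfFinitePresentation g] (z : Z)
    (h : ∀ (K : Type u) [Field K] [Algebra k K], Module.Finite k K → ∀ w : ↥(FBase.bc g K),
      FBase.bcπ g K w = z → IsRegularLocalRing ((FBase.bc g K).presheaf.stalk w)) :
    z ∈ g.smoothLocus := by
  haveI : IsLocallyNoetherian Z := LocallyOfFiniteType.isLocallyNoetherian g
  let c := Z.fromSpecStalk z
  haveI : Flat c := GrpSchLib.flat_fromSpecStalk z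
  letI : (Spec (Z.presheaf.stalk z)).Over (Spec (CommRingCat.of k)) := ⟨c ≫ g⟩
  letI : Z.Over (Spec (CommRingCat.of k)) := ⟨g⟩
  have main : ∀ (K : Type u) [Field K] [Algebra k K],
      ∃ e : Curv2.bc k (Spec (Z.presheaf.stalk z)) K ⟶ FBase.bc g K,
        IsPullback (Curv2.bcFst k (Spec (Z.presheaf.stalk z)) K) e c (FBase.bcπ g K) ∧
        (∀ u, Function.Bijective (e.stalkMap u)) := by
    intro K _ _
    let m := Spec.map (CommRingCat.ofHom (algebraMap k K))
    let e : pullback (c ≫ g) m ⟶ pullback g m :=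
      pullback.lift (pullback.fst (c ≫ g) m ≫ c) (pullback.snd (c ≫ g) m)
        (by rw [Category.assoc]; exact pullback.condition)
    have he : IsPullback e (pullback.fst (c ≫ g) m) (pullback.fst g m) c :=
      IsPullback.of_right (by rw [pullback.lift_snd]; exact (IsPullback.of_hasPullback (c ≫ g) m).flip)
        (pullback.lift_fst _ _ _) (IsPullback.of_hasPullback g m).flip
    haveI : Flat e := MorphismProperty.of_isPullback (P := @Flat) he.flip ‹_›
    haveI : IsPreimmersion e := MorphismProperty.of_isPullback (P := @IsPreimmersion) he.flip inferInstance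
    exact ⟨e, he.flip, fun u => AssLib.bijective_stalkMap e u⟩
  have hreg : Curv2.IsGeomRegularAt k (Spec (Z.presheaf.stalk z)) (closedPoint (Z.presheaf.stalk z)) := by
    refine S1669.result k _ (fun K _ _ hK _ u => ?_) _
    haveI := isFinite_bcπ g K hK
    obtain ⟨e, he, hb⟩ := main K
    have hsp : FBase.bcπ g K (e u) ⤳ z := by
      rw [← Scheme.Hom.comp_apply, ← he.w, Scheme.Hom.comp_apply]
      exact DimFormula.fromSpecStalk_specializes z _
    obtain ⟨w, hw, hwz⟩ := (FBase.bcπ g K).isClosedMap.specializingMap hsp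
    haveI := h K hK w hwz
    haveI := regular_of_specializes hw
    exact IsRegularLocalRing.of_ringEquiv (RingEquiv.ofBijective (e.stalkMap u).hom (hb u))
  have hgz : Curv2.IsGeomRegularAt k Z z := by
    intro K _ _ hK w hw
    obtain ⟨e, he, hb⟩ := main K
    obtain ⟨v, hv1, hv2⟩ := Scheme.Pullback.exists_preimage_pullback (f := c) (g := FBase.bcπ g K)
      (closedPoint (Z.presheaf.stalk z)) w (Scheme.fromSpecStalk_closedPoint.trans hw.symm)
    let u := he.isoPullback.inv v
    have hu1 : Curv2.bcFst k (Spec (Z.presheaf.stalk z)) K u = closedPoint (Z.presheaf.stalk z) := by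
      rw [← Scheme.Hom.comp_apply, he.isoPullback_inv_fst]; exact hv1
    have hu2 : e u = w := by
      rw [← Scheme.Hom.comp_apply, he.isoPullback_inv_snd]; exact hv2
    subst hu2
    haveI := hreg K hK u hu1
    exact IsRegularLocalRing.of_ringEquiv (RingEquiv.ofBijective (e.stalkMap u).hom (hb u)).symm
  haveI : LocallyOfFinitePresentation (Z ↘ Spec (CommRingCat.of k)) := ‹LocallyOfFinitePresentation g›
  exact (S1562.result k Z z).1 hgz

/-- Geometric `(R_n)` at a point of a scheme over a field. -/
theorem geomRk_iff [LocallyOfFinitePresentation g] (n : ℕ) (x : Z) :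
    (∀ (K : Type u) [Field K] [Algebra k K], Module.Finite k K → ∀ w : ↥(FBase.bc g K),
      FBase.bcπ g K w = x → LocCoh.HasRk n ((FBase.bc g K).presheaf.stalk w)) ↔
    ∀ t, t ⤳ x → DimFormula.codim t ≤ n → t ∈ g.smoothLocus := by
  haveI : IsLocallyNoetherian Z := LocallyOfFiniteType.isLocallyNoetherian g
  have hN : ∀ (K : Type u) [Field K] [Algebra k K], IsLocallyNoetherian (FBase.bc g K) := fun K _ _ => by
    haveI : LocallyOfFiniteType (FBase.bcStr g K) := inferInstanceAs (LocallyOfFiniteType (pullback.snd g _))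
    exact LocallyOfFiniteType.isLocallyNoetherian (FBase.bcStr g K)
  constructor
  · intro h t ht htn
    refine smooth_of_finite_regular g t fun K _ _ hK w hw => ?_
    haveI := isFinite_bcπ g K hK
    haveI := hN K
    obtain ⟨w', hw', hwx⟩ := (FBase.bcπ g K).isClosedMap.specializingMap (hw ▸ ht : FBase.bcπ g K w ⤳ x)
    exact (hasRk_stalk_iff n w').1 (h K hK w' hwx) w hw' ((codim_le_of_finite (FBase.bcπ g K) w).trans (hw ▸ htn))
  · intro h K _ _ _ w hw
    haveI := hN K
    haveI := flat_bcπ g K
    refine (hasRk_stalk_iff n w).2 fun t ht htn => regular_bc_of_smooth g K t ?_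
    exact h _ (hw ▸ ht.map (FBase.bcπ g K).continuous) ((codim_le_of_flat (FBase.bcπ g K) t).trans htn)

end Field

section Fibre

variable {X Y : Scheme.{u}} (f : X ⟶ Y)

theorem mem_smoothLocus_fibre_iff [LocallyOfFinitePresentation f] (y : Y) (t : ↥(f.fiber y))
    [LocallyOfFinitePresentation (f.fiberToSpecResidueField y)] :
    t ∈ (f.fiberToSpecResidueField y).smoothLocus ↔ FibreLoc5.SmFib f (f.fiberι y t) := by
  have key : ∀ (x : X), f x = y → f.fiberι y t = x →
      (t ∈ (f.fiberToSpecResidueField y).smoothLocus ↔ FibreLoc5.SmFib f x) := by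
    intro x hx hxt
    subst hx
    rw [(f.fiberι (f x)).isEmbedding.injective (hxt.trans (f.fiberι_asFiber x).symm)]
    rfl
  exact key _ (FibDim.fiber_apply_fiberι f t) rfl

/-- The points through which the fibre has a point of a closed set of large dimension form a closed set. -/
theorem isClosed_exists_rd_ge [LocallyOfFiniteType f] {C : Set X} (hC : IsClosed C) (m : ℕ) :
    IsClosed {x : X | ∃ z ∈ C, f z = f x ∧ z ⤳ x ∧ m ≤ FibDim.rd f z} := by
  let I := Scheme.IdealSheafData.vanishingIdeal ⟨C, hC⟩
  let j := I.subschemeι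
  have hr : Set.range j = C := by
    rw [Scheme.IdealSheafData.range_subschemeι, Scheme.IdealSheafData.coe_support_vanishingIdeal]
    rfl
  haveI : LocallyOfFiniteType (j ≫ f) := inferInstance
  have hrd : ∀ v, FibDim.rd (j ≫ f) v = FibDim.rd f (j v) := fun v => by
    have h := VarDim.rdeg_comp j f v
    rw [VarDim.rdeg_preimmersion j v, ← FibDim.rd_eq_rdeg, ← FibDim.rd_eq_rdeg] at h
    exact_mod_cast h.trans (add_zero _)
  have hset : {x : X | ∃ z ∈ C, f z = f x ∧ z ⤳ x ∧ m ≤ FibDim.rd f z} =
      j '' {v | m ≤ FibDim.rd (j ≫ f) v + DimFormula.fb (j ≫ f) v} := by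
    ext x
    constructor
    · rintro ⟨z, hz, hfz, hzx, hm⟩
      obtain ⟨v, rfl⟩ : x ∈ Set.range j := hr.symm ▸ hzx.mem_closed hC hz
      obtain ⟨t, rfl⟩ : z ∈ Set.range j := hr.symm ▸ hz
      refine ⟨v, ?_, rfl⟩
      have := DimFormula.rd_le_rd_add_fb (j ≫ f) (j.isEmbedding.isInducing.specializes_iff.1 hzx) hfz
      rw [hrd t] at this
      exact hm.trans this
    · rintro ⟨v, hv, rfl⟩
      obtain ⟨t, htv, hft, -, -, he⟩ := DimFormula.exists_fibMax_top (j ≫ f) v
      exact ⟨j t, hr ▸ Set.mem_range_self t, hft, htv.map j.continuous, by rw [← hrd t, he]; exact hv⟩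
  rw [hset]
  refine j.isClosedEmbedding.isClosedMap _ (isOpen_compl_iff.1 (isOpen_iff_mem_nhds.2 fun v hv => ?_))
  obtain ⟨n, hn⟩ : ∃ n, FibDim.rd (j ≫ f) v + DimFormula.fb (j ≫ f) v = n := ⟨_, rfl⟩
  obtain ⟨W, hvW, hW⟩ := FibDim.exists_nhd_rd_le (j ≫ f) v n
    (le_of_eq (by rw [DimFormula.fibreDimAt_eq_add, hn]; rfl))
  refine Filter.mem_of_superset (W.isOpen.mem_nhds hvW) fun w hw hmw => hv ?_
  show m ≤ _
  rw [hn]
  obtain ⟨t, htw, -, -, -, he⟩ := DimFormula.exists_fibMax_top (j ≫ f) w
  exact hmw.trans (he ▸ hW t (htw.mem_open W.isOpen hw))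

end Fibre

end Groth.Agent.FibreAss
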