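import Groth.Agent.FibreAss.Pred
import Groth.Agent.FibreAss.GeomRk
import Groth.Agent.FibreLoc5.Constr
import Groth.Agent.ConsPropLib.FibreLoci
import Groth.Agent.FibDim.RelDim

/-!
# Constructibility by fibrewise closures
-/

set_option autoImplicit false
set_option linter.style.haveILetI false

universe u

open AlgebraicGeometry CategoryTheory Limits Topology

namespace Groth.Agent.FibreAss

variable {X Y X' Y' : Scheme.{u}}

/-- The fibre dimension at a point, as a natural number. -/
noncomputable def dimAt (f : X ⟶ Y) (x : X) : ℕ := FibDim.rd f x + DimFormula.fb f x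

/-- Specializations of points of `E` inside their fibre. -/
def fcl (f : X ⟶ Y) (E : Set X) : Set X := {x | ∃ u ∈ E, f u = f x ∧ u ⤳ x}

/-- Specializations inside the fibre of points of `E` of degree at least `m`. -/
def geM (f : X ⟶ Y) (E : Set X) (m : ℕ) : Set X :=
  {x | ∃ u ∈ E, f u = f x ∧ u ⤳ x ∧ m ≤ FibDim.rd f u}

section BaseChange

variable {p : X' ⟶ X} {q : X' ⟶ Y'} {f : X ⟶ Y} {g : Y' ⟶ Y}

theorem comm_apply (h : IsPullback p q f g) (w : X') : f (p w) = g (q w) := by
  rw [← Scheme.Hom.comp_apply, h.w, Scheme.Hom.comp_apply]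

theorem flat_fibre_map [LocallyOfFiniteType f] (h : IsPullback p q f g) (y' : Y') :
    ∃ e : q.fiber y' ⟶ f.fiber (g y'), Flat e ∧ e ≫ f.fiberι (g y') = q.fiberι y' ≫ p := by
  obtain ⟨e, he, hι⟩ := ConsPropLib.exists_fibre_pullback h y'
  refine ⟨e, MorphismProperty.of_isPullback he.flip ?_, hι⟩
  rw [HasRingHomProperty.Spec_iff (P := @Flat)]
  algebraize [(g.residueFieldMap y').hom]
  exact RingHom.flat_algebraMap_iff.2 inferInstance

/-- Generizations inside fibres lift along base change, to maximal such points. -/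
theorem exists_minimal_lift [LocallyOfFiniteType f] (h : IsPullback p q f g) {x' : X'} {z : X}
    (hfz : f z = f (p x')) (hsp : z ⤳ p x') :
    ∃ z', q z' = q x' ∧ z' ⤳ x' ∧ p z' = z ∧ ∀ w, w ⤳ z' → p w = p z' → q w = q z' → w = z' := by
  obtain ⟨y', hy'⟩ : ∃ y', q x' = y' := ⟨_, rfl⟩
  haveI : LocallyOfFiniteType q := MorphismProperty.of_isPullback h inferInstance
  haveI : IsLocallyNoetherian (q.fiber y') :=
    LocallyOfFiniteType.isLocallyNoetherian (q.fiberToSpecResidueField y')
  obtain ⟨e, hfl, hι⟩ := flat_fibre_map h y'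
  have hgy : f (p x') = g y' := by rw [comm_apply h, hy']
  obtain ⟨c, rfl⟩ : z ∈ Set.range (f.fiberι (g y')) := by
    rw [Scheme.Hom.range_fiberι]; exact hfz.trans hgy
  obtain ⟨a, rfl⟩ : x' ∈ Set.range (q.fiberι y') := by rw [Scheme.Hom.range_fiberι]; exact hy'
  have hpa : ∀ b, p (q.fiberι y' b) = f.fiberι (g y') (e b) := fun b => by
    rw [← Scheme.Hom.comp_apply, ← hι, Scheme.Hom.comp_apply]
  rw [hpa] at hsp
  obtain ⟨b, hba, hb⟩ := Flat.generalizingMap e ((f.fiberι (g y')).isEmbedding.isInducing.specializes_iff.1 hsp)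
  obtain ⟨v₀, rfl⟩ : b ∈ Set.range (e.fiberι c) := by rw [Scheme.Hom.range_fiberι]; exact hb
  obtain ⟨v, hvv, hv⟩ := FibDim.exists_maximal_generization v₀
  refine ⟨q.fiberι y' (e.fiberι c v), ?_,
    ((hvv.map (e.fiberι c).continuous).trans hba).map (q.fiberι y').continuous, ?_, fun w hw hpw hqw => ?_⟩
  · rw [FibDim.fiber_apply_fiberι, hy']
  · rw [hpa, FibDim.fiber_apply_fiberι e v]
  · obtain ⟨w, rfl⟩ : w ∈ Set.range (q.fiberι y') := by
      rw [Scheme.Hom.range_fiberι]; exact hqw.trans (FibDim.fiber_apply_fiberι q _)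
    rw [hpa, hpa, FibDim.fiber_apply_fiberι e v] at hpw
    obtain ⟨w, rfl⟩ : w ∈ Set.range (e.fiberι c) := by
      rw [Scheme.Hom.range_fiberι]; exact (f.fiberι (g y')).isEmbedding.injective hpw
    rw [hv w ((e.fiberι c).isEmbedding.isInducing.specializes_iff.1
      ((q.fiberι y').isEmbedding.isInducing.specializes_iff.1 hw))]

theorem mem_fcl_baseChange [LocallyOfFiniteType f] (h : IsPullback p q f g) (E : Set X) (x' : X') :
    x' ∈ fcl q (p ⁻¹' E) ↔ p x' ∈ fcl f E := by
  constructor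
  · rintro ⟨u, hu, hfu, hux⟩
    exact ⟨p u, hu, by rw [comm_apply h, comm_apply h, hfu], hux.map p.continuous⟩
  · rintro ⟨u, hu, hfu, hux⟩
    obtain ⟨u', hq, hsp, rfl, -⟩ := exists_minimal_lift h hfu hux
    exact ⟨u', hu, hq, hsp⟩

theorem dimAt_baseChange [LocallyOfFiniteType f] (h : IsPullback p q f g) (x' : X') :
    dimAt q x' = dimAt f (p x') := by
  haveI : LocallyOfFiniteType q := MorphismProperty.of_isPullback h inferInstance
  have hd := FibDim.fibreDimAt_baseChange h x'
  rw [DimFormula.fibreDimAt_eq_add, DimFormula.fibreDimAt_eq_add] at hd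
  exact_mod_cast hd

theorem fb_baseChange_of_minimal [LocallyOfFiniteType f] (h : IsPullback p q f g) (z' : X')
    (hmin : ∀ w, w ⤳ z' → p w = p z' → q w = q z' → w = z') : DimFormula.fb q z' = DimFormula.fb f (p z') := by
  haveI : LocallyOfFiniteType q := MorphismProperty.of_isPullback h inferInstance
  have h1 := dimAt_baseChange h z'
  have h2 := FibDim.rd_baseChange_eq_of_minimal h z' hmin
  unfold dimAt at h1
  omega

theorem fb_le_baseChange [LocallyOfFiniteType f] (h : IsPullback p q f g) (z' : X') :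
    DimFormula.fb f (p z') ≤ DimFormula.fb q z' := by
  haveI : LocallyOfFiniteType q := MorphismProperty.of_isPullback h inferInstance
  obtain ⟨e, hfl, hι⟩ := flat_fibre_map h (q z')
  haveI := DimFormula.isLocallyNoetherian_fiber q (q z')
  haveI := DimFormula.isLocallyNoetherian_fiber f (g (q z'))
  have key : ∀ (y : Y), f (p z') = y → ∀ (w : ↥(f.fiber y)), f.fiberι y w = p z' →
      DimFormula.fb f (p z') = DimFormula.codim w := by
    intro y hy w hw
    subst hy
    rw [(f.fiberι _).isEmbedding.injective (hw.trans (f.fiberι_asFiber _).symm)]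
    rfl
  rw [key _ (comm_apply h z') (e (q.asFiber z')) (by
    rw [← Scheme.Hom.comp_apply, hι, Scheme.Hom.comp_apply, Scheme.Hom.fiberι_asFiber])]
  exact codim_le_of_flat e (q.asFiber z')

end BaseChange

section Source

variable {U : Scheme.{u}} (j : U ⟶ X) [IsOpenImmersion j] (f : X ⟶ Y) [LocallyOfFiniteType f]

theorem mem_fcl_comp (E : Set X) (u : U) : u ∈ fcl (j ≫ f) (j ⁻¹' E) ↔ j u ∈ fcl f E := by
  constructor
  · rintro ⟨v, hv, hfv, hvu⟩
    exact ⟨j v, hv, hfv, hvu.map j.continuous⟩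
  · rintro ⟨v, hv, hfv, hvu⟩
    obtain ⟨v, rfl⟩ : v ∈ Set.range j := hvu.mem_open j.isOpenEmbedding.isOpen_range ⟨u, rfl⟩
    exact ⟨v, hv, hfv, j.isOpenEmbedding.isEmbedding.isInducing.specializes_iff.1 hvu⟩

theorem dimAt_comp (u : U) : dimAt (j ≫ f) u = dimAt f (j u) := by
  have hd := FibDim.fibreDimAt_openImmersion_comp j f u
  rw [DimFormula.fibreDimAt_eq_add, DimFormula.fibreDimAt_eq_add] at hd
  exact_mod_cast hd

theorem fb_comp (u : U) : DimFormula.fb (j ≫ f) u = DimFormula.fb f (j u) := by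
  have h1 := dimAt_comp j f u
  have h2 := rd_openImmersion_comp (f := f) j u
  unfold dimAt at h1
  omega

end Source

section Noetherian

variable {S : Scheme.{u}} [IsNoetherian X] [IsNoetherian S] (f : X ⟶ S) [LocallyOfFiniteType f]

/-- Over an integral base fibrewise closure is closure, near the generic point. -/
theorem exists_nhd_fcl_eq [IsIntegral S] [QuasiCompact f] {E : Set X} (hE : IsConstructible E) :
    ∃ W : Set S, IsOpen W ∧ genericPoint S ∈ W ∧ ∀ x, f x ∈ W → (x ∈ fcl f E ↔ x ∈ closure E) := by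
  obtain ⟨W, hW, hη, hk⟩ := ConsPropLib.exists_nhd_dense f hE
    (SpecLib.isConstructible_of_isClosed (isClosed_closure (s := E))) fun x ⟨hx, hxη⟩ => by
      obtain ⟨z, hz, hzx⟩ := (ProConsLib.consClosed_of_isConstructible hE).exists_specializes_of_mem_closure hx
      have hzη : f z = genericPoint S :=
        (((hzx.map f.continuous).trans (specializes_of_eq hxη)).antisymm
          ((genericPoint_spec S).specializes (Set.mem_univ _))).eq
      exact (hzx.mem_closed isClosed_closure (subset_closure ⟨hz, hzη⟩))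
  refine ⟨W, hW, hη, fun x hxW => ⟨fun ⟨u, hu, _, hux⟩ => hux.mem_closed isClosed_closure (subset_closure hu),
    fun hx => ?_⟩⟩
  obtain ⟨w, hw⟩ : ∃ w, f.fiberι (f x) w = x := ⟨_, f.fiberι_asFiber x⟩
  have h1 : w ∈ closure (f.fiberι (f x) ⁻¹' E) := by
    rw [ConsPropLib.closure_fiber]
    rw [Set.mem_preimage, hw]
    exact hk (f x) hxW ⟨hx, rfl⟩
  haveI : IsLocallyNoetherian (f.fiber (f x)) :=
    LocallyOfFiniteType.isLocallyNoetherian (f.fiberToSpecResidueField (f x))
  haveI : CompactSpace (f.fiber (f x)) :=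
    QuasiCompact.compactSpace_of_compactSpace (f.fiberToSpecResidueField (f x))
  haveI : IsNoetherian (f.fiber (f x)) := {}
  have hc : IsConstructible (f.fiberι (f x) ⁻¹' E) := (f.fiberι (f x)).isConstructible_preimage hE
  obtain ⟨v, hv, hvw⟩ := (ProConsLib.consClosed_of_isConstructible hc).exists_specializes_of_mem_closure h1
  exact ⟨f.fiberι (f x) v, hv, FibDim.fiber_apply_fiberι f v, (hvw.map (f.fiberι (f x)).continuous).trans (specializes_of_eq hw)⟩

theorem isConstructible_fcl {E : Set X} (hE : IsConstructible E) : IsConstructible (fcl f E) := by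
  haveI : QuasiCompact f := quasiCompact_of_compactSpace f
  refine ConsPropLib.isConstructible_of_dichotomy _ fun T j _ _ _ => ?_
  obtain ⟨TS, jS, _, _, hr, hgen⟩ := ConsPropLib.exists_integral_closure (f (j (genericPoint T)))
  haveI : IsLocallyNoetherian TS := LocallyOfFiniteType.isLocallyNoetherian jS
  haveI : CompactSpace TS := QuasiCompact.compactSpace_of_compactSpace jS
  haveI : IsNoetherian TS := {}
  have sub : Set.range (j ≫ f) ⊆ Set.range jS := by
    rw [hr]
    rintro _ ⟨t, rfl⟩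
    exact specializes_iff_mem_closure.1 ((genericPoint_specializes t).map (j ≫ f).continuous)
  obtain ⟨a, ha⟩ := H23.RedSub.exists_lift_closed (j ≫ f) jS sub
  let l : T ⟶ pullback f jS := pullback.lift j a ha.symm
  let f₁ := pullback.snd f jS
  haveI : IsLocallyNoetherian (pullback f jS : Scheme.{u}) := LocallyOfFiniteType.isLocallyNoetherian f₁
  haveI : CompactSpace (pullback f jS : Scheme.{u}) := QuasiCompact.compactSpace_of_compactSpace f₁
  haveI : IsNoetherian (pullback f jS : Scheme.{u}) := {}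
  let E₁ := pullback.fst f jS ⁻¹' E
  have hE₁ : IsConstructible E₁ := (pullback.fst f jS).isConstructible_preimage hE
  obtain ⟨W, hW, hη, hk⟩ := exists_nhd_fcl_eq f₁ hE₁
  have hlj : ∀ t, l t ∈ fcl f₁ E₁ ↔ j t ∈ fcl f E := fun t => by
    rw [mem_fcl_baseChange (IsPullback.of_hasPullback f jS) E (l t), ← Scheme.Hom.comp_apply, pullback.lift_fst]
  have hlW : f₁ (l (genericPoint T)) ∈ W := by
    convert hη
    refine jS.isClosedEmbedding.injective ?_
    rw [hgen, ← Scheme.Hom.comp_apply, ← Scheme.Hom.comp_apply, show l ≫ f₁ ≫ jS = j ≫ f from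
      (pullback.lift_snd_assoc _ _ _ _).trans ha, Scheme.Hom.comp_apply]
  let O : Set T := (f₁ ∘ l) ⁻¹' W
  have hO : IsOpen O := hW.preimage (f₁.continuous.comp l.continuous)
  by_cases hg : l (genericPoint T) ∈ closure E₁
  · refine Or.inl ⟨genericPoint T, interior_maximal (t := O) (fun t ht => ?_) hO hlW⟩
    exact (hlj t).1 ((hk _ ht).2 (((genericPoint_specializes t).map l.continuous).mem_closed isClosed_closure hg))
  · refine Or.inr ⟨genericPoint T, interior_maximal (t := O ∩ l ⁻¹' (closure E₁)ᶜ) (s := (j ⁻¹' fcl f E)ᶜ) (fun t ht h => ?_)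
      (hO.inter (isClosed_closure.isOpen_compl.preimage l.continuous)) ⟨hlW, hg⟩⟩
    exact ht.2 ((hk _ ht.1).1 ((hlj t).2 h))

omit [AlgebraicGeometry.IsNoetherian X] [AlgebraicGeometry.IsNoetherian S] in
theorem geM_inter {O C : Set X} (hO : IsOpen O) (m : ℕ) :
    geM f (O ∩ C) m = fcl f (O ∩ geM f C m) := by
  ext x
  constructor
  · rintro ⟨t, ⟨htO, htC⟩, hft, htx, hm⟩
    exact ⟨t, ⟨htO, t, htC, rfl, specializes_rfl, hm⟩, hft, htx⟩
  · rintro ⟨u, ⟨huO, z, hzC, hfz, hzu, hm⟩, hfu, hux⟩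
    exact ⟨z, ⟨hzu.mem_open hO huO, hzC⟩, hfz.trans hfu, hzu.trans hux, hm⟩

theorem isConstructible_geM {E : Set X} (hE : IsConstructible E) (m : ℕ) : IsConstructible (geM f E m) := by
  induction E, hE using IsConstructible.induction_of_isTopologicalBasis
      (b := fun U : TopologicalSpace.Opens X => (U : Set X)) with
  | basis =>
    convert TopologicalSpace.isTopologicalBasis_opens (α := X) using 1
    ext s
    exact ⟨fun ⟨U, hU⟩ => hU ▸ U.isOpen, fun hs => ⟨⟨s, hs⟩, rfl⟩⟩
  | isCompact_basis U => exact TopologicalSpace.NoetherianSpace.isCompact _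
  | sdiff i s hs =>
    have hC : IsClosed (⋃ j ∈ s, (j : Set X))ᶜ := (isOpen_biUnion fun j _ => j.isOpen).isClosed_compl
    rw [Set.sdiff_eq, geM_inter f i.isOpen]
    exact isConstructible_fcl f ((SpecLib.isConstructible_of_isOpen i.isOpen).inter
      (SpecLib.isConstructible_of_isClosed (isClosed_exists_rd_ge f hC m)))
  | union s _ t _ hs ht =>
    convert hs.union ht using 1
    ext x
    constructor
    · rintro ⟨u, hu | hu, h⟩
      · exact Or.inl ⟨u, hu, h⟩
      · exact Or.inr ⟨u, hu, h⟩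
    · rintro (⟨u, hu, h⟩ | ⟨u, hu, h⟩)
      · exact ⟨u, Or.inl hu, h⟩
      · exact ⟨u, Or.inr hu, h⟩

omit [AlgebraicGeometry.IsNoetherian X] [AlgebraicGeometry.IsNoetherian S] in
theorem isOpen_dimAt_le (d : ℕ) : IsOpen {x : X | dimAt f x ≤ d} := by
  convert (isClosed_exists_rd_ge f isClosed_univ (d + 1)).isOpen_compl using 1
  ext x
  constructor
  · rintro h ⟨z, -, hfz, hzx, hz⟩
    have := DimFormula.rd_le_rd_add_fb f hzx hfz
    change dimAt f x ≤ d at h
    unfold dimAt at h
    omega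
  · intro h
    obtain ⟨z, hzx, hfz, -, -, he⟩ := DimFormula.exists_fibMax_top f x
    show dimAt f x ≤ d
    by_contra hlt
    unfold dimAt at hlt
    exact h ⟨z, trivial, hfz, hzx, by omega⟩

omit [AlgebraicGeometry.IsNoetherian S] in
theorem exists_dimAt_bound : ∃ D, ∀ x : X, dimAt f x ≤ D := by
  obtain ⟨s, hs⟩ := CompactSpace.isCompact_univ.elim_finite_subcover (fun d : ℕ => {x : X | dimAt f x ≤ d})
    (fun d => isOpen_dimAt_le f d) (fun x _ => Set.mem_iUnion.2 ⟨dimAt f x, show dimAt f x ≤ dimAt f x from le_rfl⟩)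
  refine ⟨s.sup id, fun x => ?_⟩
  obtain ⟨d, hd, hx⟩ := Set.mem_iUnion₂.1 (hs (Set.mem_univ x))
  exact le_trans (show dimAt f x ≤ d from hx) (Finset.le_sup (f := id) hd)

theorem isConstructible_dimAt_eq (d : ℕ) : IsConstructible {x : X | dimAt f x = d} := by
  have h : ∀ d, IsConstructible {x : X | dimAt f x ≤ d} := fun d =>
    SpecLib.isConstructible_of_isOpen (isOpen_dimAt_le f d)
  cases d with
  | zero =>
    convert h 0 using 1
    ext x
    exact Nat.le_zero.symm
  | succ d =>
    convert (h (d + 1)).sdiff (h d) using 1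
    ext x
    show dimAt f x = d + 1 ↔ dimAt f x ≤ d + 1 ∧ ¬dimAt f x ≤ d
    omega

end Noetherian

section Reduction

variable {P : ∀ ⦃X Y : Scheme.{u}⦄, (X ⟶ Y) → X → Prop}

/-- Invariant properties which are constructible over Noetherian bases are locally constructible. -/
theorem lc_of_noetherian
    (hbc : ∀ ⦃X Y X' Y' : Scheme.{u}⦄ (f : X ⟶ Y) (p : X' ⟶ X) (q : X' ⟶ Y') (g : Y' ⟶ Y),
      IsPullback p q f g → LocallyOfFiniteType f → ∀ z, P q z ↔ P f (p z))
    (hsrc : ∀ ⦃U X Y : Scheme.{u}⦄ (j : U ⟶ X) (f : X ⟶ Y), IsOpenImmersion j → LocallyOfFiniteType f →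
      ∀ u, P (j ≫ f) u ↔ P f (j u))
    (hN : ∀ ⦃X S : Scheme.{u}⦄ (f : X ⟶ S), IsNoetherian X → IsNoetherian S → LocallyOfFiniteType f →
      IsConstructible {x : X | P f x})
    {X S : Scheme.{u}} (f : X ⟶ S) [LocallyOfFinitePresentation f] :
    IsLocallyConstructible {x : X | P f x} := by
  intro x
  obtain ⟨V, hV, hxV, -⟩ := exists_isAffineOpen_mem_and_subset (U := (⊤ : S.Opens)) (x := f x) trivial
  obtain ⟨U, hU, hxU, hUV'⟩ := exists_isAffineOpen_mem_and_subset (U := f ⁻¹ᵁ V) (x := x) hxV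
  have hUV : U ≤ f ⁻¹ᵁ V := hUV'
  refine ⟨U, U.2.mem_nhds hxU, U.2, ?_⟩
  haveI : IsAffine (U : Scheme.{u}) := hU
  haveI : IsAffine (V : Scheme.{u}) := hV
  let g := f.resLE V U hUV
  obtain ⟨S₀, X₀, _, π, u₀, _, qX, _, hS₀, _, _, _, -, -, sq, -⟩ := ConsPropLib.exists_model_pair g g
  haveI := hS₀
  haveI : IsLocallyNoetherian X₀ := LocallyOfFiniteType.isLocallyNoetherian u₀
  haveI : CompactSpace X₀ := QuasiCompact.compactSpace_of_compactSpace u₀
  haveI : IsNoetherian X₀ := {}
  have h0 := hN u₀ inferInstance inferInstance inferInstance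
  haveI : QuasiCompact qX :=
    MorphismProperty.of_isPullback (P := @QuasiCompact) sq.flip inferInstance
  have h1 := qX.isConstructible_preimage h0
  have hset : (U.ι ⁻¹' {x : X | P f x} : Set (U : Scheme.{u})) = qX ⁻¹' {x : X₀ | P u₀ x} := by
    ext z
    have hgf : g ≫ V.ι = U.ι ≫ f := f.resLE_comp_ι hUV
    haveI : LocallyOfFiniteType (g ≫ V.ι) := hgf ▸ inferInstance
    have hmono : IsPullback (𝟙 (U : Scheme.{u})) g (g ≫ V.ι) V.ι :=
      IsPullback.mk ⟨by simp⟩ ⟨PullbackCone.IsLimit.mk _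
        (fun s => s.fst) (fun s => by simp) (fun s => (cancel_mono V.ι).1 (by rw [Category.assoc]; exact s.condition))
        (fun s m h1 _ => by simpa using h1)⟩
    show P f (U.ι z) ↔ P u₀ (qX z)
    rw [← hsrc U.ι f inferInstance inferInstance z, ← hgf, ← hbc u₀ qX g π sq inferInstance z]
    exact (hbc _ _ _ _ hmono inferInstance z).symm
  show IsConstructible (U.ι ⁻¹' {x : X | P f x} : Set (U : Scheme.{u}))
  rw [hset]
  exact h1

end Reduction

end Groth.Agent.FibreAss
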