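import Groth.Agent.S6285
import Groth.Agent.AssLib2.TensorFlat
import Groth.Agent.QCoh.Support
import Groth.Agent.QCoh.LocFree
import Groth.Agent.FibDim.Comp
import Mathlib.RingTheory.Flat.FaithfullyFlat.Basic

/-!
# Images of the support of a flat finitely presented module
-/

set_option autoImplicit false
set_option linter.style.haveILetI false

universe u

open AlgebraicGeometry CategoryTheory IsLocalRing Topology

namespace Groth.Agent.FibreAss

/-- A nonzero finite module which is flat over a local ring has a prime of its support over every prime. -/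
theorem exists_prime_over {A B : Type u} [CommRing A] [IsLocalRing A] [CommRing B] [IsLocalRing B] [Algebra A B]
    [IsLocalHom (algebraMap A B)] {N : Type u} [AddCommGroup N] [Module B N] [Module A N] [IsScalarTower A B N]
    [Module.Finite B N] [Nontrivial N] [Module.Flat A N] (p : Ideal A) [p.IsPrime] :
    ∃ (Q : Ideal B) (_ : Q.IsPrime), Q.comap (algebraMap A B) = p ∧
      ∃ v : N, ∀ b, b • v = 0 → b ∈ Q := by
  haveI : Module.FaithfullyFlat A N := ⟨fun {m} hm htop => by
    obtain rfl := eq_maximalIdeal hm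
    let S : Submodule A N := maximalIdeal A • ⊤
    have hle : (S : Set N) ⊆ (maximalIdeal B • ⊤ : Submodule B N) := fun x hx =>
      Submodule.smul_induction_on hx (fun a ha y _ => by
        rw [SetLike.mem_coe, ← algebraMap_smul B a y]
        exact Submodule.smul_mem_smul (map_nonunit (algebraMap A B) a ha) Submodule.mem_top) fun _ _ => add_mem
    have h1 : (maximalIdeal B • ⊤ : Submodule B N) = ⊤ := top_unique fun x _ => hle (show x ∈ S by rw [show S = ⊤ from htop]; exact Submodule.mem_top)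
    exact top_ne_bot (Submodule.eq_bot_of_le_smul_of_le_jacobson_bot (maximalIdeal B) (⊤ : Submodule B N)
      Module.Finite.fg_top h1.ge (maximalIdeal_le_jacobson _))⟩
  haveI : Nontrivial (TensorProduct A N p.ResidueField) := inferInstance
  let pN : Submodule A N := p • ⊤
  obtain ⟨n, hn⟩ : ∃ n : N, ∀ s ∉ p, s • n ∉ pN := by
    by_contra hne
    push Not at hne
    have hzero : ∀ w : TensorProduct A N p.ResidueField, w = 0 := fun w => by
      induction w using TensorProduct.induction_on with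
      | zero => rfl
      | add y z hy hz => rw [hy, hz, add_zero]
      | tmul m c =>
        obtain ⟨a, hap, ham⟩ := hne m
        have hne' : algebraMap A p.ResidueField a ≠ 0 := fun h => hap (Ideal.algebraMap_residueField_eq_zero.1 h)
        rw [show c = a • ((algebraMap A p.ResidueField a)⁻¹ * c) by
          rw [Algebra.smul_def, ← mul_assoc, mul_inv_cancel₀ hne', one_mul], ← TensorProduct.smul_tmul]
        generalize (algebraMap A p.ResidueField a)⁻¹ * c = c'
        refine Submodule.smul_induction_on ham (fun r hr y _ => ?_) (fun y z hy hz => by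
          rw [TensorProduct.add_tmul, hy, hz, add_zero])
        rw [TensorProduct.smul_tmul, Algebra.smul_def, Ideal.algebraMap_residueField_eq_zero.2 hr, zero_mul,
          TensorProduct.tmul_zero]
    exact not_subsingleton (TensorProduct A N p.ResidueField) ⟨fun a b => (hzero a).trans (hzero b).symm⟩
  have hpN : ∀ (b : B) (x : N), x ∈ pN → b • x ∈ pN := fun b x hx =>
    Submodule.smul_induction_on hx (fun r hr y _ => by
      rw [smul_comm]; exact Submodule.smul_mem_smul hr Submodule.mem_top)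
      (fun y z hy hz => by rw [smul_add]; exact add_mem hy hz)
  let I : Ideal B :=
    { carrier := {b | ∃ a ∉ p, a • (b • n) ∈ pN}
      zero_mem' := ⟨1, fun h => ‹p.IsPrime›.ne_top ((Ideal.eq_top_iff_one _).2 h), by simp⟩
      add_mem' := by
        rintro b c ⟨a, ha, hb⟩ ⟨a', ha', hc⟩
        refine ⟨a' * a, fun h => (‹p.IsPrime›.mem_or_mem h).elim ha' ha, ?_⟩
        rw [add_smul, smul_add, mul_smul, mul_smul, smul_comm a' a (c • n)]
        exact add_mem (Submodule.smul_mem _ _ hb) (Submodule.smul_mem _ _ hc)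
      smul_mem' := by
        rintro c b ⟨a, ha, hb⟩
        refine ⟨a, ha, ?_⟩
        rw [smul_eq_mul, mul_smul, smul_comm a c]
        exact hpN c _ hb }
  have hdisj : Disjoint (I : Set B) (p.primeCompl.map (algebraMap A B) : Submonoid B) := by
    rw [Set.disjoint_left]
    rintro _ ⟨a, ha, hmem⟩ ⟨a', ha', rfl⟩
    rw [algebraMap_smul, smul_smul] at hmem
    exact hn (a * a') (fun h => (‹p.IsPrime›.mem_or_mem h).elim ha ha') hmem
  obtain ⟨Q, hQ, hIQ, hQd⟩ := Ideal.exists_le_prime_disjoint I _ hdisj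
  refine ⟨Q, hQ, le_antisymm (fun a ha => ?_) (fun a ha => ?_), n,
    fun b hb => hIQ ⟨1, fun h => ‹p.IsPrime›.ne_top ((Ideal.eq_top_iff_one _).2 h), by rw [hb, smul_zero]; exact zero_mem _⟩⟩
  · by_contra hap
    exact Set.disjoint_left.1 hQd ha ⟨a, hap, rfl⟩
  · refine Ideal.mem_comap.2 (hIQ ⟨1, fun h => ‹p.IsPrime›.ne_top ((Ideal.eq_top_iff_one _).2 h), ?_⟩)
    rw [one_smul, algebraMap_smul]
    exact Submodule.smul_mem_smul ha Submodule.mem_top

variable {X Y : Scheme.{u}}

/-- Generizations lift to the support of a module flat over the base. -/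
theorem exists_generization_supp (f : X ⟶ Y) {F : X.Modules} (hF : Coh.IsQCoh F) (hft : CohB1.IsFT F) {z : X}
    (hflat : FlatMod.IsFlatOverAt f F z) (hz : z ∈ CohB1.support F) {t : Y} (ht : t ⤳ f z) :
    ∃ ζ ∈ CohB1.support F, ζ ⤳ z ∧ f ζ = t := by
  obtain ⟨p, rfl⟩ := DimFormula.fromSpecStalk_range_of_specializes ht
  letI := (f.stalkMap z).hom.toAlgebra
  letI := FlatMod.moduleStalkOver f F z
  haveI : IsScalarTower (Y.presheaf.stalk (f z)) (X.presheaf.stalk z) (F.presheaf.stalk z) :=
    IsScalarTower.of_algebraMap_smul fun _ _ => rfl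
  haveI : IsLocalHom (algebraMap (Y.presheaf.stalk (f z)) (X.presheaf.stalk z)) :=
    inferInstanceAs (IsLocalHom (f.stalkMap z).hom)
  haveI : Module.Finite (X.presheaf.stalk z) (F.presheaf.stalk z) := QCoh.finite_stalk_of_isFT hF hft z
  haveI : Nontrivial (F.presheaf.stalk z) := not_subsingleton_iff_nontrivial.1 hz
  haveI : Module.Flat (Y.presheaf.stalk (f z)) (F.presheaf.stalk z) := hflat
  let pi : Ideal (Y.presheaf.stalk (f z)) := (p : PrimeSpectrum (Y.presheaf.stalk (f z))).asIdeal
  haveI : pi.IsPrime := (p : PrimeSpectrum (Y.presheaf.stalk (f z))).isPrime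
  obtain ⟨Q, hQ, hQp, v, hv⟩ := exists_prime_over (A := Y.presheaf.stalk (f z)) (B := X.presheaf.stalk z)
    (N := F.presheaf.stalk z) pi
  let Qs : PrimeSpectrum (X.presheaf.stalk z) := ⟨Q, hQ⟩
  obtain ⟨U, hU, hzU, -⟩ := exists_isAffineOpen_mem_and_subset (x := z) (U := ⊤) trivial
  obtain ⟨hζU, hζ⟩ := AssLib2.primeIdealOf_fromSpecStalk hU hzU Qs
  refine ⟨X.fromSpecStalk z Qs, ?_, ?_, ?_⟩
  · by_contra hns
    letI := QCoh.stalkAlg (X := X) hzU
    letI := QCoh.stalkModule F hzU
    haveI := QCoh.isScalarTower_stalk F hzU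
    haveI := QCoh.isLocalization_stalk' hU hzU
    haveI := QCoh.isLocalizedModule_germLin hF hU hzU
    obtain ⟨⟨m, ⟨s, hs⟩⟩, hms⟩ := IsLocalizedModule.surj (hU.primeIdealOf ⟨z, hzU⟩).asIdeal.primeCompl
      (QCoh.germLin F hzU) v
    obtain ⟨r, hr, hrm⟩ := (QCoh.subsingleton_stalk_iff hF hU hζU).1 (not_not.1 hns) m
    have hrQ : algebraMap Γ(X, U) (X.presheaf.stalk z) r ∈ Q := by
      refine hv _ ?_
      have h1 : algebraMap Γ(X, U) (X.presheaf.stalk z) s • algebraMap Γ(X, U) (X.presheaf.stalk z) r • v = 0 := by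
        rw [smul_comm, algebraMap_smul _ s v, show s • v = QCoh.germLin F hzU m from hms, algebraMap_smul,
          ← LinearMap.map_smul, hrm, map_zero]
      exact (IsLocalization.map_units (X.presheaf.stalk z)
        (⟨s, hs⟩ : (hU.primeIdealOf ⟨z, hzU⟩).asIdeal.primeCompl)).smul_eq_zero.1 h1
    exact (QCoh.mem_basicOpen_iff_notMem hU hζU r).1 hr (hζ.symm ▸ hrQ)
  · exact DimFormula.fromSpecStalk_specializes z Qs
  · show (X.fromSpecStalk z ≫ f) Qs = _
    rw [← Scheme.SpecMap_stalkMap_fromSpecStalk]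
    exact congrArg (Y.fromSpecStalk (f z)) (PrimeSpectrum.ext hQp)

theorem isConstructible_support {F : X.Modules} (hF : CohB1.IsFP F) {U : X.Opens} (hU : IsAffineOpen U) :
    IsConstructible (U.ι ⁻¹' CohB1.support F) := by
  have hq := QCoh.isQCoh_of_isFP hF
  haveI : Module.FinitePresentation Γ(X, U) Γ(F, U) := QCoh.finitePresentation_of_isFP hF hU
  obtain ⟨hcl, hcomp⟩ := S6285.result Γ(X, U) Γ(F, U)
  have h1 : IsConstructible (Module.support Γ(X, U) Γ(F, U)) :=
    ((hcomp.isRetrocompact hcl.isOpen_compl).isConstructible hcl.isOpen_compl).of_compl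
  let e : (U : Scheme.{u}) ≅ Spec Γ(X, U) := hU.isoSpec
  have h2 := h1.preimage_of_isOpenEmbedding e.hom.isOpenEmbedding
  convert h2 using 1
  ext u
  exact (QCoh.mem_moduleSupport_iff hq hU u.2).symm

/-- The image of an open part of the support of a flat finitely presented module is a neighbourhood. -/
theorem image_supp_mem_nhds (f : X ⟶ Y) [LocallyOfFinitePresentation f] {F : X.Modules} (hF : CohB1.IsFP F)
    (hflat : FlatMod.IsFlatOver f F) (O : X.Opens) {z : X} (hzO : z ∈ O) (hz : z ∈ CohB1.support F) :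
    f '' ((O : Set X) ∩ CohB1.support F) ∈ nhds (f z) := by
  have hq := QCoh.isQCoh_of_isFP hF
  obtain ⟨V, hV, hzV, -⟩ := exists_isAffineOpen_mem_and_subset (U := (⊤ : Y.Opens)) (x := f z) trivial
  obtain ⟨U, hU, hzU, hUsub⟩ := exists_isAffineOpen_mem_and_subset (U := f ⁻¹ᵁ V ⊓ O) (x := z) ⟨hzV, hzO⟩
  have hUV : U ≤ f ⁻¹ᵁ V := fun w hw => (hUsub hw).1
  haveI : IsAffine (U : Scheme.{u}) := hU
  haveI : IsAffine (V : Scheme.{u}) := hV
  let g := f.resLE V U hUV
  have hgf : ∀ u, V.ι (g u) = f (U.ι u) := fun u => by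
    rw [← Scheme.Hom.comp_apply, f.resLE_comp_ι hUV, Scheme.Hom.comp_apply]
  have hC := (isConstructible_support hF hU).isLocallyConstructible
  let u₀ : (U : Scheme.{u}) := ⟨z, hzU⟩
  have hmem : g '' (U.ι ⁻¹' CohB1.support F) ∈ nhds (g u₀) := by
    refine FibDim.mem_nhds_of_generizations (g.isLocallyConstructible_image hC) fun t ht => ?_
    have ht' : V.ι t ⤳ f z := by
      have := ht.map V.ι.continuous
      rwa [hgf u₀] at this
    obtain ⟨ζ, hζ, hζz, hfζ⟩ := exists_generization_supp f hq (QCoh.isFT_of_isFP hF) (hflat z) hz ht'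
    let w : (U : Scheme.{u}) := ⟨ζ, hζz.mem_open U.2 hzU⟩
    refine ⟨w, hζ, V.ι.isOpenEmbedding.injective ?_⟩
    rw [hgf w]
    exact hfζ
  have h := V.ι.isOpenEmbedding.isOpenMap.image_mem_nhds hmem
  rw [hgf u₀] at h
  refine Filter.mem_of_superset h ?_
  rintro _ ⟨_, ⟨u, hu, rfl⟩, rfl⟩
  exact ⟨U.ι u, ⟨(hUsub u.2).2, hu⟩, (hgf u).symm⟩

end Groth.Agent.FibreAss
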