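import Groth.Agent.FibreAss.Dims
import Groth.Agent.FibreAss.SuppImage
import Groth.Agent.FibLength.Scheme

/-!
# Loci on the base
-/

set_option autoImplicit false
set_option linter.style.haveILetI false

universe u

open AlgebraicGeometry CategoryTheory

namespace Groth.Agent.FibreAss

section Topology

variable {T : Type u} [TopologicalSpace T] [QuasiSober T] [T0Space T] {S : Set T}

/-- Components of a closed subspace are closures of its maximal points. -/
theorem exists_component_iff (hS : IsClosed S) (D : WithBot ℕ∞) :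
    (∃ Z ∈ irreducibleComponents ↥S, topologicalKrullDim ↥Z = D) ↔
      ∃ z ∈ S, (∀ w ∈ S, w ⤳ z → w = z) ∧ topologicalKrullDim ↥(closure ({z} : Set T)) = D := by
  have himg : ∀ (z : T) (hz : z ∈ S), Subtype.val '' (closure {(⟨z, hz⟩ : ↥S)} : Set ↥S) = closure {z} := fun z hz => by
    ext w
    constructor
    · rintro ⟨w, hw, rfl⟩
      exact specializes_iff_mem_closure.1 ((specializes_iff_mem_closure.2 hw).map continuous_subtype_val)
    · intro hw
      have hwS : w ∈ S := (hS.closure_subset_iff.2 (Set.singleton_subset_iff.2 hz)) hw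
      exact ⟨⟨w, hwS⟩, specializes_iff_mem_closure.1
        ((subtype_specializes_iff _ _).2 (specializes_iff_mem_closure.2 hw)), rfl⟩
  have hdim : ∀ (z : T) (hz : z ∈ S), topologicalKrullDim ↥(closure {(⟨z, hz⟩ : ↥S)} : Set ↥S) =
      topologicalKrullDim ↥(closure ({z} : Set T)) := fun z hz =>
    (FibDim.topologicalKrullDim_range_closed _).trans (by rw [himg z hz])
  haveI : QuasiSober ↥S := hS.isClosedEmbedding_subtypeVal.quasiSober
  constructor
  · rintro ⟨Z, hZ, hD⟩
    have hZc : IsClosed Z := isClosed_of_mem_irreducibleComponents Z hZ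
    obtain ⟨⟨z, hz⟩, hgen⟩ : ∃ z, closure {z} = Z := ⟨hZ.1.genericPoint, by
      rw [hZ.1.isGenericPoint_genericPoint_closure.def, hZc.closure_eq]⟩
    refine ⟨z, hz, fun w hw hwz => ?_, (hdim z hz).symm.trans (hgen ▸ hD)⟩
    have hsub : Z ⊆ closure {(⟨w, hw⟩ : ↥S)} := by
      rw [← hgen]
      exact closure_minimal (Set.singleton_subset_iff.2 (specializes_iff_mem_closure.1 ((subtype_specializes_iff _ _).2 hwz)))
        isClosed_closure
    have h2 : (⟨w, hw⟩ : ↥S) ∈ closure {(⟨z, hz⟩ : ↥S)} := by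
      rw [hgen]
      exact hZ.2 isIrreducible_singleton.closure hsub (subset_closure rfl)
    exact (hwz.antisymm ((subtype_specializes_iff _ _).1 (specializes_iff_mem_closure.2 h2))).eq
  · rintro ⟨z, hz, hmax, hD⟩
    refine ⟨closure {(⟨z, hz⟩ : ↥S)}, ⟨isIrreducible_singleton.closure, fun W hW hle => ?_⟩, (hdim z hz).trans hD⟩
    intro w hw
    have hg := hW.isGenericPoint_genericPoint_closure
    obtain ⟨⟨g, hgS⟩, hgeq⟩ : ∃ g, g = hW.genericPoint := ⟨_, rfl⟩
    have hspec : ∀ v ∈ closure W, (⟨g, hgS⟩ : ↥S) ⤳ v := fun v hv => hgeq ▸ hg.specializes hv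
    have : g = z := hmax g hgS ((subtype_specializes_iff _ _).1 (hspec ⟨z, hz⟩ (subset_closure (hle (subset_closure rfl)))))
    subst this
    exact specializes_iff_mem_closure.1 (hspec w (subset_closure hw))

end Topology

variable {X Y : Scheme.{u}} (f : X ⟶ Y) [LocallyOfFiniteType f] {F : X.Modules}

theorem isCoh_of_isFP' (hF : CohB1.IsFP F) : Coh.IsCoh F :=
  ⟨QCoh.isQCoh_of_isFP hF, QCoh.isFT_of_isFP hF⟩

theorem setOf_nontrivial (G : X.Modules) : {z : X | Nontrivial (G.presheaf.stalk z)} = CohB1.support G := by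
  ext z
  exact not_subsingleton_iff_nontrivial.symm

theorem mem_ass_of_maximal (hF : Coh.IsCoh F) {y : Y} {z : ↥(f.fiber y)}
    (hz : z ∈ CohB1.support ((Scheme.Modules.pullback (f.fiberι y)).obj F))
    (hmax : ∀ w ∈ CohB1.support ((Scheme.Modules.pullback (f.fiberι y)).obj F), w ⤳ z → w = z) :
    z ∈ AssSch.Ass ((Scheme.Modules.pullback (f.fiberι y)).obj F) := by
  haveI : IsLocallyNoetherian (f.fiber y) :=
    LocallyOfFiniteType.isLocallyNoetherian (f.fiberToSpecResidueField y)
  obtain ⟨a, ha, haz⟩ := AssLib.exists_ass_specializes (ZClosLib.isCoh_pullback (f.fiberι y) hF).1 hz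
  exact hmax a (AssLib.mem_support_of_mem_ass ha) haz ▸ ha

theorem exists_ass_over (hF : Coh.IsCoh F) {y : Y} {z : ↥(f.fiber y)}
    (hz : z ∈ CohB1.support ((Scheme.Modules.pullback (f.fiberι y)).obj F)) :
    ∃ a ∈ AssSch.Ass ((Scheme.Modules.pullback (f.fiberι y)).obj F), a ⤳ z := by
  haveI : IsLocallyNoetherian (f.fiber y) :=
    LocallyOfFiniteType.isLocallyNoetherian (f.fiberToSpecResidueField y)
  exact AssLib.exists_ass_specializes (ZClosLib.isCoh_pullback (f.fiberι y) hF).1 hz

theorem forall_fibre_PD_iff (Q : ℕ → ℕ → Prop) (y : Y) :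
    (∀ x, f x = y → PD Q f F x) ↔
      ∀ z ∈ AssSch.Ass ((Scheme.Modules.pullback (f.fiberι y)).obj F),
        ∀ z' ∈ AssSch.Ass ((Scheme.Modules.pullback (f.fiberι y)).obj F), z' ⤳ z →
          Q (FibDim.rd f (f.fiberι y z')) (FibDim.rd f (f.fiberι y z)) := by
  constructor
  · intro h z hz z' hz' hzz
    exact h _ (FibDim.fiber_apply_fiberι f z) _ ((mem_ass_fiber_iff f F y z).1 hz) rfl specializes_rfl _
      ((mem_ass_fiber_iff f F y z').1 hz') (by rw [FibDim.fiber_apply_fiberι, FibDim.fiber_apply_fiberι])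
      (hzz.map (f.fiberι y).continuous)
  · intro h x hx z hz hfz hzx z' hz' hfz' hzz
    obtain ⟨a, rfl⟩ : z ∈ Set.range (f.fiberι y) := by rw [Scheme.Hom.range_fiberι]; exact hfz.trans hx
    obtain ⟨b, rfl⟩ : z' ∈ Set.range (f.fiberι y) := by
      rw [Scheme.Hom.range_fiberι]; exact hfz'.trans (hfz.trans hx)
    exact h a ((mem_ass_fiber_iff f F y a).2 hz) b ((mem_ass_fiber_iff f F y b).2 hz')
      ((f.fiberι y).isEmbedding.isInducing.specializes_iff.1 hzz)

theorem isOpen_forall_fibre_PD (Q : ℕ → ℕ → Prop) [UniversallyClosed f] [LocallyOfFinitePresentation f]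
    (hF : CohB1.IsFP F) (hflat : FlatMod.IsFlatOver f F) : IsOpen {y : Y | ∀ x, f x = y → PD Q f F x} := by
  have h := (f.isClosedMap _ (isOpen_PD Q f F hF hflat).isClosed_compl).isOpen_compl
  convert h using 1
  ext y
  simp only [Set.mem_compl_iff, Set.mem_image, not_exists, not_and, Set.mem_setOf_eq]
  exact ⟨fun h x hx hxy => hx (h x hxy), fun h x hxy => by_contra fun hx => h x hx hxy⟩

/-- The base points over which the fibre module has a component of dimension `n` form an open set. -/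
theorem isOpen_exists_component (n : ℕ) [LocallyOfFinitePresentation f]
    (hF : CohB1.IsFP F) (hflat : FlatMod.IsFlatOver f F) :
    IsOpen {y : Y | ∃ z ∈ CohB1.support ((Scheme.Modules.pullback (f.fiberι y)).obj F),
      (∀ w ∈ CohB1.support ((Scheme.Modules.pullback (f.fiberι y)).obj F), w ⤳ z → w = z) ∧
        FibDim.rd f (f.fiberι y z) = n} := by
  have hc := isCoh_of_isFP' hF
  haveI : ∀ y, IsLocallyNoetherian (f.fiber y) := fun y =>
    LocallyOfFiniteType.isLocallyNoetherian (f.fiberToSpecResidueField y)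
  refine isOpen_iff_mem_nhds.2 fun y ⟨z, hz, hmax, hn⟩ => ?_
  let O : X.Opens := ⟨_, isOpen_PD (fun _ b => b = n) f F hF hflat⟩
  have hzO : f.fiberι y z ∈ O := by
    intro a ha hfa haz b _ _ _
    obtain ⟨a, rfl⟩ : a ∈ Set.range (f.fiberι y) := by
      rw [Scheme.Hom.range_fiberι]; exact hfa.trans (FibDim.fiber_apply_fiberι f z)
    rw [hmax a (AssLib.mem_support_of_mem_ass ((mem_ass_fiber_iff f F y a).2 ha))
      ((f.fiberι y).isEmbedding.isInducing.specializes_iff.1 haz), hn]
  have h := image_supp_mem_nhds f hF hflat O hzO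
    ((FibLength.nontrivial_fibre_iff f F y z hc).1 (not_subsingleton_iff_nontrivial.1 hz))
  rw [FibDim.fiber_apply_fiberι] at h
  refine Filter.mem_of_superset h ?_
  rintro _ ⟨x, ⟨hxO, hx⟩, rfl⟩
  obtain ⟨w, hw⟩ : ∃ w, f.fiberι (f x) w = x := ⟨_, f.fiberι_asFiber x⟩
  obtain ⟨a, ha, haw⟩ := exists_ass_over f hc
    (not_subsingleton_iff_nontrivial.2 ((FibLength.nontrivial_fibre_iff f F _ w hc).2 (by rw [hw]; exact hx)))
  have hax : f.fiberι (f x) a ⤳ x := (haw.map (f.fiberι (f x)).continuous).trans (specializes_of_eq hw)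
  have haF := (mem_ass_fiber_iff f F _ a).1 ha
  refine ⟨a, AssLib.mem_support_of_mem_ass ha, fun v hv hva => ?_,
    hxO _ haF (FibDim.fiber_apply_fiberι f a) hax _ haF rfl specializes_rfl⟩
  obtain ⟨b, hb, hbv⟩ := exists_ass_over f hc hv
  have hbF := (mem_ass_fiber_iff f F _ b).1 hb
  have hbn : FibDim.rd f (f.fiberι (f x) b) = n :=
    hxO _ hbF (FibDim.fiber_apply_fiberι f b) (((hbv.trans hva).map (f.fiberι (f x)).continuous).trans hax) _ hbF
      rfl specializes_rfl
  have hba : b = a := eq_of_specializes_of_rd_eq f (specializes_iff_mem_closure.1 (hbv.trans hva))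
    (hbn.trans (hxO _ haF (FibDim.fiber_apply_fiberι f a) hax _ haF rfl specializes_rfl).symm)
  exact (hva.antisymm (hba ▸ hbv)).eq

theorem component_dims_iff (hF : Coh.IsCoh F) (y : Y) (n : ℕ) :
    (∃ Z ∈ irreducibleComponents ↥{z : ↥(f.fiber y) | Nontrivial (((Scheme.Modules.pullback (f.fiberι y)).obj F).presheaf.stalk z)},
        topologicalKrullDim ↥Z = (n : WithBot ℕ∞)) ↔
      ∃ z ∈ CohB1.support ((Scheme.Modules.pullback (f.fiberι y)).obj F),
        (∀ w ∈ CohB1.support ((Scheme.Modules.pullback (f.fiberι y)).obj F), w ⤳ z → w = z) ∧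
          FibDim.rd f (f.fiberι y z) = n := by
  have hG := ZClosLib.isCoh_pullback (f.fiberι y) hF
  rw [setOf_nontrivial, exists_component_iff (QCoh.isClosed_support_of_isFT hG.1 hG.2)]
  simp only [dim_closure_eq_natCast]

/-- All components have a dimension which is a natural number. -/
theorem component_dim_nat (hF : Coh.IsCoh F) (y : Y)
    {Z : Set ↥{z : ↥(f.fiber y) | Nontrivial (((Scheme.Modules.pullback (f.fiberι y)).obj F).presheaf.stalk z)}}
    (hZ : Z ∈ irreducibleComponents _) : ∃ n : ℕ, topologicalKrullDim ↥Z = (n : WithBot ℕ∞) := by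
  have hG := ZClosLib.isCoh_pullback (f.fiberι y) hF
  have hcl : IsClosed {z : ↥(f.fiber y) | Nontrivial (((Scheme.Modules.pullback (f.fiberι y)).obj F).presheaf.stalk z)} := by
    rw [setOf_nontrivial]; exact QCoh.isClosed_support_of_isFT hG.1 hG.2
  obtain ⟨z, -, -, hz⟩ := (exists_component_iff hcl _).1 ⟨Z, hZ, rfl⟩
  exact ⟨_, hz.symm.trans (dim_closure_fiber f y z)⟩

end Groth.Agent.FibreAss
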