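import Groth.Agent.FibreAss.Cons
import Groth.Agent.FibreAss.Proper
import Groth.Agent.Codepth5.Field
import Groth.Agent.AnLocal.Formal
import Groth.Agent.FBaseLib.Basic

/-!
# Constructible loci of geometric `(R_k)`, geometric normality and equidimensionality of fibres
-/

set_option autoImplicit false
set_option linter.style.haveILetI false
set_option backward.isDefEq.respectTransparency false
set_option backward.isDefEq.respectTransparency.types false

universe u

open AlgebraicGeometry CategoryTheory Limits Topology IsLocalRing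

namespace Groth.Agent.FibreAss

/-- A non-smooth point of the fibre, of codimension at most `k` there, specializing to `x`. -/
def RkBad (k : ℕ) ⦃X Y : Scheme.{u}⦄ (f : X ⟶ Y) (x : X) : Prop :=
  x ∈ fcl f {t : X | ¬FibreLoc5.SmFib f t ∧ DimFormula.fb f t ≤ k}

/-- All components of the fibre through `x` have the same dimension. -/
def Equid ⦃X Y : Scheme.{u}⦄ (f : X ⟶ Y) (x : X) : Prop :=
  ∃ n, ∀ m, m ≠ n → x ∉ fcl f {u : X | dimAt f u = m}

section RkBad

variable {X Y X' Y' : Scheme.{u}} (k : ℕ)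

theorem rkBad_baseChange {f : X ⟶ Y} {p : X' ⟶ X} {q : X' ⟶ Y'} {g : Y' ⟶ Y} (h : IsPullback p q f g)
    [LocallyOfFiniteType f] (z : X') : RkBad k q z ↔ RkBad k f (p z) := by
  constructor
  · rintro ⟨t, ⟨hsm, hfb⟩, hft, htz⟩
    exact ⟨p t, ⟨fun hs => hsm ((FibreLoc5.good_SmFib.baseChange f p q g h inferInstance t).2 hs),
      (fb_le_baseChange h t).trans hfb⟩, by rw [comm_apply h, comm_apply h, hft], htz.map p.continuous⟩
  · rintro ⟨t, ⟨hsm, hfb⟩, hft, htz⟩
    obtain ⟨t', hq, hsp, rfl, hmin⟩ := exists_minimal_lift h hft htz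
    exact ⟨t', ⟨fun hs => hsm ((FibreLoc5.good_SmFib.baseChange f p q g h inferInstance t').1 hs),
      (fb_baseChange_of_minimal h t' hmin).trans_le hfb⟩, hq, hsp⟩

theorem rkBad_source {U : Scheme.{u}} (j : U ⟶ X) [IsOpenImmersion j] (f : X ⟶ Y) [LocallyOfFiniteType f] (u : U) :
    RkBad k (j ≫ f) u ↔ RkBad k f (j u) := by
  refine Iff.trans (Iff.of_eq ?_) (mem_fcl_comp j f {t : X | ¬FibreLoc5.SmFib f t ∧ DimFormula.fb f t ≤ k} u)
  show (u ∈ fcl (j ≫ f) _) = _
  congr 2
  ext t
  exact Iff.and (not_congr (FibreLoc5.good_SmFib.source j f inferInstance t)) (by rw [fb_comp j f t])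

theorem isConstructible_rkBad {S : Scheme.{u}} [IsNoetherian X] [IsNoetherian S] (f : X ⟶ S)
    [LocallyOfFiniteType f] : IsConstructible {x : X | RkBad k f x} := by
  obtain ⟨D, hD⟩ := exists_dimAt_bound f
  have hC : IsConstructible {t : X | FibreLoc5.SmFib f t}ᶜ :=
    (FibreLoc5.isConstructible_noetherian FibreLoc5.good_SmFib f).compl
  have h : {x : X | RkBad k f x} = ⋃ d ∈ Set.Iic D, geM f ({t : X | FibreLoc5.SmFib f t}ᶜ ∩ {t | dimAt f t ≤ d}) (d - k) := by
    ext x
    simp only [Set.mem_iUnion]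
    constructor
    · rintro ⟨t, ⟨hsm, hfb⟩, hft, htx⟩
      refine ⟨dimAt f t, hD t, t, ⟨hsm, show dimAt f t ≤ dimAt f t from le_rfl⟩, hft, htx, ?_⟩
      unfold dimAt
      omega
    · rintro ⟨d, -, t, ⟨hsm, hd⟩, hft, htx, hm⟩
      refine ⟨t, ⟨hsm, ?_⟩, hft, htx⟩
      change dimAt f t ≤ d at hd
      unfold dimAt at hd
      omega
  rw [h]
  exact IsConstructible.biUnion (Set.finite_Iic D) fun d _ =>
    isConstructible_geM f (hC.inter (SpecLib.isConstructible_of_isOpen (isOpen_dimAt_le f d))) _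

theorem isLocallyConstructible_rkBad {S : Scheme.{u}} (f : X ⟶ S) [LocallyOfFinitePresentation f] :
    IsLocallyConstructible {x : X | RkBad k f x} :=
  lc_of_noetherian (P := fun _ _ f x => RkBad k f x)
    (fun _ _ _ _ _ _ _ _ h _ z => rkBad_baseChange k h z)
    (fun _ _ _ j f _ _ u => rkBad_source k j f u)
    (fun _ _ f _ _ _ => isConstructible_rkBad k f) f

end RkBad

section Equid

variable {X Y X' Y' : Scheme.{u}}

theorem equid_baseChange {f : X ⟶ Y} {p : X' ⟶ X} {q : X' ⟶ Y'} {g : Y' ⟶ Y} (h : IsPullback p q f g)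
    [LocallyOfFiniteType f] (z : X') : Equid q z ↔ Equid f (p z) := by
  have hE : ∀ m, {u : X' | dimAt q u = m} = p ⁻¹' {u : X | dimAt f u = m} := fun m => by
    ext u
    show dimAt q u = m ↔ dimAt f (p u) = m
    rw [dimAt_baseChange h u]
  simp only [Equid, hE, mem_fcl_baseChange h]

theorem equid_source {U : Scheme.{u}} (j : U ⟶ X) [IsOpenImmersion j] (f : X ⟶ Y) [LocallyOfFiniteType f] (u : U) :
    Equid (j ≫ f) u ↔ Equid f (j u) := by
  have hE : ∀ m, {v : U | dimAt (j ≫ f) v = m} = j ⁻¹' {v : X | dimAt f v = m} := fun m => by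
    ext v
    show dimAt (j ≫ f) v = m ↔ dimAt f (j v) = m
    rw [dimAt_comp j f v]
  simp only [Equid, hE, mem_fcl_comp j f]

theorem isConstructible_equid {S : Scheme.{u}} [IsNoetherian X] [IsNoetherian S] (f : X ⟶ S)
    [LocallyOfFiniteType f] : IsConstructible {x : X | Equid f x} := by
  obtain ⟨D, hD⟩ := exists_dimAt_bound f
  let A : ℕ → Set X := fun m => fcl f {u : X | dimAt f u = m}
  have h : {x : X | Equid f x} = ⋃ n ∈ Set.Iic D, (⋃ m ∈ Set.Iic D \ {n}, A m)ᶜ := by
    ext x
    simp only [Set.mem_iUnion, Set.mem_compl_iff, not_exists]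
    constructor
    · rintro ⟨n, hn⟩
      have hx : x ∈ A (dimAt f x) := ⟨x, rfl, rfl, specializes_rfl⟩
      obtain rfl : dimAt f x = n := by
        by_contra hne
        exact hn _ hne hx
      exact ⟨dimAt f x, hD x, fun m hm => hn m fun he => hm.2 he⟩
    · rintro ⟨n, -, hn⟩
      refine ⟨n, fun m hm hx => ?_⟩
      obtain ⟨u, hu, -, -⟩ := id hx
      exact hn m ⟨(show dimAt f u = m from hu) ▸ hD u, fun he => hm he⟩ hx
  rw [h]
  exact IsConstructible.biUnion (Set.finite_Iic D) fun n _ =>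
    (IsConstructible.biUnion ((Set.finite_Iic D).sdiff) fun m _ =>
      isConstructible_fcl f (isConstructible_dimAt_eq f m)).compl

theorem isLocallyConstructible_equid {S : Scheme.{u}} (f : X ⟶ S) [LocallyOfFinitePresentation f] :
    IsLocallyConstructible {x : X | Equid f x} :=
  lc_of_noetherian (P := fun _ _ f x => Equid f x)
    (fun _ _ _ _ _ _ _ _ h _ z => equid_baseChange h z)
    (fun _ _ _ j f _ _ u => equid_source j f u)
    (fun _ _ f _ _ _ => isConstructible_equid f) f

theorem mem_fcl_dimAt_iff (f : X ⟶ Y) [LocallyOfFiniteType f] (x : X) (m : ℕ) :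
    x ∈ fcl f {u : X | dimAt f u = m} ↔
      ∃ η : ↥(f.fiber (f x)), (∀ v, v ⤳ η → v = η) ∧ η ⤳ f.asFiber x ∧
        FibDim.rd f (f.fiberι (f x) η) = m := by
  haveI := DimFormula.isLocallyNoetherian_fiber f (f x)
  constructor
  · rintro ⟨u, hu, hfu, hux⟩
    obtain ⟨z, hzu, hfz, hmax, -, he⟩ := DimFormula.exists_fibMax_top f u
    obtain ⟨η, rfl⟩ : z ∈ Set.range (f.fiberι (f x)) := by
      rw [Scheme.Hom.range_fiberι]; exact hfz.trans hfu
    refine ⟨η, (FibDim.fibMax_fiberι_iff f η).1 hmax, ?_, he.trans hu⟩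
    rw [← FibDim.fiberι_specializes_iff, Scheme.Hom.fiberι_asFiber]
    exact hzu.trans hux
  · rintro ⟨η, hmax, hη, rfl⟩
    refine ⟨f.fiberι (f x) η, ?_, FibDim.fiber_apply_fiberι f η, ?_⟩
    · show _ + _ = _
      rw [(DimFormula.fb_eq_zero_iff f _).2 ((FibDim.fibMax_fiberι_iff f η).2 hmax), add_zero]
    · have := hη.map (f.fiberι (f x)).continuous
      rwa [Scheme.Hom.fiberι_asFiber] at this

theorem equid_iff (f : X ⟶ Y) [LocallyOfFiniteType f] (x : X) :
    (∃ e : ℕ, ∀ Z ∈ irreducibleComponents (↥(f.fiber (f.base x)) : Type u), f.asFiber x ∈ Z →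
      topologicalKrullDim (↥Z : Type u) = e) ↔ Equid f x := by
  constructor
  · rintro ⟨e, he⟩
    refine ⟨e, fun m hm hx => hm ?_⟩
    obtain ⟨η, hmax, hη, hrd⟩ := (mem_fcl_dimAt_iff f x m).1 hx
    have hcomp : closure ({η} : Set ↥(f.fiber (f x))) ∈ irreducibleComponents ↥(f.fiber (f x)) := by
      refine ⟨isIrreducible_singleton.closure, fun W hW hle v hv => ?_⟩
      have hg := hW.isGenericPoint_genericPoint_closure
      have := hmax _ (hg.specializes (subset_closure (hle (subset_closure rfl))))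
      exact specializes_iff_mem_closure.1 (this ▸ hg.specializes (subset_closure hv))
    have := he _ hcomp (specializes_iff_mem_closure.1 hη)
    rw [dim_closure_eq_natCast] at this
    omega
  · rintro ⟨n, hn⟩
    refine ⟨n, fun Z hZ hxZ => ?_⟩
    have hZc : IsClosed Z := isClosed_of_mem_irreducibleComponents Z hZ
    obtain ⟨η, hgen⟩ : ∃ η, closure {η} = Z := ⟨hZ.1.genericPoint, by
      rw [hZ.1.isGenericPoint_genericPoint_closure.def, hZc.closure_eq]⟩
    have hmax : ∀ v, v ⤳ η → v = η := fun v hv => by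
      have hle : Z ⊆ closure {v} := by
        rw [← hgen]
        exact closure_minimal (Set.singleton_subset_iff.2 (specializes_iff_mem_closure.1 hv)) isClosed_closure
      have h2 := hZ.2 isIrreducible_singleton.closure hle (subset_closure (Set.mem_singleton v))
      rw [← hgen] at h2
      exact (hv.antisymm (specializes_iff_mem_closure.2 h2)).eq
    have hη : η ⤳ f.asFiber x := specializes_iff_mem_closure.2 (hgen.symm ▸ hxZ)
    have hrd : FibDim.rd f (f.fiberι (f x) η) = n := by
      by_contra hne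
      exact hn _ hne ((mem_fcl_dimAt_iff f x _).2 ⟨η, hmax, hη, rfl⟩)
    rw [← hgen]
    exact (dim_closure_eq_natCast f (f x) η n).2 hrd

end Equid

section Geometric

variable {X Y : Scheme.{u}} (f : X ⟶ Y) [LocallyOfFiniteType f]

theorem fb_fiberι_eq_codim {y : Y} (w : ↥(f.fiber y)) : DimFormula.fb f (f.fiberι y w) = DimFormula.codim w := by
  have key : ∀ (z : X), f z = y → f.fiberι y w = z → DimFormula.fb f z = DimFormula.codim w := by
    intro z hz hzw
    subst hz
    rw [(f.fiberι _).isEmbedding.injective (hzw.trans (f.fiberι_asFiber z).symm)]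
    rfl
  exact key _ (FibDim.fiber_apply_fiberι f w) rfl

theorem geomRkAll_iff [LocallyOfFinitePresentation f] (k : ℕ) (x : X) :
    (∀ (K : Type u) [Field K] [Algebra (IsLocalRing.ResidueField (Y.presheaf.stalk (f.base x))) K]
        (x' : ↥(FBase.bc (f.fiberToSpecResidueField (f.base x)) K)),
        (FBase.bcπ (f.fiberToSpecResidueField (f.base x)) K).base x' = f.asFiber x →
          LocCoh.HasRk k ((FBase.bc (f.fiberToSpecResidueField (f.base x)) K).presheaf.stalk x')) ↔
      ¬RkBad k f x := by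
  let κ := IsLocalRing.ResidueField (Y.presheaf.stalk (f.base x))
  let g := f.fiberToSpecResidueField (f x)
  haveI : LocallyOfFinitePresentation g := FibreLoc5.lfp_fibre f (f x)
  haveI := DimFormula.isLocallyNoetherian_fiber f (f x)
  have hA : (∀ t, t ⤳ f.asFiber x → DimFormula.codim t ≤ k → t ∈ g.smoothLocus) ↔ ¬RkBad k f x := by
    constructor
    · rintro h ⟨z, ⟨hsm, hfb⟩, hfz, hzx⟩
      obtain ⟨t, rfl, ht⟩ := (fiberι_specializes_iff' f (f x) (f.asFiber x) hfz).2 (by
        rw [Scheme.Hom.fiberι_asFiber]; exact hzx)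
      rw [fb_fiberι_eq_codim] at hfb
      exact hsm ((mem_smoothLocus_fibre_iff f _ t).1 (h t ht hfb))
    · intro h t ht htk
      by_contra hns
      refine h ⟨f.fiberι (f x) t, ⟨fun hs => hns ((mem_smoothLocus_fibre_iff f _ t).2 hs),
        by rwa [fb_fiberι_eq_codim]⟩, FibDim.fiber_apply_fiberι f t, ?_⟩
      have := ht.map (f.fiberι (f x)).continuous
      rwa [Scheme.Hom.fiberι_asFiber] at this
  rw [← hA]
  refine ⟨fun h => (geomRk_iff (k := κ) g k (f.asFiber x)).1 (fun K _ _ _ w hw => h K w hw), ?_⟩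
  intro h K _ _ w hw
  haveI := flat_bcπ (k := κ) g K
  haveI : IsLocallyNoetherian (FBase.bc (k := κ) g K) := by
    haveI : LocallyOfFiniteType (FBase.bcStr (k := κ) g K) := inferInstanceAs (LocallyOfFiniteType (pullback.snd g _))
    exact LocallyOfFiniteType.isLocallyNoetherian (FBase.bcStr (k := κ) g K)
  refine (hasRk_stalk_iff k w).2 fun t ht htn => regular_bc_of_smooth (k := κ) g K t ?_
  exact h _ (hw ▸ ht.map (FBase.bcπ (k := κ) g K).continuous)
    ((codim_le_of_flat (FBase.bcπ (k := κ) g K) t).trans htn)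

theorem fibIdeal_eq_bot_of_field {k : Type u} [Field k] {Z : Scheme.{u}} (g : Z ⟶ Spec (CommRingCat.of k)) (z : Z) :
    Codepth5.fibIdeal g z = ⊥ := by
  rw [Codepth5.fibIdeal, Ideal.map_eq_bot_iff_le_ker]
  intro a ha
  rcases FlatDvr.eq_zero_or_isUnit_stalk_field k _ a with h0 | hu
  · rw [h0]; exact Submodule.zero_mem _
  · exact absurd hu ((IsLocalRing.mem_maximalIdeal a).1 ha)

theorem hasSk_bc_iff {k : Type u} [Field k] {Z : Scheme.{u}} (g : Z ⟶ Spec (CommRingCat.of k))
    [LocallyOfFiniteType g] (K : Type u) [Field K] [Algebra k K] (n : ℕ) (w : ↥(FBase.bc g K)) :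
    LocCoh.HasSk n ((FBase.bc g K).presheaf.stalk w) ((FBase.bc g K).presheaf.stalk w) ↔
      LocCoh.HasSk n (Z.presheaf.stalk (FBase.bcπ g K w)) (Z.presheaf.stalk (FBase.bcπ g K w)) := by
  haveI : IsLocallyNoetherian Z := LocallyOfFiniteType.isLocallyNoetherian g
  haveI : LocallyOfFiniteType (FBase.bcStr g K) := inferInstanceAs (LocallyOfFiniteType (pullback.snd g _))
  haveI : IsLocallyNoetherian (FBase.bc g K) := LocallyOfFiniteType.isLocallyNoetherian (FBase.bcStr g K)
  have hP := Codepth5.stable_skR.{u} n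
  have h := hP.fibre_iff (f := g) (f' := FBase.bcStr g K) (g' := FBase.bcπ g K) (IsPullback.of_hasPullback _ _) w
  rw [hP.congr ((Ideal.quotEquivOfEq (fibIdeal_eq_bot_of_field (FBase.bcStr g K) w)).trans (RingEquiv.quotientBot _)),
    hP.congr ((Ideal.quotEquivOfEq (fibIdeal_eq_bot_of_field g (FBase.bcπ g K w))).trans (RingEquiv.quotientBot _))] at h
  exact ⟨fun hw => (h.1 ⟨inferInstance, hw⟩).2, fun hw => (h.2 ⟨inferInstance, hw⟩).2⟩

theorem geomNorAll_iff [LocallyOfFinitePresentation f] (x : X) :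
    (∀ (K : Type u) [Field K] [Algebra (IsLocalRing.ResidueField (Y.presheaf.stalk (f.base x))) K]
        (x' : ↥(FBase.bc (f.fiberToSpecResidueField (f.base x)) K)),
        (FBase.bcπ (f.fiberToSpecResidueField (f.base x)) K).base x' = f.asFiber x →
          (IsDomain ((FBase.bc (f.fiberToSpecResidueField (f.base x)) K).presheaf.stalk x') ∧
            IsIntegrallyClosed ((FBase.bc (f.fiberToSpecResidueField (f.base x)) K).presheaf.stalk x'))) ↔
      ¬RkBad 1 f x ∧ Codepth5.FibP (Codepth5.SkR 2) f x := by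
  let κ := IsLocalRing.ResidueField (Y.presheaf.stalk (f.base x))
  let g := f.fiberToSpecResidueField (f x)
  haveI := DimFormula.isLocallyNoetherian_fiber f (f x)
  have hN : ∀ (K : Type u) [Field K] [Algebra κ K], IsLocallyNoetherian (FBase.bc (k := κ) g K) := fun K _ _ => by
    haveI : LocallyOfFiniteType (FBase.bcStr (k := κ) g K) := inferInstanceAs (LocallyOfFiniteType (pullback.snd g _))
    exact LocallyOfFiniteType.isLocallyNoetherian (FBase.bcStr (k := κ) g K)
  rw [Codepth5.fibP_skR, ← geomRkAll_iff]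
  constructor
  · intro h
    refine ⟨fun K _ _ x' hx' => ?_, ?_⟩
    · haveI := hN K
      exact (AnLocal.normal_iff_R1_S2.1 (h K x' hx')).1
    · obtain ⟨x', hx'⟩ := (FBaseLib.surjective_bcπ (k := κ) g κ).1 (f.asFiber x)
      haveI := hN κ
      have h2 := (hasSk_bc_iff (k := κ) g κ 2 x').1 (AnLocal.normal_iff_R1_S2.1 (h κ x' hx')).2
      rw [hx'] at h2
      exact h2
  · rintro ⟨hR, hS⟩ K _ _ x' hx'
    haveI := hN K
    refine AnLocal.normal_iff_R1_S2.2 ⟨hR K x' hx', (hasSk_bc_iff (k := κ) g K 2 x').2 ?_⟩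
    rw [show FBase.bcπ (k := κ) g K x' = f.asFiber x from hx']
    exact hS

end Geometric

end Groth.Agent.FibreAss
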