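import Groth.Agent.FibreAss.Open
import Groth.Agent.DimFormula.Fibre

/-!
# Dimensions of the closures in the fibres
-/

set_option autoImplicit false
set_option linter.style.haveILetI false

universe u

open AlgebraicGeometry CategoryTheory

namespace Groth.Agent.FibreAss

variable {X Y : Scheme.{u}} (f : X ⟶ Y) [LocallyOfFiniteType f]

theorem dim_closure_fiber (y : Y) (z : ↥(f.fiber y)) :
    topologicalKrullDim ↥(closure ({z} : Set ↥(f.fiber y))) = (FibDim.rd f (f.fiberι y z) : WithBot ℕ∞) := by
  rw [FibDim.topologicalKrullDim_closure (f.fiberToSpecResidueField y) z, DimFormula.rd_fiberToSpec]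
  rfl

theorem dim_closure_eq_natCast (y : Y) (z : ↥(f.fiber y)) (n : ℕ) :
    topologicalKrullDim ↥(closure ({z} : Set ↥(f.fiber y))) = (n : WithBot ℕ∞) ↔
      FibDim.rd f (f.fiberι y z) = n := by
  rw [dim_closure_fiber]
  exact_mod_cast Iff.rfl

theorem eq_of_specializes_of_rd_eq {y : Y} {z z' : ↥(f.fiber y)} (h : z ∈ closure {z'})
    (he : FibDim.rd f (f.fiberι y z') = FibDim.rd f (f.fiberι y z)) : z' = z := by
  by_contra hne
  exact (FibDim.rd_lt f ((specializes_iff_mem_closure.2 h).map (f.fiberι y).continuous)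
    (fun e => hne ((f.fiberι y).isEmbedding.injective e))
    (by rw [FibDim.fiber_apply_fiberι, FibDim.fiber_apply_fiberι])).ne he.symm

end Groth.Agent.FibreAss
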