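import Groth.Agent.FibreAss.Nearby
import Groth.Agent.S4980
import Groth.Agent.UnivOpen.Criterion
import Groth.Agent.FibDim.Open
import Groth.Agent.FibDim.Semicont
import Groth.Agent.ZClosLib.CohDescent
import Groth.Agent.MorLib.FlatBC

/-!
# Associated points of fibres along a generization
-/

set_option autoImplicit false
set_option linter.style.haveILetI false
set_option backward.isDefEq.respectTransparency false
set_option backward.isDefEq.respectTransparency.types false

universe u

open AlgebraicGeometry CategoryTheory Limits IsLocalRing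

namespace Groth.Agent.FibreAss

theorem eq_closedPoint_or_generic {A : Type u} [CommRing A] [IsDomain A] [IsDiscreteValuationRing A]
    (s : Spec (CommRingCat.of A)) : s = closedPoint A ∨ s = genericPoint (Spec (CommRingCat.of A)) := by
  by_cases hb : (s : PrimeSpectrum A).asIdeal = ⊥
  · refine .inr (PrimeSpectrum.ext ?_)
    rw [hb, genericPoint_eq_bot_of_affine]
    rfl
  · exact .inl (PrimeSpectrum.ext (IsLocalRing.eq_maximalIdeal
      (Ideal.IsPrime.isMaximal_of_ne_bot (s : PrimeSpectrum A).isPrime hb)))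

/-- Over a discrete valuation ring an associated point of the generic fibre through a point of the
closed fibre has a specialization associated in the closed fibre, of the same dimension. -/
theorem exists_specialization {A : Type u} [CommRing A] [IsDomain A] [IsDiscreteValuationRing A] {X : Scheme.{u}}
    (f : X ⟶ Spec (CommRingCat.of A)) [IsAffine X] [LocallyOfFiniteType f] (F : X.Modules) (hF : Coh.IsCoh F)
    (hflat : FlatMod.IsFlatOver f F) {η x : X} (h : η ⤳ x)
    (hη : f η = genericPoint (Spec (CommRingCat.of A))) (hx : f x = closedPoint A) (hass : η ∈ FA f F) :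
    ∃ z ∈ FA f F, η ⤳ z ∧ z ⤳ x ∧ f z = f x ∧ FibDim.rd f z = FibDim.rd f η := by
  haveI : IsNoetherianRing (CommRingCat.of A) := inferInstanceAs (IsNoetherianRing A)
  haveI := LocallyOfFiniteType.isLocallyNoetherian f
  obtain ⟨ϖ, hϖ⟩ := IsDiscreteValuationRing.exists_irreducible A
  have hϖm := (IsDiscreteValuationRing.irreducible_iff_uniformizer ϖ).1 hϖ
  have hU := isAffineOpen_top X
  let t : Γ(X, ⊤) := X.presheaf.map (homOfLE (le_top : (⊤ : X.Opens) ≤ f ⁻¹ᵁ ⊤)).op
    (f.app ⊤ ((Scheme.ΓSpecIso (CommRingCat.of A)).inv ϖ))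
  have ht : IsSMulRegular Γ(F, ⊤) t := S4980.isSMulRegular_sections f F hflat hϖ.ne_zero ⊤
  haveI : IsNoetherianRing Γ(X, ⊤) := IsLocallyNoetherian.component_noetherian ⟨⊤, hU⟩
  haveI : Module.Finite Γ(X, ⊤) Γ(F, ⊤) := QCoh.finite_sections hF hU
  let pr : X → Ideal Γ(X, ⊤) := fun z => (hU.primeIdealOf ⟨z, trivial⟩).asIdeal
  have hsp : ∀ a b, pr a ≤ pr b ↔ a ⤳ b := fun a b => AssLib.primeIdealOf_le_iff hU _ _
  have htmem : ∀ w, f w = closedPoint A → t ∈ pr w := fun w hw => by
    show t ∈ (hU.primeIdealOf ⟨w, trivial⟩).asIdeal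
    rw [← AssLib.comap_maximalIdeal_stalk hU (x := w) trivial, Ideal.mem_comap]
    have h1 : Codepth5.fibIdeal f w ≤ maximalIdeal _ := Ideal.map_le_iff_le_comap.2 fun a ha =>
      map_nonunit (f.stalkMap w).hom a ha
    refine h1 ?_
    rw [S4980.fibIdeal_closed f hϖm w hw (U := ⊤) trivial]
    exact Ideal.mem_map_of_mem _ (Ideal.mem_span_singleton_self _)
  have hpass : pr η ∈ associatedPrimes Γ(X, ⊤) Γ(F, ⊤) :=
    (AssLib.mem_ass_iff hF.1 hU trivial).1 ((mem_FA_iff_mem_ass f F hη).1 hass)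
  obtain ⟨q, hq, hqx⟩ := Ideal.exists_minimalPrimes_le (I := pr η ⊔ Ideal.span {t}) (J := pr x)
    (sup_le ((hsp η x).2 h) ((Ideal.span_singleton_le_iff_mem _).2 (htmem x hx)))
  have hqass := FibLength.mem_associatedPrimes_quotient (M := Γ(F, ⊤)) ht hpass hq
  obtain ⟨z, hz, hzq⟩ := QCoh.exists_point hU ⟨q, hq.1.1⟩
  obtain rfl : pr z = q := congrArg PrimeSpectrum.asIdeal hzq
  have hηz : η ⤳ z := (hsp η z).1 (le_sup_left.trans hq.1.2)
  have hzx : z ⤳ x := (hsp z x).1 hqx
  have hfz : f z = closedPoint A := by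
    refine (eq_closedPoint_or_generic (f z)).resolve_right fun hfz => ?_
    have hb : z ∉ X.basicOpen t := fun hb => (QCoh.mem_basicOpen_iff_notMem hU (x := z) trivial t).1 hb
      (hq.1.2 (Ideal.mem_sup_right (Ideal.mem_span_singleton_self t)))
    refine hb ?_
    rw [Scheme.basicOpen_res, ← Scheme.preimage_basicOpen]
    refine ⟨trivial, ?_⟩
    show f z ∈ (Spec (CommRingCat.of A)).basicOpen ((Scheme.ΓSpecIso (CommRingCat.of A)).inv ϖ)
    rw [basicOpen_eq_of_affine, hfz, genericPoint_eq_bot_of_affine]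
    exact fun h => hϖ.ne_zero h
  have hzFA : z ∈ FA f F := FibLength.soc_quotient_of_mem_associatedPrimes hF.1 hU (x := z) trivial (Ideal.span {t}) _
    (S4980.fibIdeal_closed f hϖm z hfz (U := ⊤) trivial) hqass
  refine ⟨z, hzFA, hηz, hzx, hfz.trans hx.symm, le_antisymm
    (FibDim.rd_le_of_valuationRing f hηz fun y => hη ▸ genericPoint_specializes y) ?_⟩
  obtain ⟨z', hηz', hz'z, hfz', hle⟩ := FibDim.exists_rd_ge f hηz
  have he : z' = z := AssLib.eq_of_primeIdealOf_eq hU trivial trivial (le_antisymm ((hsp z' z).2 hz'z)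
    (hq.2 ⟨(hU.primeIdealOf ⟨z', trivial⟩).isPrime, sup_le ((hsp η z').2 hηz')
      ((Ideal.span_singleton_le_iff_mem _).2 (htmem z' (hfz'.trans hfz)))⟩ ((hsp z' z).2 hz'z)))
  rwa [he] at hle

variable {X Y : Scheme.{u}}

/-- The condition on the associated points of the fibres through a point passes to generizations. -/
theorem PD_generization (Q : ℕ → ℕ → Prop) (f : X ⟶ Y) [IsAffine X] [IsAffine Y] [IsLocallyNoetherian Y]
    [LocallyOfFiniteType f] (F : X.Modules) (hF : Coh.IsCoh F) (hflat : FlatMod.IsFlatOver f F) {x' x : X}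
    (h : x' ⤳ x) (hP : PD Q f F x) : PD Q f F x' := by
  by_cases he : f x' = f x
  · exact fun z hz hfz hzx => hP z hz (hfz.trans he) (hzx.trans h)
  haveI := LocallyOfFiniteType.isLocallyNoetherian f
  obtain ⟨A, _, _, _, τ, hτc, hτg⟩ := UnivOpen.exists_dvr_lift h (fun e => he (e ▸ rfl))
  haveI : IsNoetherianRing (CommRingCat.of A) := inferInstanceAs (IsNoetherianRing A)
  let g := τ ≫ f
  let q := pullback.snd f g
  let p := pullback.fst f g
  haveI : LocallyOfFiniteType q := inferInstance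
  haveI : IsLocallyNoetherian (pullback f g) := LocallyOfFiniteType.isLocallyNoetherian q
  let F' := (Scheme.Modules.pullback p).obj F
  have hF' : Coh.IsCoh F' := ZClosLib.isCoh_pullback p hF
  have hflat' : FlatMod.IsFlatOver q F' := fun w =>
    MorLib.FlatBC.isFlatOverAt_baseChange f q p g (IsPullback.of_hasPullback f g) F w (hflat (p w))
  let σ : Spec (CommRingCat.of A) ⟶ pullback f g := pullback.lift τ (𝟙 _) (Category.id_comp _).symm
  have hσp : ∀ a, p (σ a) = τ a := fun a => by rw [← Scheme.Hom.comp_apply, pullback.lift_fst]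
  have hσq : ∀ a, q (σ a) = a := fun a => by rw [← Scheme.Hom.comp_apply, pullback.lift_snd]; rfl
  let γ := genericPoint (Spec (CommRingCat.of A))
  have hγ : γ ≠ closedPoint A := fun e => by
    have h1 := congrArg PrimeSpectrum.asIdeal e
    rw [show γ = (⊥ : PrimeSpectrum A) from genericPoint_eq_bot_of_affine _] at h1
    exact IsDiscreteValuationRing.not_isField A (isField_iff_maximalIdeal_eq.2 h1.symm)
  have hc : PD Q q F' (σ (closedPoint A)) :=
    (PD_baseChange Q F (IsPullback.of_hasPullback f g) _).2 (by rw [hσp, hτc]; exact hP)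
  have hs : σ γ ⤳ σ (closedPoint A) := (genericPoint_specializes _).map σ.continuous
  suffices hg : PD Q q F' (σ γ) by
    have := (PD_baseChange Q F (IsPullback.of_hasPullback f g) (σ γ)).1 hg
    rwa [hσp, hτg γ hγ] at this
  intro z hz hfz hzx w hw hfw hwz
  rw [hσq] at hfz
  obtain ⟨z₁, hz₁, hzz₁, hz₁x, hfz₁, hrz⟩ :=
    exists_specialization q F' hF' hflat' (hzx.trans hs) hfz (hσq _) hz
  obtain ⟨w₁, hw₁, -, hw₁z, hfw₁, hrw⟩ :=
    exists_specialization q F' hF' hflat' (hwz.trans hzz₁) (hfw.trans hfz) (hfz₁.trans (hσq _)) hw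
  rw [← hrz, ← hrw]
  exact hc z₁ hz₁ hfz₁ hz₁x w₁ hw₁ hfw₁ hw₁z

end Groth.Agent.FibreAss
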