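import Groth.Agent.FibreAss.Chart
import Groth.Agent.GenFree.Basic
import Mathlib.RingTheory.Lasker
import Mathlib.RingTheory.Ideal.AssociatedPrime.Basic

/-!
# Associated primes of the fibre modules near the generic fibre
-/

set_option autoImplicit false
set_option linter.style.haveILetI false

universe u

open TensorProduct MvPolynomial

namespace Groth.Agent.FibreAss

variable (R : Type u) {A : Type u} [CommRing R] [CommRing A] [Algebra R A]
variable (M : Type u) [AddCommGroup M] [Module A M] [Module R M] [IsScalarTower R A M]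

/-- `q` is an associated prime of the fibre of `M` over its contraction to `R`. -/
def FAr (q : Ideal A) : Prop :=
  ∃ n : M, (∀ s ∉ q, s • n ∉ (q.under R • ⊤ : Submodule R M)) ∧
    ∀ a ∈ q, ∃ s ∉ q, (s * a) • n ∈ (q.under R • ⊤ : Submodule R M)

section General

variable {R M}

theorem smul_mem_smul_top {I : Ideal R} {N : Type u} [AddCommGroup N] [Module R N] {M' : Type u} [AddCommGroup M']
    [Module R M'] (h : N →ₗ[R] M') {x : N} (hx : x ∈ (I • ⊤ : Submodule R N)) :
    h x ∈ (I • ⊤ : Submodule R M') :=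
  Submodule.smul_induction_on hx (fun c hc y _ => by
    rw [map_smul]; exact Submodule.smul_mem_smul hc Submodule.mem_top)
    (fun y z hy hz => by rw [map_add]; exact add_mem hy hz)

theorem mem_smul_top_of_pi {I : Ideal R} {κ : Type*} [Fintype κ] {N : κ → Type u} [∀ j, AddCommGroup (N j)]
    [∀ j, Module R (N j)] (x : ∀ j, N j) (h : ∀ j, x j ∈ (I • ⊤ : Submodule R (N j))) :
    x ∈ (I • ⊤ : Submodule R (∀ j, N j)) := by
  classical
  rw [← Finset.univ_sum_single x]
  exact sum_mem fun j _ => Submodule.smul_induction_on (h j) (fun c hc y _ => by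
      rw [Pi.single_smul]; exact Submodule.smul_mem_smul hc Submodule.mem_top)
    (fun y z hy hz => by rw [Pi.single_add]; exact add_mem hy hz)

/-- An injection whose cokernel is free up to powers of `f` meets `I F` in `I N` up to powers of `f`. -/
theorem inter_smul_top {N F Q : Type u} [AddCommGroup N] [Module R N] [AddCommGroup F] [Module R F] [AddCommGroup Q]
    [Module R Q] (ι : N →ₗ[R] F) (hι : Function.Injective ι) (π : F →ₗ[R] Q) (hπ : Function.Surjective π)
    (hex : Function.Exact ι π) {f : R} (hf : GenFree.GFree R f Q)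
    (I : Ideal R) {x : N} (hx : ι x ∈ (I • ⊤ : Submodule R F)) : ∃ k : ℕ, f ^ k • x ∈ (I • ⊤ : Submodule R N) := by
  obtain ⟨κ, ψ, hψ, hrange⟩ := hf
  choose b hb using fun i : κ => hπ (ψ (Finsupp.single i 1))
  let θ : (κ →₀ R) →ₗ[R] F := Finsupp.linearCombination R b
  have hθ : π ∘ₗ θ = ψ := Finsupp.lhom_ext fun i c => by
    simp only [θ, LinearMap.comp_apply, Finsupp.linearCombination_single, map_smul, hb]
    rw [← map_smul, Finsupp.smul_single, smul_eq_mul, mul_one]
  have key : ∀ y ∈ (I • ⊤ : Submodule R F), ∃ (k : ℕ) (u : κ →₀ R) (w : N),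
      u ∈ (I • ⊤ : Submodule R (κ →₀ R)) ∧ w ∈ (I • ⊤ : Submodule R N) ∧ f ^ k • y = θ u + ι w := by
    intro y hy
    refine Submodule.smul_induction_on hy (fun c hc y _ => ?_) (fun y z hy hz => ?_)
    · obtain ⟨k, u, hu⟩ := hrange (π y)
      have h1 : π (f ^ k • y - θ u) = 0 := by
        rw [map_sub, map_smul, ← hu, ← hθ, LinearMap.comp_apply, sub_self]
      obtain ⟨w, hw⟩ := (hex _).1 h1
      refine ⟨k, c • u, c • w, Submodule.smul_mem_smul hc Submodule.mem_top,
        Submodule.smul_mem_smul hc Submodule.mem_top, ?_⟩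
      rw [map_smul, map_smul, ← smul_add, hw, add_sub_cancel, smul_comm]
    · obtain ⟨k, u, w, hu, hw, e⟩ := hy
      obtain ⟨k', u', w', hu', hw', e'⟩ := hz
      refine ⟨k + k', f ^ k' • u + f ^ k • u', f ^ k' • w + f ^ k • w',
        add_mem (Submodule.smul_mem _ _ hu) (Submodule.smul_mem _ _ hu'),
        add_mem (Submodule.smul_mem _ _ hw) (Submodule.smul_mem _ _ hw'), ?_⟩
      have e1 : f ^ (k + k') • y = f ^ k' • (θ u + ι w) := by rw [← e, smul_smul, ← pow_add, add_comm]
      have e2 : f ^ (k + k') • z = f ^ k • (θ u' + ι w') := by rw [← e', smul_smul, ← pow_add]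
      rw [smul_add, e1, e2, map_add, map_add, map_smul, map_smul, map_smul, map_smul, smul_add, smul_add]
      abel
  obtain ⟨k, u, w, -, hw, e⟩ := key _ hx
  have h1 : π (θ u) = 0 := (hex _).2 ⟨f ^ k • x - w, by rw [map_sub, map_smul, e, add_sub_cancel_right]⟩
  have hu0 : u = 0 := hψ (by rw [map_zero, ← hθ, LinearMap.comp_apply]; exact h1)
  rw [hu0, map_zero, zero_add, ← map_smul] at e
  exact ⟨k, (hι e) ▸ hw⟩

/-- `inter_smul_top` for a linear map over a larger ring. -/
theorem inter_smul_top_range {S N F : Type u} [CommRing S] [AddCommGroup N] [Module S N] [Module R N]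
    [AddCommGroup F] [Module S F] [Module R F] [SMul R S] [IsScalarTower R S F] [IsScalarTower R S N]
    [LinearMap.CompatibleSMul N F R S]
    (ι : N →ₗ[S] F) (hι : Function.Injective ι) {f : R} (hf : GenFree.GFree R f (F ⧸ LinearMap.range ι))
    (I : Ideal R) {x : N} (hx : ι x ∈ (I • ⊤ : Submodule R F)) : ∃ k : ℕ, f ^ k • x ∈ (I • ⊤ : Submodule R N) := by
  let ιR : N →ₗ[R] F := ι.restrictScalars R
  let Q := F ⧸ LinearMap.range ι
  let πR : F →ₗ[R] Q :=
    { toFun := fun y => (Submodule.Quotient.mk y : Q)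
      map_add' := fun _ _ => rfl
      map_smul' := fun _ _ => rfl }
  have hπ : Function.Surjective πR := fun q => Submodule.Quotient.mk_surjective _ q
  have hex : Function.Exact ιR πR := fun y => (Submodule.Quotient.mk_eq_zero _).trans LinearMap.mem_range
  exact inter_smul_top ιR hι πR hπ hex hf I hx

end General

section Bound

variable {R}

/-- The fibre dimension of a prime integral over `R[t]` after inverting `r`. -/
theorem fd_le_of_intMod [Algebra.FiniteType R A] {d : ℕ} {t : Fin d → A} {r : R} {q : Ideal A} [q.IsPrime]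
    (h : IntMod R t r q) (hr : algebraMap R A r ∉ q) : DimFormula.fd R q ≤ d := by
  let p := q.under R
  let κ := p.ResidueField
  let G := p.Fiber (A ⧸ q)
  let one : (A ⧸ q) →ₐ[R] G := Algebra.TensorProduct.includeRight
  let ω : MvPolynomial (Fin d) κ →ₐ[κ] G := aeval fun i => one (Ideal.Quotient.mk q (t i))
  have hcomm : ∀ H : MvPolynomial (Fin d) R,
      ω (map (algebraMap R κ) H) = one (Ideal.Quotient.mk q (aeval t H)) := fun H => by
    simp only [ω, MvPolynomial.aeval_map_algebraMap]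
    exact (MvPolynomial.comp_aeval_apply t (one.comp (Ideal.Quotient.mkₐ R q)) H).symm
  have hu : IsUnit (algebraMap R G r) := by
    rw [IsScalarTower.algebraMap_apply R κ G]
    exact (Ne.isUnit fun h0 => hr (Ideal.algebraMap_residueField_eq_zero.1 h0 : r ∈ p)).map _
  have hωint : ω.toRingHom.IsIntegral := fun g => by
    induction g using TensorProduct.induction_on with
    | zero => exact ω.toRingHom.isIntegralElem_zero
    | add x y hx hy => exact hx.add _ hy
    | tmul c v =>
      obtain ⟨a, rfl⟩ := Ideal.Quotient.mk_surjective v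
      have hc : ω.toRingHom.IsIntegralElem (algebraMap κ G c) := by
        rw [← ω.commutes]
        exact ω.toRingHom.isIntegralElem_map
      rw [show (c ⊗ₜ[R] Ideal.Quotient.mk q a : G) = algebraMap κ G c * one (Ideal.Quotient.mk q a) from
        (show _ = (c ⊗ₜ[R] (1 : A ⧸ q)) * ((1 : κ) ⊗ₜ[R] Ideal.Quotient.mk q a) by
          rw [Algebra.TensorProduct.tmul_mul_tmul, mul_one, one_mul])]
      refine RingHom.IsIntegralElem.mul _ hc ?_
      obtain ⟨e, H, hH, hHa⟩ := h a
      have h1 : ω.toRingHom.IsIntegralElem (one (Ideal.Quotient.mk q (algebraMap R A r ^ e * a))) := by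
        refine ⟨H.map (map (algebraMap R κ)), hH.map _, ?_⟩
        have h2 := congrArg one.toRingHom hHa
        rw [Polynomial.hom_eval₂, map_zero] at h2
        rw [Polynomial.eval₂_map]
        refine Eq.trans ?_ h2
        congr 1
        exact RingHom.ext fun H => hcomm H
      obtain ⟨w, hw⟩ := hu.exists_left_inv
      have h3 : ω.toRingHom.IsIntegralElem w := by
        have hne : algebraMap R κ r ≠ 0 := fun h0 => hr (Ideal.algebraMap_residueField_eq_zero.1 h0 : r ∈ p)
        have : w = algebraMap κ G (algebraMap R κ r)⁻¹ := by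
          refine hu.mul_right_cancel ?_
          rw [hw, IsScalarTower.algebraMap_apply R κ G, ← map_mul, inv_mul_cancel₀ hne, map_one]
        rw [this, ← ω.commutes]
        exact ω.toRingHom.isIntegralElem_map
      have h4 : ∀ m : ℕ, ω.toRingHom.IsIntegralElem (w ^ m) := fun m => by
        induction m with
        | zero => rw [pow_zero]; exact ω.toRingHom.isIntegralElem_one
        | succ m ih => rw [pow_succ]; exact ih.mul _ h3
      have h5 : one (Ideal.Quotient.mk q a) =
          w ^ e * one (Ideal.Quotient.mk q (algebraMap R A r ^ e * a)) := by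
        rw [map_mul, map_mul, map_pow, map_pow, ← mul_assoc, ← mul_pow,
          show one (Ideal.Quotient.mk q (algebraMap R A r)) = algebraMap R G r from one.commutes r, hw, one_pow, one_mul]
      rw [h5]
      exact (h4 e).mul _ h1
  haveI : Algebra.FiniteType κ G := inferInstance
  have hωft : ω.toRingHom.FiniteType := RingHom.FiniteType.of_comp_finiteType
    (f := algebraMap κ (MvPolynomial (Fin d) κ)) (by
      rw [AlgHom.toRingHom_eq_coe, AlgHom.comp_algebraMap]
      exact RingHom.finiteType_algebraMap.2 inferInstance)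
  have := FibDim.ringKrullDim_le_of_finite ω (hωint.to_finite hωft)
  rw [DimFormula.coe_fd] at this
  exact_mod_cast this

theorem mem_smul_top_single {σ : Type u} {I' : Type} {p : Ideal R} (x : σ →₀ MvPolynomial I' R)
    (h : ∀ i, x i ∈ p.map C) : x ∈ (p • ⊤ : Submodule R (σ →₀ MvPolynomial I' R)) := by
  rw [← x.sum_single]
  refine sum_mem fun i _ => smul_mem_smul_top
    ((Finsupp.lsingle i : MvPolynomial I' R →ₗ[MvPolynomial I' R] σ →₀ MvPolynomial I' R).restrictScalars R) ?_
  rw [Ideal.smul_top_eq_map]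
  exact h i

variable [IsDomain R] [IsNoetherianRing R] [Algebra.FiniteType R A]

/-- The coprimary case. -/
theorem exists_bound_coprimary (N : Type u) [AddCommGroup N] [Module A N] [Module R N] [IsScalarTower R A N]
    [Module.Finite A N] (P : Ideal A) [P.IsPrime] (hP : ∀ r : R, algebraMap R A r ∈ P → r = 0)
    (hreg : ∀ a ∉ P, ∀ n : N, a • n = 0 → n = 0) {m : ℕ} (hm : P ^ m ≤ Module.annihilator A N) :
    ∃ r : R, r ≠ 0 ∧ ∀ (q : Ideal A) [q.IsPrime], algebraMap R A r ∉ q → FAr R N q →
      P ≤ q ∧ DimFormula.fd R q = DimFormula.fd R P := by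
  classical
  obtain ⟨d, t, r, hr0, hinj, hint⟩ := exists_chart (R := R) P hP
  let S := MvPolynomial (Fin d) R
  letI : Algebra S A := (aeval (R := R) t).toRingHom.toAlgebra
  haveI : IsScalarTower R S A := IsScalarTower.of_algebraMap_eq fun c => (aeval_C t c).symm
  letI : Module S N := Module.compHom N (algebraMap S A)
  haveI : IsScalarTower S A N := IsScalarTower.of_algebraMap_smul fun _ _ => rfl
  haveI : IsScalarTower R S N := IsScalarTower.of_algebraMap_smul fun c n => by
    show algebraMap S A (algebraMap R S c) • n = c • n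
    rw [← IsScalarTower.algebraMap_apply, algebraMap_smul]
  let J := Module.annihilator A N
  have hintJ : IntMod R t r J := hint.of_pow hm
  haveI : IsNoetherianRing S := inferInstance
  -- the torsion-free finite submodule
  obtain ⟨gens, hgens⟩ := (Algebra.FiniteType.out : (⊤ : Subalgebra R A).FG)
  choose e he using hintJ
  let mk : A →ₐ[S] A ⧸ J := Ideal.Quotient.mkₐ S J
  let rA : A := algebraMap R A r
  let B := Algebra.adjoin S (↑(gens.image fun x => mk (rA ^ e x * x)) : Set (A ⧸ J))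
  have hB : (Subalgebra.toSubmodule B).FG := fg_adjoin_of_finite (Finset.finite_toSet _) fun x hx => by
    obtain ⟨y, -, rfl⟩ := Finset.mem_image.1 (Finset.mem_coe.1 hx)
    exact he y
  have hBC : ∀ c : R, mk (algebraMap R A c) ∈ B := fun c => by
    rw [IsScalarTower.algebraMap_apply R S A, AlgHom.commutes]
    exact B.algebraMap_mem _
  have hrB : ∀ k : ℕ, mk (rA ^ k) ∈ B := fun k => by
    rw [← map_pow]; exact hBC _
  have hall : ∀ a : A, ∃ k : ℕ, mk (rA ^ k * a) ∈ B := fun a => by
    have ha : a ∈ Algebra.adjoin R (gens : Set A) := hgens ▸ Algebra.mem_top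
    induction ha using Algebra.adjoin_induction with
    | mem x hx => exact ⟨e x, Algebra.subset_adjoin (Finset.mem_image_of_mem _ hx)⟩
    | algebraMap c => exact ⟨0, by rw [pow_zero, one_mul]; exact hBC c⟩
    | add x y _ _ hx hy =>
      obtain ⟨k, hx⟩ := hx
      obtain ⟨k', hy⟩ := hy
      refine ⟨k + k', ?_⟩
      rw [show rA ^ (k + k') * (x + y) = rA ^ k' * (rA ^ k * x) + rA ^ k * (rA ^ k' * y) by ring, map_add,
        map_mul mk (rA ^ k'), map_mul mk (rA ^ k)]
      exact add_mem (mul_mem (hrB _) hx) (mul_mem (hrB _) hy)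
    | mul x y _ _ hx hy =>
      obtain ⟨k, hx⟩ := hx
      obtain ⟨k', hy⟩ := hy
      refine ⟨k + k', ?_⟩
      rw [pow_add, mul_mul_mul_comm, map_mul]
      exact mul_mem hx hy
  obtain ⟨vs, hvs⟩ := (Module.Finite.fg_top : (⊤ : Submodule A N).FG)
  let L : N → (A ⧸ J) →ₗ[S] N := fun v =>
    (Submodule.liftQ J (LinearMap.toSpanSingleton A N v) fun a ha => by
      rw [LinearMap.mem_ker, LinearMap.toSpanSingleton_apply]
      exact Module.mem_annihilator.1 ha v).restrictScalars S
  let N₀ : Submodule S N := ⨆ v ∈ vs, (Subalgebra.toSubmodule B).map (L v)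
  have hN₀ : N₀.FG := Submodule.fg_biSup vs _ fun v _ => hB.map _
  haveI : Module.Finite S ↥N₀ := Module.Finite.iff_fg.2 hN₀
  have hsmulN₀ : ∀ (k : ℕ) (v : N), v ∈ N₀ → r ^ k • v ∈ N₀ := fun k v hv => by
    rw [← algebraMap_smul S (r ^ k) v]
    exact N₀.smul_mem _ hv
  have hcover : ∀ n : N, ∃ k : ℕ, r ^ k • n ∈ N₀ := by
    have hgen : ∀ v ∈ vs, ∀ a : A, ∃ k : ℕ, r ^ k • (a • v) ∈ N₀ := fun v hv a => by
      obtain ⟨k, hk⟩ := hall a
      refine ⟨k, ?_⟩
      rw [← algebraMap_smul A (r ^ k) (a • v), smul_smul, map_pow]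
      exact Submodule.mem_iSup_of_mem v (Submodule.mem_iSup_of_mem hv ⟨_, hk, rfl⟩)
    intro n
    have hn : n ∈ Submodule.span A (vs : Set N) := hvs ▸ Submodule.mem_top
    induction hn using Submodule.span_induction with
    | mem v hv => simpa using hgen v hv 1
    | zero => exact ⟨0, by simp⟩
    | add x y _ _ hx hy =>
      obtain ⟨k, hx⟩ := hx
      obtain ⟨k', hy⟩ := hy
      refine ⟨k' + k, ?_⟩
      rw [smul_add]
      refine add_mem ?_ ?_
      · rw [pow_add, mul_smul]; exact hsmulN₀ _ _ hx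
      · rw [pow_add, mul_comm, mul_smul]; exact hsmulN₀ _ _ hy
    | smul a x hx' hx =>
      clear hx
      induction hx' using Submodule.span_induction generalizing a with
      | mem v hv => exact hgen v hv a
      | zero => exact ⟨0, by simp⟩
      | add x y _ _ hx hy =>
        obtain ⟨k, hx⟩ := hx a
        obtain ⟨k', hy⟩ := hy a
        refine ⟨k' + k, ?_⟩
        rw [smul_add, smul_add]
        refine add_mem ?_ ?_
        · rw [pow_add, mul_smul]; exact hsmulN₀ _ _ hx
        · rw [pow_add, mul_comm, mul_smul]; exact hsmulN₀ _ _ hy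
      | smul b x _ hx => obtain ⟨k, hk⟩ := hx (a * b); exact ⟨k, by rw [smul_smul]; exact hk⟩
  have htf : ∀ (g : S) (n : N), g ≠ 0 → g • n = 0 → n = 0 := fun g n hg h =>
    hreg _ (fun hgP => hg (hinj g hgP)) n h
  -- into a free module
  obtain ⟨f₀, hf₀, κ, φ, hφ, hφr⟩ := GenFree.exists_gfree_of_finite (R := S) (M := ↥N₀)
  haveI : Module.Finite S (κ →₀ S) := Module.Finite.of_injective φ hφ
  obtain ⟨ι, hι, hιdef⟩ : ∃ ι : ↥N₀ →ₗ[S] (κ →₀ S), Function.Injective ι ∧ ∃ k, ∀ n, φ (ι n) = f₀ ^ k • n := by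
    obtain ⟨ws, hws⟩ := (Module.Finite.fg_top : (⊤ : Submodule S ↥N₀).FG)
    choose k hk using fun w : ↥N₀ => hφr w
    have hK : ∀ n : ↥N₀, f₀ ^ (ws.sup k) • n ∈ LinearMap.range φ := fun n => by
      have hle : Submodule.span S (ws : Set ↥N₀) ≤
          (LinearMap.range φ).comap (f₀ ^ (ws.sup k) • LinearMap.id) := Submodule.span_le.2 fun w hw => by
        show f₀ ^ (ws.sup k) • w ∈ LinearMap.range φ
        rw [← Nat.sub_add_cancel (Finset.le_sup (f := k) (Finset.mem_coe.1 hw)), pow_add, mul_smul]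
        exact Submodule.smul_mem _ _ (hk w)
      exact hle (hws ▸ Submodule.mem_top)
    let ι : ↥N₀ →ₗ[S] (κ →₀ S) := (LinearEquiv.ofInjective φ hφ).symm.toLinearMap ∘ₗ
      (f₀ ^ (ws.sup k) • LinearMap.id : ↥N₀ →ₗ[S] ↥N₀).codRestrict _ hK
    have hspec : ∀ n, φ (ι n) = f₀ ^ (ws.sup k) • n := fun n =>
      congrArg Subtype.val ((LinearEquiv.ofInjective φ hφ).apply_symm_apply _)
    refine ⟨ι, (injective_iff_map_eq_zero ι).2 fun n hn => ?_, _, hspec⟩
    have h := hspec n
    rw [hn, map_zero] at h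
    exact Subtype.ext (htf _ _ (pow_ne_zero _ hf₀) (congrArg Subtype.val h.symm))
  obtain ⟨f, hf, hfree⟩ := GenFree.exists_gfree (R := R) S (M := (κ →₀ S) ⧸ LinearMap.range ι)
  haveI := P
  refine ⟨r * f, mul_ne_zero hr0 hf, fun q _ hq hFA => ?_⟩
  have hrq : algebraMap R A r ∉ q := fun h => hq (by rw [map_mul]; exact q.mul_mem_right _ h)
  have hfq : algebraMap R A f ∉ q := fun h => hq (by rw [map_mul]; exact q.mul_mem_left _ h)
  obtain ⟨n, hn, hnq⟩ := hFA
  have hPq : P ≤ q := fun a ha => by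
    by_contra haq
    refine hn (a ^ m) (fun h => haq (‹q.IsPrime›.mem_of_pow_mem m h)) ?_
    rw [Module.mem_annihilator.1 (hm (Ideal.pow_mem_pow ha m)) n]
    exact zero_mem _
  refine ⟨hPq, le_antisymm ((fd_le_of_intMod (hint.mono hPq) hrq).trans ?_) ?_⟩
  · refine (DimFormula.le_fd_iff R P d).2 ⟨t, fun G hG => ?_⟩
    rw [hinj G hG]
    exact zero_mem _
  refine ((fd_le_of_intMod hint fun h => hr0 (hP r h)).trans ?_)
  refine (DimFormula.le_fd_iff R q d).2 ⟨t, fun g hg => ?_⟩
  by_contra hgp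
  let p := q.under R
  haveI hprime : (p.map (C : R →+* S)).IsPrime := FibDim.isPrime_map_C
  obtain ⟨s, hs, hsg⟩ := hnq _ hg
  obtain ⟨k, hk⟩ := hcover (s • n)
  have hgn : g • (s • n) ∈ (p • ⊤ : Submodule R N) := by
    show algebraMap S A g • s • n ∈ _
    rw [smul_smul, mul_comm]
    exact hsg
  have key : ∀ x ∈ (p • ⊤ : Submodule R N), ∃ (j : ℕ) (hj : r ^ j • x ∈ N₀),
      (⟨_, hj⟩ : ↥N₀) ∈ (p • ⊤ : Submodule R ↥N₀) := by
    intro x hx
    refine Submodule.smul_induction_on hx (fun c hc y _ => ?_) (fun y z hy hz => ?_)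
    · obtain ⟨j, hj⟩ := hcover y
      have h1 : r ^ j • c • y = c • r ^ j • y := smul_comm _ _ _
      refine ⟨j, by rw [h1, ← algebraMap_smul S c]; exact N₀.smul_mem _ hj, ?_⟩
      convert Submodule.smul_mem_smul hc (Submodule.mem_top : (⟨_, hj⟩ : ↥N₀) ∈ (⊤ : Submodule R ↥N₀)) using 1
      exact Subtype.ext h1
    · obtain ⟨j, hj, hy⟩ := hy
      obtain ⟨j', hj', hz⟩ := hz
      have h1 : r ^ (j + j') • (y + z) = r ^ j' • r ^ j • y + r ^ j • r ^ j' • z := by
        rw [smul_add, smul_smul, smul_smul, ← pow_add, ← pow_add, add_comm j']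
      refine ⟨j + j', h1 ▸ add_mem (hsmulN₀ _ _ hj) (hsmulN₀ _ _ hj'), ?_⟩
      convert add_mem (Submodule.smul_mem _ (r ^ j') hy) (Submodule.smul_mem _ (r ^ j) hz) using 1
      exact Subtype.ext h1
  obtain ⟨j, hj, hjmem⟩ := key _ hgn
  let n₀ : ↥N₀ := ⟨r ^ (j + k) • (s • n), by rw [pow_add, mul_smul]; exact hsmulN₀ _ _ hk⟩
  have h2 : (g • ι n₀ : κ →₀ S) ∈ (p • ⊤ : Submodule R (κ →₀ S)) := by
    have h3 := smul_mem_smul_top (ι.restrictScalars R) (Submodule.smul_mem _ (r ^ k) hjmem)
    convert h3 using 1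
    show g • ι n₀ = ι (r ^ k • ⟨_, hj⟩)
    rw [← map_smul]
    refine congrArg ι (Subtype.ext ?_)
    show g • r ^ (j + k) • (s • n) = r ^ k • r ^ j • g • (s • n)
    rw [smul_smul (r ^ k), ← pow_add, add_comm k, smul_comm]
  have h4 : (ι n₀ : κ →₀ S) ∈ (p • ⊤ : Submodule R (κ →₀ S)) := by
    refine mem_smul_top_single (R := R) (σ := κ) (I' := Fin d) (ι n₀) fun i => ?_
    have h5 := smul_mem_smul_top ((Finsupp.lapply i : (κ →₀ S) →ₗ[S] S).restrictScalars R) h2
    rw [Ideal.smul_top_eq_map (R := R) (S := S)] at h5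
    exact (hprime.mem_or_mem (show g * ι n₀ i ∈ p.map C from h5)).resolve_left hgp
  obtain ⟨l, hl⟩ := inter_smul_top_range (S := S) (N := ↥N₀) (F := κ →₀ S) ι hι hfree p (x := n₀) h4
  refine hn (algebraMap R A (f ^ l * r ^ (j + k)) * s) (fun h => (‹q.IsPrime›.mem_or_mem h).elim (fun h => ?_) hs) ?_
  · rw [map_mul, map_pow, map_pow] at h
    exact (‹q.IsPrime›.mem_or_mem h).elim (fun h => hfq (‹q.IsPrime›.mem_of_pow_mem _ h))
      fun h => hrq (‹q.IsPrime›.mem_of_pow_mem _ h)
  · rw [mul_smul, algebraMap_smul, mul_smul]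
    exact smul_mem_smul_top (N₀.subtype.restrictScalars R) hl

/-- The associated primes of the fibres near the generic one lie over associated primes of the
generic fibre, with the same dimension. -/
theorem exists_bound [Module.Finite A M] :
    ∃ r : R, r ≠ 0 ∧ ∀ (q : Ideal A) [q.IsPrime], algebraMap R A r ∉ q → FAr R M q →
      ∃ (P : Ideal A) (_ : P.IsPrime), P ∈ associatedPrimes A M ∧ (∀ c : R, algebraMap R A c ∈ P → c = 0) ∧
        P ≤ q ∧ DimFormula.fd R P = DimFormula.fd R q := by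
  classical
  haveI : IsNoetherianRing A := Algebra.FiniteType.isNoetherianRing R A
  haveI : IsNoetherian A M := isNoetherian_of_isNoetherianRing_of_finite A M
  obtain ⟨T, hT⟩ := Submodule.IsLasker.exists_isMinimalPrimaryDecomposition (Submodule.isLasker A M) (⊥ : Submodule A M)
  let N : ↥T → Type u := fun J => M ⧸ (J : Submodule A M)
  let P : ↥T → Ideal A := fun J => ((J : Submodule A M).colon Set.univ).radical
  have hm : ∀ J, ∃ m : ℕ, P J ^ m ≤ Module.annihilator A (N J) := fun J => by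
    obtain ⟨m, hm⟩ := Ideal.exists_radical_pow_le_of_fg ((J : Submodule A M).colon Set.univ) (IsNoetherian.noetherian _)
    refine ⟨m, fun a ha => Module.mem_annihilator.2 fun x => ?_⟩
    obtain ⟨x, rfl⟩ := Submodule.Quotient.mk_surjective _ x
    exact (Submodule.Quotient.mk_eq_zero _).2 (Submodule.mem_colon.1 (hm ha) x trivial)
  haveI : ∀ J, (P J).IsPrime := fun J => (hT.primary J.2).isPrime_radical_colon
  choose m hm using hm
  have hr : ∀ J, ∃ r : R, r ≠ 0 ∧ ∀ (q : Ideal A) [q.IsPrime], algebraMap R A r ∉ q → FAr R (N J) q →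
      (∀ c : R, algebraMap R A c ∈ P J → c = 0) ∧ P J ≤ q ∧ DimFormula.fd R (P J) = DimFormula.fd R q := fun J => by
    by_cases hP : ∀ c : R, algebraMap R A c ∈ P J → c = 0
    · obtain ⟨r, hr, h⟩ := exists_bound_coprimary (R := R) (N J) (P J) hP (fun a ha x hx => by
        obtain ⟨x, rfl⟩ := Submodule.Quotient.mk_surjective _ x
        rw [← Submodule.Quotient.mk_smul, Submodule.Quotient.mk_eq_zero] at hx
        exact (Submodule.Quotient.mk_eq_zero _).2 (((hT.primary J.2).mem_or_mem hx).resolve_right ha)) (hm J)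
      exact ⟨r, hr, fun q _ hrq hF => ⟨hP, (h q hrq hF).1, (h q hrq hF).2.symm⟩⟩
    · push Not at hP
      obtain ⟨c, hc, hc0⟩ := hP
      refine ⟨c, hc0, fun q _ hcq hF => ?_⟩
      obtain ⟨n, hn, -⟩ := hF
      refine (hn (algebraMap R A c ^ m J) (fun h => hcq (‹q.IsPrime›.mem_of_pow_mem _ h)) ?_).elim
      rw [Module.mem_annihilator.1 (hm J (Ideal.pow_mem_pow hc (m J))) n]
      exact zero_mem _
  choose r hr0 hr using hr
  let π : M →ₗ[A] ((J : ↥T) → N J) := LinearMap.pi fun J => (J : Submodule A M).mkQ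
  have hπ : Function.Injective π := (injective_iff_map_eq_zero π).2 fun x hx => by
    have h : x ∈ T.inf id := Submodule.mem_finsetInf.2 fun J hJ =>
      (Submodule.Quotient.mk_eq_zero _).1 (congrFun hx ⟨J, hJ⟩)
    rw [hT.inf_eq] at h
    exact h
  obtain ⟨f, hf, hfree⟩ := GenFree.exists_gfree (R := R) A (M := ((J : ↥T) → N J) ⧸ LinearMap.range π)
  refine ⟨f * ∏ J, r J, mul_ne_zero hf (Finset.prod_ne_zero_iff.2 fun J _ => hr0 J), fun q _ hq hFA => ?_⟩
  obtain ⟨n, hn, hnq⟩ := hFA
  have hfq : algebraMap R A f ∉ q := fun h => hq (by rw [map_mul]; exact q.mul_mem_right _ h)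
  obtain ⟨J, hJ⟩ : ∃ J : ↥T, ∀ s ∉ q, s • (π n J) ∉ (q.under R • ⊤ : Submodule R (N J)) := by
    by_contra hne
    push Not at hne
    choose s hs hsn using hne
    have h1 : π ((∏ J, s J) • n) ∈ (q.under R • ⊤ : Submodule R ((J : ↥T) → N J)) := by
      refine mem_smul_top_of_pi _ fun J => ?_
      rw [map_smul, Pi.smul_apply, ← Finset.prod_erase_mul _ s (Finset.mem_univ J), mul_smul]
      exact smul_mem_smul_top
        ((LinearMap.lsmul A (N J) (∏ x ∈ Finset.univ.erase J, s x)).restrictScalars R) (hsn J)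
    obtain ⟨k, hk⟩ := inter_smul_top_range (S := A) (N := M) (F := (J : ↥T) → N J) π hπ hfree _ h1
    refine hn (algebraMap R A (f ^ k) * ∏ J, s J) (fun h => (‹q.IsPrime›.mem_or_mem h).elim (fun h => hfq ?_) ?_) ?_
    · rw [map_pow] at h; exact ‹q.IsPrime›.mem_of_pow_mem _ h
    · exact fun h => (Ideal.IsPrime.prod_mem_iff.1 h).elim fun J hJ => hs J hJ.2
    · rw [mul_smul, algebraMap_smul]; exact hk
  have hFJ : FAr R (N J) q := ⟨π n J, hJ, fun a ha => by
    obtain ⟨s, hs, h⟩ := hnq a ha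
    exact ⟨s, hs, smul_mem_smul_top ((J : Submodule A M).mkQ.restrictScalars R) h⟩⟩
  obtain ⟨h1, h2, h3⟩ := hr J q (fun h => hq (by
    rw [map_mul, map_prod, ← Finset.mul_prod_erase _ _ (Finset.mem_univ J)]
    exact q.mul_mem_left _ (q.mul_mem_right _ h))) hFJ
  exact ⟨P J, inferInstance, hT.mem_associatedPrimes J.2, h1, h2, h3⟩

end Bound

end Groth.Agent.FibreAss
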