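import Groth.Agent.FibreAss.Sk
import Groth.Agent.FibreAss.GeomRk
import Groth.Agent.AnLocal.Formal
import Groth.Agent.S2062
import Groth.Agent.PicClLib.Basic
import Groth.Agent.H23.InvStalk
import Groth.Agent.FBaseLib.Basic
import Groth.Agent.QCoh.DevissageP

/-!
# Geometric `(R_k)`, equidimensionality and geometric normality of the fibres
-/

set_option autoImplicit false
set_option linter.style.haveILetI false
set_option backward.isDefEq.respectTransparency false
set_option backward.isDefEq.respectTransparency.types false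

universe u

open AlgebraicGeometry CategoryTheory Limits IsLocalRing TensorProduct

namespace Groth.Agent.FibreAss

open Codepth5 (dd)

section Module

variable {X : Scheme.{u}} [IsLocallyNoetherian X] {G : X.Modules}

theorem mem_associatedPrimes_stalk_iff (hG : Coh.IsQCoh G) (x : X) (a : PrimeSpectrum (X.presheaf.stalk x)) :
    a.asIdeal ∈ associatedPrimes (X.presheaf.stalk x) (G.presheaf.stalk x) ↔ X.fromSpecStalk x a ∈ AssSch.Ass G := by
  obtain ⟨U, hU, hx, -⟩ := exists_isAffineOpen_mem_and_subset (U := (⊤ : X.Opens)) (x := x) trivial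
  let w := X.fromSpecStalk x a
  have h1 : w = hU.fromSpec (PrimeSpectrum.comap (X.presheaf.germ U x hx).hom a) := by
    show X.fromSpecStalk x a = _
    rw [← hU.fromSpecStalk_eq_fromSpecStalk hx]
    rfl
  have hwU : w ∈ U := h1 ▸ ((Set.ext_iff.1 hU.range_fromSpec _).1 (Set.mem_range_self _))
  have h2 : hU.primeIdealOf ⟨w, hwU⟩ = PrimeSpectrum.comap (X.presheaf.germ U x hx).hom a :=
    hU.fromSpec.isOpenEmbedding.injective ((hU.fromSpec_primeIdealOf ⟨_, hwU⟩).trans h1)
  show _ ↔ w ∈ AssSch.Ass G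
  rw [AssLib.mem_ass_iff hG hU hwU, h2]
  letI := QCoh.stalkAlg (X := X) hx
  letI := QCoh.stalkModule G hx
  haveI := QCoh.isScalarTower_stalk G hx
  haveI := QCoh.isLocalization_stalk' hU hx
  haveI := QCoh.isLocalizedModule_germLin hG hU hx
  haveI : IsNoetherianRing Γ(X, U) := IsLocallyNoetherian.component_noetherian ⟨U, hU⟩
  rw [← Module.associatedPrimes.preimage_comap_associatedPrimes_eq_associatedPrimes_of_isLocalizedModule
    (hU.primeIdealOf ⟨x, hx⟩).asIdeal.primeCompl (X.presheaf.stalk x) (QCoh.germLin G hx)]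
  exact Iff.rfl

end Module

section Finite

theorem depth_stalk_of_finite_flat {W Z : Scheme.{u}} [IsLocallyNoetherian W] [IsLocallyNoetherian Z] (p : W ⟶ Z)
    [IsFinite p] [Flat p] (w : W) :
    LocCoh.depth (W.presheaf.stalk w) (W.presheaf.stalk w) =
      LocCoh.depth (Z.presheaf.stalk (p w)) (Z.presheaf.stalk (p w)) := by
  let R : Type u := Z.presheaf.stalk (p w)
  let S : Type u := W.presheaf.stalk w
  letI : Algebra R S := (p.stalkMap w).hom.toAlgebra
  haveI : IsLocalHom (algebraMap R S) := inferInstanceAs (IsLocalHom (p.stalkMap w).hom)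
  haveI : Module.Flat R S := Flat.stalkMap p w
  let I : Ideal S := (maximalIdeal R).map (algebraMap R S)
  let V := S ⧸ (I • ⊤ : Submodule S S)
  have hI : I ≤ maximalIdeal S := Ideal.map_le_iff_le_comap.2 (maximalIdeal_comap (algebraMap R S)).ge
  have hne : Nontrivial V := Submodule.Quotient.nontrivial_iff.2 fun htop => by
    rw [smul_eq_mul, Ideal.mul_top] at htop
    exact (maximalIdeal.isMaximal S).ne_top (top_le_iff.1 (htop ▸ hI))
  have hmax : maximalIdeal S ∈ associatedPrimes S V := by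
    obtain ⟨q, hq⟩ := associatedPrimes.nonempty S V
    haveI := hq.isPrime
    have hIq : I ≤ q := fun r hr => hq.annihilator_le (Submodule.mem_annihilator.2 fun v _ => by
      obtain ⟨s, rfl⟩ := Submodule.Quotient.mk_surjective _ v
      rw [← Submodule.Quotient.mk_smul, Submodule.Quotient.mk_eq_zero]
      exact Submodule.smul_mem_smul hr Submodule.mem_top)
    have hc : PrimeSpectrum.comap (p.stalkMap w).hom ⟨q, hq.isPrime⟩ = closedPoint R :=
      PrimeSpectrum.ext (le_antisymm (le_maximalIdeal (Ideal.IsPrime.ne_top inferInstance))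
        (Ideal.map_le_iff_le_comap.1 hIq))
    have hpt : W.fromSpecStalk w ⟨q, hq.isPrime⟩ = w := eq_of_specializes_of_finite p
      (DimFormula.fromSpecStalk_specializes w _) (by
        rw [← DimFormula.fromSpecStalk_comm p w ⟨q, hq.isPrime⟩, hc, Scheme.fromSpecStalk_closedPoint])
    have hqm : (⟨q, hq.isPrime⟩ : PrimeSpectrum S) = closedPoint S :=
      (W.fromSpecStalk w).isEmbedding.injective (hpt.trans Scheme.fromSpecStalk_closedPoint.symm)
    show (closedPoint S).asIdeal ∈ _
    rw [← hqm]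
    exact hq
  have hzero : LocCoh.depth S V = 0 := by
    by_contra h0
    exact Alg6.one_le_depth_iff.1 (Order.one_le_iff_pos.2 (pos_iff_ne_zero.2 h0)) hmax
  have h := S2062.result (R := R) (S := S) (M := R) (N := S)
  rw [FlatLoc6.depth_congr' (AlgebraTensorModule.rid R S S)] at h
  exact h.trans ((congrArg (LocCoh.depth R R + ·) hzero).trans (add_zero _))

theorem dd_stalk_self {Z : Scheme.{u}} [IsLocallyNoetherian Z] (z : Z) :
    dd (Z.presheaf.stalk z) ((Coh.structureModule Z).presheaf.stalk z) =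
      ((DimFormula.codim z : WithBot ℕ∞), LocCoh.depth (Z.presheaf.stalk z) (Z.presheaf.stalk z)) := by
  obtain ⟨e⟩ := AssLib2.nonempty_stalkUnit (X := Z) z
  rw [← Codepth5.dd_congr (RingHom.id _) Function.surjective_id e.toAddEquiv (fun r v => e.map_smul r v), dd,
    Module.supportDim_self_eq_ringKrullDim, DimFormula.ringKrullDim_stalk]

theorem hasSk_stalk_self_iff {Z : Scheme.{u}} [IsLocallyNoetherian Z] (k : ℕ) (z : Z) :
    LocCoh.HasSk k (Z.presheaf.stalk z) (Z.presheaf.stalk z) ↔
      ∀ t, t ⤳ z → SkPair k ((DimFormula.codim t : WithBot ℕ∞), LocCoh.depth (Z.presheaf.stalk t) (Z.presheaf.stalk t)) := by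
  obtain ⟨e⟩ := AssLib2.nonempty_stalkUnit (X := Z) z
  have hiff : LocCoh.HasSk k (Z.presheaf.stalk z) (Z.presheaf.stalk z) ↔
      LocCoh.HasSk k (Z.presheaf.stalk z) ((Coh.structureModule Z).presheaf.stalk z) := by
    refine forall_congr' fun p => forall_congr' fun hp => ?_
    let e' := IsLocalizedModule.mapEquiv p.primeCompl (LocalizedModule.mkLinearMap p.primeCompl _)
      (LocalizedModule.mkLinearMap p.primeCompl _) (Localization.AtPrime p) e
    rw [Alg6.depth_eq_of_semilinear (RingHom.id _) Function.surjective_id e'.toAddEquiv (fun r v => e'.map_smul r v),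
      Alg6.supportDim_eq_of_semilinear (RingHom.id _) Function.surjective_id e'.toAddEquiv (fun r v => e'.map_smul r v)]
  rw [hiff, hasSk_stalk_iff (QCoh.isCoh_structureModule').1 z k]
  simp only [dd_stalk_self]

theorem hasSk_stalk_iff_of_finite_flat {W Z : Scheme.{u}} [IsLocallyNoetherian W] [IsLocallyNoetherian Z] (p : W ⟶ Z)
    [IsFinite p] [Flat p] (k : ℕ) (w : W) :
    LocCoh.HasSk k (W.presheaf.stalk w) (W.presheaf.stalk w) ↔
      LocCoh.HasSk k (Z.presheaf.stalk (p w)) (Z.presheaf.stalk (p w)) := by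
  rw [hasSk_stalk_self_iff, hasSk_stalk_self_iff]
  have key : ∀ t, SkPair k ((DimFormula.codim t : WithBot ℕ∞), LocCoh.depth (W.presheaf.stalk t) (W.presheaf.stalk t)) ↔
      SkPair k ((DimFormula.codim (p t) : WithBot ℕ∞),
        LocCoh.depth (Z.presheaf.stalk (p t)) (Z.presheaf.stalk (p t))) := fun t => by
    rw [depth_stalk_of_finite_flat p t, le_antisymm (codim_le_of_finite p t) (codim_le_of_flat p t)]
  constructor
  · intro h t ht
    obtain ⟨t', ht', rfl⟩ := Flat.generalizingMap p ht
    exact (key t').1 (h t' ht')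
  · exact fun h t ht => (key t).2 (h _ (ht.map p.continuous))

end Finite

section Strict

variable {X Y : Scheme.{u}} (f : X ⟶ Y)

theorem isFP_structureModule : CohB1.IsFP (Coh.structureModule X) :=
  QCoh.isFP_of_isFinLocFree (H23.PullPush.isFinLocFree_of_isInvertible H23.InvStalk.isInvertible_structureModule)

theorem isFlatOverAt_structureModule {x : X} (h : (f.stalkMap x).hom.Flat) :
    FlatMod.IsFlatOverAt f (Coh.structureModule X) x := by
  obtain ⟨e⟩ := AssLib2.nonempty_stalkUnit (X := X) x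
  letI := (f.stalkMap x).hom.toAlgebra
  letI := FlatMod.moduleStalkOver f (Coh.structureModule X) x
  haveI : Module.Flat (Y.presheaf.stalk (f x)) (X.presheaf.stalk x) := h
  let e' : X.presheaf.stalk x ≃ₗ[Y.presheaf.stalk (f x)] (Coh.structureModule X).presheaf.stalk x :=
    { e.toAddEquiv with map_smul' := fun r v => e.map_smul ((f.stalkMap x).hom r) v }
  exact Module.Flat.of_linearEquiv e'.symm

theorem isOpen_flat_PD [LocallyOfFinitePresentation f] (Q : ℕ → ℕ → Prop) :
    IsOpen {x : X | (f.stalkMap x).hom.Flat ∧ PD Q f (Coh.structureModule X) x} := by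
  let U : X.Opens := ⟨{x | (f.stalkMap x).hom.Flat}, FlatLocus.isOpen_flat_locus f⟩
  have hflU : FlatMod.IsFlatOver (U.ι ≫ f) ((Scheme.Modules.pullback U.ι).obj (Coh.structureModule X)) := fun u =>
    FlatFunHx.isFlatOverAt_pullback_of_flat f U.ι _ u (Flat.stalkMap U.ι u) (isFlatOverAt_structureModule f u.2)
  have h := U.ι.isOpenEmbedding.isOpenMap _
    (isOpen_PD Q (U.ι ≫ f) _ (ModStLib.isFP_pullback U.ι isFP_structureModule) hflU)
  convert h using 1
  ext x
  constructor
  · rintro ⟨h1, h2⟩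
    exact ⟨⟨x, h1⟩, (PD_comp Q _ U.ι ⟨x, h1⟩).2 h2, rfl⟩
  · rintro ⟨u, hu, rfl⟩
    exact ⟨u.2, (PD_comp Q _ U.ι u).1 hu⟩

variable [LocallyOfFiniteType f]

theorem nonempty_fibreUnit (y : Y) (w : ↥(f.fiber y)) :
    Nonempty ((f.fiber y).presheaf.stalk w ≃ₗ[(f.fiber y).presheaf.stalk w]
      ((Scheme.Modules.pullback (f.fiberι y)).obj (Coh.structureModule X)).presheaf.stalk w) := by
  haveI : IsLocallyNoetherian (f.fiber y) :=
    LocallyOfFiniteType.isLocallyNoetherian (f.fiberToSpecResidueField y)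
  obtain ⟨i⟩ := PicClLib.nonempty_pullback_structureModule (f.fiberι y)
  obtain ⟨e⟩ := AssLib2.nonempty_stalkUnit (X := f.fiber y) w
  exact ⟨e ≪≫ₗ ((DerSch.stalkFunctor _ w).mapIso i.symm).toLinearEquiv⟩

theorem mem_support_fibre (y : Y) (w : ↥(f.fiber y)) :
    w ∈ CohB1.support ((Scheme.Modules.pullback (f.fiberι y)).obj (Coh.structureModule X)) := fun hs => by
  obtain ⟨e⟩ := nonempty_fibreUnit f y w
  haveI := e.toEquiv.subsingleton_congr.2 hs
  exact false_of_nontrivial_of_subsingleton ((f.fiber y).presheaf.stalk w)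

/-- Equidimensional without embedded associated primes. -/
def Strict (y : Y) (w : ↥(f.fiber y)) : Prop :=
  EGA4.IsEquidim ↑((f.fiber y).presheaf.stalk w) ∧
    ∀ p ∈ associatedPrimes ↑((f.fiber y).presheaf.stalk w) ↑((f.fiber y).presheaf.stalk w),
      p ∈ minimalPrimes ↑((f.fiber y).presheaf.stalk w)

theorem strict_iff (y : Y) (w : ↥(f.fiber y)) :
    Strict f y w ↔ ∃ n, PD (fun _ b => b = n) f (Coh.structureModule X) (f.fiberι y w) := by
  have hF := isCoh_of_isFP' (isFP_structureModule (X := X))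
  haveI : IsLocallyNoetherian (f.fiber y) :=
    LocallyOfFiniteType.isLocallyNoetherian (f.fiberToSpecResidueField y)
  let G := (Scheme.Modules.pullback (f.fiberι y)).obj (Coh.structureModule X)
  have hG : Coh.IsCoh G := ZClosLib.isCoh_pullback _ hF
  obtain ⟨e⟩ := nonempty_fibreUnit f y w
  let R : Type u := (f.fiber y).presheaf.stalk w
  have hass : associatedPrimes R R = associatedPrimes R (G.presheaf.stalk w) := LinearEquiv.AssociatedPrimes.eq e
  have hann : Module.annihilator R (G.presheaf.stalk w) = ⊥ := by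
    rw [← e.annihilator_eq, Module.annihilator_eq_bot.2 inferInstance]
  have hmin : minimalPrimes R = (Module.annihilator R (G.presheaf.stalk w)).minimalPrimes := by rw [hann]
  have hdim : Module.supportDim R (G.presheaf.stalk w) = ringKrullDim R := by
    rw [← Module.supportDim_eq_of_equiv e, Module.supportDim_self_eq_ringKrullDim]
  have heq : EGA4.IsEquidim R ↔ EGA4.IsEquidimModule R (G.presheaf.stalk w) := by
    rw [EGA4.IsEquidim, EGA4.IsEquidimModule, hmin, hdim]
  have hne : (∀ p ∈ associatedPrimes R R, p ∈ minimalPrimes R) ↔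
      ∀ a, a ⤳ w → a ∈ AssSch.Ass G → ∀ t ∈ CohB1.support G, t ⤳ a → t = a := by
    rw [hass, hmin]
    constructor
    · intro h a ha haG
      obtain ⟨(pa : PrimeSpectrum R), rfl⟩ := DimFormula.fromSpecStalk_range_of_specializes ha
      exact ((mem_minimalPrimes_annihilator_iff hG w pa).1
        (h _ ((mem_associatedPrimes_stalk_iff hG.1 w pa).2 haG))).2
    · intro h p hp
      have ha := (mem_associatedPrimes_stalk_iff hG.1 w ⟨p, hp.isPrime⟩).1 hp
      exact (mem_minimalPrimes_annihilator_iff hG w ⟨p, hp.isPrime⟩).2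
        ⟨AssLib.mem_support_of_mem_ass ha, h _ (DimFormula.fromSpecStalk_specializes w _) ha⟩
  constructor
  · rintro ⟨h1, h2⟩
    exact (isEquidimModule_fibre_iff_of_max f _ hF y w (hne.1 h2)).1 (heq.1 h1)
  · rintro ⟨n, hn⟩
    have hmax : ∀ a, a ⤳ w → a ∈ AssSch.Ass G → ∀ t ∈ CohB1.support G, t ⤳ a → t = a := by
      intro a haw ha t ht hta
      obtain ⟨b, hb, hbt⟩ := exists_ass_over f hF ht
      have hrd : ∀ c, c ⤳ w → c ∈ AssSch.Ass G → FibDim.rd f (f.fiberι y c) = n := fun c hc hcG =>
        hn _ ((mem_ass_fiber_iff f _ y c).1 hcG) (by rw [FibDim.fiber_apply_fiberι, FibDim.fiber_apply_fiberι])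
          (hc.map (f.fiberι y).continuous) _ ((mem_ass_fiber_iff f _ y c).1 hcG) rfl specializes_rfl
      have hba : b = a := eq_of_specializes_of_rd_eq f (specializes_iff_mem_closure.1 (hbt.trans hta))
        ((hrd b ((hbt.trans hta).trans haw) hb).trans (hrd a haw ha).symm)
      exact (hta.antisymm (hba ▸ hbt)).eq
    exact ⟨heq.2 ((isEquidimModule_fibre_iff_of_max f _ hF y w hmax).2 ⟨n, hn⟩), hne.2 hmax⟩

/-- Geometric `(R_k)` of the fibre at a point. -/
def GeomRk (k : ℕ) (y : Y) (w : ↥(f.fiber y)) : Prop :=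
  ∀ (K : Type u) [Field K] [Algebra (IsLocalRing.ResidueField (Y.presheaf.stalk y)) K],
    Module.Finite (IsLocalRing.ResidueField (Y.presheaf.stalk y)) K →
    ∀ x' : ↥(FBase.bc (f.fiberToSpecResidueField y) K),
      (FBase.bcπ (f.fiberToSpecResidueField y) K).base x' = w →
      LocCoh.HasRk k ((FBase.bc (f.fiberToSpecResidueField y) K).presheaf.stalk x')

theorem geomRk_fibre_iff [LocallyOfFinitePresentation f] (k : ℕ) (y : Y) (w : ↥(f.fiber y)) (n : ℕ)
    (hn : PD (fun _ b => b = n) f (Coh.structureModule X) (f.fiberι y w))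
    (hfl : (f.stalkMap (f.fiberι y w)).hom.Flat) :
    GeomRk f k y w ↔ ¬∃ z ∈ (f.smoothLocus : Set X)ᶜ,
      f z = f (f.fiberι y w) ∧ z ⤳ f.fiberι y w ∧ n - k ≤ FibDim.rd f z := by
  haveI : IsLocallyNoetherian (f.fiber y) :=
    LocallyOfFiniteType.isLocallyNoetherian (f.fiberToSpecResidueField y)
  haveI : LocallyOfFinitePresentation (f.fiberToSpecResidueField y) := FibreLoc5.lfp_fibre f y
  haveI : ∀ s : Y, LocallyOfFinitePresentation (f.fiberToSpecResidueField s) := fun s => FibreLoc5.lfp_fibre f s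
  have hcodim : ∀ t, t ⤳ w → DimFormula.codim t + FibDim.rd f (f.fiberι y t) = n := by
    intro t ht
    obtain ⟨η, hη, hmax, he⟩ := DimFormula.exists_maximal_cd_eq_codim t
    have hFA := (mem_ass_fiber_iff f _ y η).1 (mem_ass_of_maximal f (isCoh_of_isFP' isFP_structureModule)
      (mem_support_fibre f y η) fun v _ hv => hmax v hv)
    have hrd : FibDim.rd f (f.fiberι y η) = n := hn _ hFA
      (by rw [FibDim.fiber_apply_fiberι, FibDim.fiber_apply_fiberι]) ((hη.trans ht).map (f.fiberι y).continuous)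
      _ hFA rfl specializes_rfl
    rw [← hrd, ← he, ← DimFormula.cd_fiberι f]
    exact DimFormula.cd_add_rd_of_fibre f (hη.map (f.fiberι y).continuous)
      (by rw [FibDim.fiber_apply_fiberι, FibDim.fiber_apply_fiberι])
  have hflat : ∀ z, z ⤳ f.fiberι y w → (f.stalkMap z).hom.Flat := fun z hz =>
    hz.mem_open (FlatLocus.isOpen_flat_locus f) hfl
  have hsm : ∀ t, t ⤳ w →
      (t ∈ (f.fiberToSpecResidueField y).smoothLocus ↔ f.fiberι y t ∈ f.smoothLocus) := fun t ht => by
    rw [mem_smoothLocus_fibre_iff]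
    exact (and_iff_right (hflat _ (ht.map (f.fiberι y).continuous))).symm.trans (S2156.result f _).symm
  refine (geomRk_iff (f.fiberToSpecResidueField y) k w).trans ⟨?_, ?_⟩
  · rintro h ⟨z, hz, hfz, hzw, hle⟩
    obtain ⟨t, rfl, ht⟩ := (fiberι_specializes_iff' f y w (hfz.trans (FibDim.fiber_apply_fiberι f w))).2 hzw
    have := hcodim t ht
    exact hz ((hsm t ht).1 (h t ht (by omega)))
  · intro h t ht htk
    by_contra hns
    have := hcodim t ht
    exact h ⟨f.fiberι y t, fun hs => hns ((hsm t ht).2 hs),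
      by rw [FibDim.fiber_apply_fiberι, FibDim.fiber_apply_fiberι], ht.map (f.fiberι y).continuous, by omega⟩

/-- The locus of flatness with a geometrically `(R_k)` equidimensional fibre without embedded cycle. -/
theorem isOpen_geomRk_strict [LocallyOfFinitePresentation f] (k : ℕ) :
    IsOpen {x : X | (f.stalkMap x).hom.Flat ∧ GeomRk f k (f.base x) (f.asFiber x) ∧ Strict f (f.base x) (f.asFiber x)} := by
  let O := Coh.structureModule X
  let C : Set X := (f.smoothLocus : Set X)ᶜ
  have hC : IsClosed C := f.smoothLocus.isOpen.isClosed_compl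
  have hset : {x : X | (f.stalkMap x).hom.Flat ∧ GeomRk f k (f.base x) (f.asFiber x) ∧ Strict f (f.base x) (f.asFiber x)} =
      ⋃ n, {x : X | (f.stalkMap x).hom.Flat ∧ PD (fun _ b => b = n) f O x} ∩
        {x : X | ∃ z ∈ C, f z = f x ∧ z ⤳ x ∧ n - k ≤ FibDim.rd f z}ᶜ := by
    ext x
    simp only [Set.mem_iUnion, Set.mem_inter_iff, Set.mem_compl_iff, Set.mem_setOf_eq]
    have hs := strict_iff f (f x) (f.asFiber x)
    rw [f.fiberι_asFiber] at hs
    have hg : ∀ n, PD (fun _ b => b = n) f O x → (f.stalkMap x).hom.Flat →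
        (GeomRk f k (f x) (f.asFiber x) ↔ ¬∃ z ∈ C, f z = f x ∧ z ⤳ x ∧ n - k ≤ FibDim.rd f z) := by
      intro n hn hfl
      have h := geomRk_fibre_iff f k (f x) (f.asFiber x) n
      rw [f.fiberι_asFiber] at h
      exact h hn hfl
    constructor
    · rintro ⟨hfl, hG, hS⟩
      obtain ⟨n, hn⟩ := hs.1 hS
      exact ⟨n, ⟨hfl, hn⟩, (hg n hn hfl).1 hG⟩
    · rintro ⟨n, ⟨hfl, hn⟩, hz⟩
      exact ⟨hfl, (hg n hn hfl).2 hz, hs.2 ⟨n, hn⟩⟩
  rw [hset]
  exact isOpen_iUnion fun n => (isOpen_flat_PD f _).inter (isClosed_exists_rd_ge f hC (n - k)).isOpen_compl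

/-- Geometric normality of the fibre at a point. -/
def GeomNor (y : Y) (w : ↥(f.fiber y)) : Prop :=
  ∀ (K : Type u) [Field K] [Algebra (IsLocalRing.ResidueField (Y.presheaf.stalk y)) K],
    Module.Finite (IsLocalRing.ResidueField (Y.presheaf.stalk y)) K →
    ∀ x' : ↥(FBase.bc (f.fiberToSpecResidueField y) K),
      (FBase.bcπ (f.fiberToSpecResidueField y) K).base x' = w →
      IsDomain ((FBase.bc (f.fiberToSpecResidueField y) K).presheaf.stalk x') ∧
        IsIntegrallyClosed ((FBase.bc (f.fiberToSpecResidueField y) K).presheaf.stalk x')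

theorem isNormal_of_geomNor (y : Y) (w : ↥(f.fiber y)) (h : GeomNor f y w) :
    IsDomain ((f.fiber y).presheaf.stalk w) ∧ IsIntegrallyClosed ((f.fiber y).presheaf.stalk w) := by
  let κ := IsLocalRing.ResidueField (Y.presheaf.stalk y)
  let g := f.fiberToSpecResidueField y
  let π := FBase.bcπ (k := κ) g κ
  haveI : IsIso (Spec.map (CommRingCat.ofHom (algebraMap κ κ))) := by
    rw [Algebra.algebraMap_self, CommRingCat.ofHom_id]
    infer_instance
  haveI : IsIso π := inferInstanceAs (IsIso (pullback.fst _ (Spec.map (CommRingCat.ofHom (algebraMap κ κ)))))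
  obtain ⟨x', hx'⟩ := π.homeomorph.surjective w
  obtain ⟨h1, h2⟩ := h κ inferInstance x' hx'
  subst hx'
  let e := (asIso (π.stalkMap x')).commRingCatIsoToRingEquiv
  exact ⟨e.toMulEquiv.isDomain, IsIntegrallyClosed.of_equiv e.symm⟩

theorem geomNor_iff (y : Y) (w : ↥(f.fiber y)) :
    GeomNor f y w ↔ GeomRk f 1 y w ∧ Strict f y w ∧
      LocCoh.HasSk 2 ((f.fiber y).presheaf.stalk w) ((f.fiber y).presheaf.stalk w) := by
  let κ := IsLocalRing.ResidueField (Y.presheaf.stalk y)
  let g := f.fiberToSpecResidueField y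
  haveI : IsLocallyNoetherian (f.fiber y) :=
    LocallyOfFiniteType.isLocallyNoetherian (f.fiberToSpecResidueField y)
  have hN : ∀ (K : Type u) [Field K] [Algebra κ K], IsLocallyNoetherian (FBase.bc (k := κ) g K) := fun K _ _ => by
    haveI : LocallyOfFiniteType (FBase.bcStr (k := κ) g K) := inferInstanceAs (LocallyOfFiniteType (pullback.snd g _))
    exact LocallyOfFiniteType.isLocallyNoetherian (FBase.bcStr (k := κ) g K)
  constructor
  · intro h
    obtain ⟨hd, hi⟩ := isNormal_of_geomNor f y w h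
    have h12 := AnLocal.normal_iff_R1_S2.1 ⟨hd, hi⟩
    refine ⟨fun K _ _ hK x' hx' => ?_, ⟨fun p hp => ?_, fun p hp => ?_⟩, h12.2⟩
    · haveI := hN K
      exact (AnLocal.normal_iff_R1_S2.1 (h K hK x' hx')).1
    · haveI := hd
      rw [IsDomain.minimalPrimes_eq_singleton_bot, Set.mem_singleton_iff] at hp
      subst hp
      exact (ringKrullDim_eq_of_ringEquiv (RingEquiv.quotientBot _))
    · haveI := hd
      rw [IsDomain.minimalPrimes_eq_singleton_bot, Set.mem_singleton_iff]
      obtain ⟨-, v, hv⟩ := isAssociatedPrime_iff.1 hp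
      refine hv.trans (le_antisymm (fun r hr => ?_) bot_le)
      rw [Submodule.mem_colon_singleton, Submodule.mem_bot, smul_eq_mul] at hr
      rcases mul_eq_zero.1 hr with h0 | h0
      · exact (Submodule.mem_bot _).2 h0
      · exfalso
        refine hp.isPrime.ne_top (hv.trans (top_unique fun s _ => ?_))
        rw [Submodule.mem_colon_singleton, Submodule.mem_bot, h0, smul_zero]
  · rintro ⟨hR, -, hS⟩ K _ _ hK x' hx'
    haveI := hN K
    haveI := isFinite_bcπ (k := κ) g K hK
    haveI := flat_bcπ (k := κ) g K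
    refine AnLocal.normal_iff_R1_S2.2 ⟨hR K hK x' hx', ?_⟩
    subst hx'
    exact (hasSk_stalk_iff_of_finite_flat (FBase.bcπ (k := κ) g K) 2 x').2 hS

/-- The locus of flatness with geometrically normal fibre is open. -/
theorem isOpen_geomNor [LocallyOfFinitePresentation f] :
    IsOpen {x : X | (f.stalkMap x).hom.Flat ∧ GeomNor f (f.base x) (f.asFiber x)} := by
  convert (isOpen_geomRk_strict f 1).inter (Codepth5.isOpen_sk f 2) using 1
  ext x
  simp only [Set.mem_inter_iff, Set.mem_setOf_eq, geomNor_iff]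
  tauto

end Strict

end Groth.Agent.FibreAss
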