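import Groth.Agent.FibreAss.Pred
import Groth.Agent.FibreAss.Generic
import Groth.Agent.DimFormula.Scheme
import Groth.Agent.FibInj.RegularSheaf
import Groth.Agent.QCoh.Support
import Groth.Agent.AssLib.Push

/-!
# Fibres near a point over the generic point of the base
-/

set_option autoImplicit false
set_option linter.style.haveILetI false
set_option backward.isDefEq.respectTransparency false

universe u

open AlgebraicGeometry CategoryTheory Limits IsLocalRing

namespace Groth.Agent.FibreAss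

section Algebra

variable {R A : Type u} [CommRing R] [CommRing A] [Algebra R A]
  (M : Type u) [AddCommGroup M] [Module A M] [Module R M] [IsScalarTower R A M]

theorem smul_top_restrict (p : Ideal R) {x : M} (hx : x ∈ (p.map (algebraMap R A) • ⊤ : Submodule A M)) :
    x ∈ (p • ⊤ : Submodule R M) := by
  let S : Submodule A M :=
    { carrier := ((p • ⊤ : Submodule R M) : Set M)
      zero_mem' := zero_mem _
      add_mem' := fun ha hb => add_mem ha hb
      smul_mem' := fun a x hx => smul_mem_smul_top ((LinearMap.lsmul A M a).restrictScalars R) hx }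
  have hle : (p.map (algebraMap R A) • ⊤ : Submodule A M) ≤ S := by
    refine Submodule.smul_le.2 fun a ha m _ => ?_
    induction ha using Submodule.span_induction with
    | mem a ha =>
      obtain ⟨c, hc, rfl⟩ := ha
      show algebraMap R A c • m ∈ (p • ⊤ : Submodule R M)
      rw [algebraMap_smul]
      exact Submodule.smul_mem_smul hc Submodule.mem_top
    | zero => rw [zero_smul]; exact S.zero_mem
    | add a b _ _ ha hb => rw [add_smul]; exact S.add_mem ha hb
    | smul c a _ ha => rw [smul_eq_mul, mul_smul]; exact S.smul_mem c ha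
  exact hle hx

theorem smul_top_map (p : Ideal R) {x : M} (hx : x ∈ (p • ⊤ : Submodule R M)) :
    x ∈ (p.map (algebraMap R A) • ⊤ : Submodule A M) :=
  Submodule.smul_induction_on hx (fun c hc m _ => by
    rw [← algebraMap_smul A c m]
    exact Submodule.smul_mem_smul (Ideal.mem_map_of_mem _ hc) Submodule.mem_top) fun _ _ => add_mem

/-- Minimal primes of a closed subset of a fibre are associated to its fibre module. -/
theorem FAr_of_minimalPrimes [IsNoetherianRing A] (I : Ideal A) {p : Ideal R} {q : Ideal A} [q.IsPrime]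
    (hp : q.under R = p) (hq : q ∈ (I ⊔ p.map (algebraMap R A)).minimalPrimes) : FAr R (A ⧸ I) q := by
  let J := I ⊔ p.map (algebraMap R A)
  have hass : q ∈ associatedPrimes A (A ⧸ J) :=
    Module.associatedPrimes.minimalPrimes_annihilator_subset_associatedPrimes A (A ⧸ J)
      (by rw [Ideal.annihilator_quotient]; exact hq)
  obtain ⟨-, a, ha⟩ := isAssociatedPrime_iff.1 hass
  obtain ⟨a, rfl⟩ := Ideal.Quotient.mk_surjective a
  have hJ : ∀ s, s * a ∈ J ↔ s ∈ q := fun s => by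
    rw [ha, Submodule.mem_colon_singleton, Submodule.mem_bot, Algebra.smul_def, Ideal.Quotient.algebraMap_eq,
      ← map_mul, Ideal.Quotient.eq_zero_iff_mem]
  have hmem : ∀ b, Ideal.Quotient.mk I b ∈ (p • ⊤ : Submodule R (A ⧸ I)) ↔ b ∈ J := by
    intro b
    rw [Ideal.smul_top_eq_map (R := R) (S := A ⧸ I), Submodule.restrictScalars_mem,
      IsScalarTower.algebraMap_eq R A (A ⧸ I), ← Ideal.map_map, Ideal.Quotient.algebraMap_eq,
      ← Ideal.mem_comap, Ideal.comap_map_of_surjective _ Ideal.Quotient.mk_surjective, ← RingHom.ker_eq_comap_bot,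
      Ideal.mk_ker, sup_comm]
  refine ⟨Ideal.Quotient.mk I a, fun s hs h => hs ((hJ s).1 ?_), fun b hb => ⟨1, fun h =>
    ‹q.IsPrime›.ne_top ((Ideal.eq_top_iff_one _).2 h), ?_⟩⟩
  · rw [hp] at h
    exact (hmem _).1 (by rwa [map_mul, ← Ideal.Quotient.algebraMap_eq, ← Algebra.smul_def])
  · rw [hp, one_mul, Algebra.smul_def, Ideal.Quotient.algebraMap_eq, ← map_mul]
    exact (hmem _).2 ((hJ b).2 hb)

variable [Algebra.FiniteType R A] [Module.Finite A M] [IsDomain R] [IsNoetherianRing R]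

/-- Near a prime over the generic point, comparable associated primes of fibres come from comparable
associated primes of the generic fibre with the same dimensions. -/
theorem exists_pairs (px : Ideal A) [hpx : px.IsPrime] (hpx0 : ∀ c : R, algebraMap R A c ∈ px → c = 0)
    (hlt : ∀ (P P' : Ideal A) [P.IsPrime] [P'.IsPrime], (∀ c : R, algebraMap R A c ∈ P' → c = 0) → P < P' →
      DimFormula.fd R P' < DimFormula.fd R P) :
    ∃ s : A, s ∉ px ∧ ∀ (q q' : Ideal A) [q.IsPrime] [q'.IsPrime], s ∉ q → q' ≤ q → FAr R M q → FAr R M q' →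
      ∃ (P P' : Ideal A) (_ : P.IsPrime) (_ : P'.IsPrime), P ∈ associatedPrimes A M ∧ P' ∈ associatedPrimes A M ∧
        (∀ c : R, algebraMap R A c ∈ P → c = 0) ∧ P' ≤ P ∧ P ≤ px ∧
        DimFormula.fd R P = DimFormula.fd R q ∧ DimFormula.fd R P' = DimFormula.fd R q' := by
  classical
  haveI : IsNoetherianRing A := Algebra.FiniteType.isNoetherianRing R A
  obtain ⟨r, hr0, hr⟩ := exists_bound (R := R) (A := A) M
  have hfin : (associatedPrimes A M).Finite := associatedPrimes.finite A M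
  have hpair : ∀ I : Ideal A, ∃ c : R, c ≠ 0 ∧ ∀ (q : Ideal A) [q.IsPrime], algebraMap R A c ∉ q → FAr R (A ⧸ I) q →
      ∃ (P : Ideal A) (_ : P.IsPrime), I ≤ P ∧ (∀ a : R, algebraMap R A a ∈ P → a = 0) ∧
        DimFormula.fd R P = DimFormula.fd R q := fun I => by
    obtain ⟨c, hc, h⟩ := exists_bound (R := R) (A ⧸ I) (A := A)
    refine ⟨c, hc, fun q _ hcq hF => ?_⟩
    obtain ⟨P, hP, hass, h1, -, h3⟩ := h q hcq hF
    refine ⟨P, hP, fun a ha => ?_, h1, h3⟩
    have : a ∈ Module.annihilator A (A ⧸ I) := by rwa [Ideal.annihilator_quotient]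
    exact IsAssociatedPrime.annihilator_le hass
      (by rwa [Submodule.annihilator_top])
  choose c hc0 hc using hpair
  let U : Finset (Ideal A) := hfin.toFinset.filter fun P => ¬ P ≤ px
  have hU : ∀ P ∈ U, ∃ a ∈ P, a ∉ px := fun P hP => SetLike.not_le_iff_exists.1 (Finset.mem_filter.1 hP).2
  choose! a ha hapx using hU
  let C : R := r * ∏ PP ∈ hfin.toFinset ×ˢ hfin.toFinset, c (PP.1 ⊔ PP.2)
  have hC : C ≠ 0 := mul_ne_zero hr0 (Finset.prod_ne_zero_iff.2 fun PP _ => hc0 _)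
  refine ⟨algebraMap R A C * ∏ P ∈ U, a P, fun h => (hpx.mem_or_mem h).elim (fun h => hC (hpx0 C h))
    (fun h => (Ideal.IsPrime.prod_mem_iff.1 h).elim fun P hP => hapx P hP.1 hP.2), fun q q' _ _ hs hle hq hq' => ?_⟩
  have hCq : algebraMap R A C ∉ q := fun h => hs (q.mul_mem_right _ h)
  have hrq : algebraMap R A r ∉ q := fun h => hCq (by rw [map_mul]; exact q.mul_mem_right _ h)
  obtain ⟨P, hP, hPass, hP0, hPq, hPd⟩ := hr q hrq hq
  obtain ⟨P', hP', hP'ass, -, hP'q, hP'd⟩ := hr q' (fun h => hrq (hle h)) hq'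
  have hPx : P ≤ px := by
    by_contra hne
    have hPU : P ∈ U := Finset.mem_filter.2 ⟨hfin.mem_toFinset.2 hPass, hne⟩
    refine hs (q.mul_mem_left _ ?_)
    rw [← Finset.mul_prod_erase U a hPU]
    exact q.mul_mem_right _ (hPq (ha P hPU))
  refine ⟨P, P', hP, hP', hPass, hP'ass, hP0, ?_, hPx, hPd, hP'd⟩
  by_contra hne
  have hcq : algebraMap R A (c (P ⊔ P')) ∉ q := fun h => hCq (by
    rw [map_mul, map_prod, ← Finset.mul_prod_erase _ _
      (Finset.mk_mem_product (hfin.mem_toFinset.2 hPass) (hfin.mem_toFinset.2 hP'ass))]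
    exact q.mul_mem_left _ (q.mul_mem_right _ h))
  obtain ⟨q₀, hq₀, hq₀q⟩ := Ideal.exists_minimalPrimes_le (I := (P ⊔ P') ⊔ (q.under R).map (algebraMap R A)) (J := q)
    (sup_le (sup_le hPq (hP'q.trans hle)) Ideal.map_comap_le)
  haveI := hq₀.1.1
  have hu : q₀.under R = q.under R :=
    le_antisymm (Ideal.comap_mono hq₀q) (Ideal.map_le_iff_le_comap.1 (le_sup_right.trans hq₀.1.2))
  obtain ⟨P'', hP''p, hI, hP''0, hd⟩ := hc _ q₀ (fun h => hcq (hq₀q h)) (FAr_of_minimalPrimes _ hu hq₀)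
  have h1 := hlt P P'' hP''0 (lt_of_le_of_ne (le_sup_left.trans hI) fun h =>
    hne (h ▸ le_sup_right.trans hI))
  have h2 : DimFormula.fd R q ≤ DimFormula.fd R q₀ := by
    obtain ⟨t, ht⟩ := (DimFormula.le_fd_iff R q _).1 le_rfl
    exact (DimFormula.le_fd_iff R q₀ _).2 ⟨t, fun G hG => by rw [hu]; exact ht G (hq₀q hG)⟩
  omega

end Algebra

variable {X Y : Scheme.{u}} (f : X ⟶ Y) (F : X.Modules)

theorem fibIdeal_eq_bot_of_genericPoint [IsIntegral Y] {z : X} (hz : f z = genericPoint Y) :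
    Codepth5.fibIdeal f z = ⊥ := by
  have hF : IsField (Y.presheaf.stalk (f z)) := by
    rw [hz]
    exact Field.toIsField Y.functionField
  rw [Codepth5.fibIdeal, IsLocalRing.isField_iff_maximalIdeal_eq.1 hF, Ideal.map_bot]

theorem mem_FA_iff_mem_ass [IsIntegral Y] [IsLocallyNoetherian X] {z : X} (hz : f z = genericPoint Y) :
    z ∈ FA f F ↔ z ∈ AssSch.Ass F := by
  rw [AssLib2.mem_ass_iff_soc, FA, Set.mem_setOf_eq, fibIdeal_eq_bot_of_genericPoint f hz]
  refine AssLib2.soc_of_semilinear (RingHom.id _) Function.surjective_id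
    (Submodule.quotEquivOfEqBot _ (Submodule.bot_smul _)).toAddEquiv fun r v => ?_
  exact (Submodule.quotEquivOfEqBot _ (Submodule.bot_smul _)).map_smul r v

/-- A point associated in its fibre, on an affine chart. -/
theorem FAr_of_mem_FA (hF : Coh.IsQCoh F) {U : X.Opens} (hU : IsAffineOpen U) {V : Y.Opens} (hV : IsAffineOpen V)
    (hle : U ≤ f ⁻¹ᵁ V) {z : X} (hz : z ∈ U) (h : z ∈ FA f F) :
    letI : Algebra Γ(Y, V) Γ(X, U) := (f.appLE V U hle).hom.toAlgebra
    letI : Module Γ(Y, V) Γ(F, U) := Module.compHom _ (f.appLE V U hle).hom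
    haveI : IsScalarTower Γ(Y, V) Γ(X, U) Γ(F, U) := IsScalarTower.of_algebraMap_smul fun _ _ => rfl
    FAr Γ(Y, V) Γ(F, U) (hU.primeIdealOf ⟨z, hz⟩).asIdeal := by
  letI : Algebra Γ(Y, V) Γ(X, U) := (f.appLE V U hle).hom.toAlgebra
  letI : Module Γ(Y, V) Γ(F, U) := Module.compHom _ (f.appLE V U hle).hom
  haveI : IsScalarTower Γ(Y, V) Γ(X, U) Γ(F, U) := IsScalarTower.of_algebraMap_smul fun _ _ => rfl
  letI := QCoh.stalkAlg (X := X) hz
  letI := QCoh.stalkModule F hz
  haveI := QCoh.isScalarTower_stalk F hz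
  haveI := QCoh.isLocalization_stalk' hU hz
  haveI := QCoh.isLocalizedModule_germLin hF hU hz
  let q := (hU.primeIdealOf ⟨z, hz⟩).asIdeal
  let O := X.presheaf.stalk z
  let J := Codepth5.fibIdeal f z
  have hJ : J = ((q.under Γ(Y, V)).map (algebraMap Γ(Y, V) Γ(X, U))).map (algebraMap Γ(X, U) O) :=
    FibInj.map_maximalIdeal_stalk f z hU hV hle hz
  obtain ⟨v, hv0, hv⟩ := h
  obtain ⟨w, rfl⟩ := Submodule.Quotient.mk_surjective _ v
  obtain ⟨⟨n, ⟨s, hs⟩⟩, hw⟩ := IsLocalizedModule.surj q.primeCompl (QCoh.germLin F hz) w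
  have hw' : algebraMap Γ(X, U) O s • w = QCoh.germLin F hz n := by rw [algebraMap_smul]; exact hw
  refine ⟨n, fun t ht hmem => hv0 ?_, fun a ha => ?_⟩
  · have h1 : QCoh.germLin F hz (t • n) ∈ (J • ⊤ : Submodule O (F.presheaf.stalk z)) := by
      rw [hJ]
      refine (FibInj.mem_smul_localized (B := O) q.primeCompl (QCoh.germLin F hz) _ _).2 ⟨1, one_mem _, ?_⟩
      rw [one_smul]
      exact smul_top_map Γ(F, U) _ hmem
    rw [LinearMap.map_smul, ← algebraMap_smul O t, ← hw', smul_smul, ← map_mul] at h1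
    exact (Submodule.Quotient.mk_eq_zero _).2
      (((J • ⊤ : Submodule O (F.presheaf.stalk z)).smul_mem_iff_of_isUnit
        (IsLocalization.map_units O (⟨t * s, mul_mem ht hs⟩ : q.primeCompl))).1 h1)
  · have h2 : (algebraMap Γ(X, U) O (a * s)) • Submodule.Quotient.mk (p := J • ⊤) w = 0 := hv _
      ((IsLocalization.AtPrime.to_map_mem_maximal_iff O q _).2 (q.mul_mem_right _ ha))
    rw [← Submodule.Quotient.mk_smul, Submodule.Quotient.mk_eq_zero, map_mul, mul_smul, hw', algebraMap_smul,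
      ← LinearMap.map_smul, hJ] at h2
    obtain ⟨t, ht, hta⟩ := (FibInj.mem_smul_localized (B := O) q.primeCompl (QCoh.germLin F hz) _ _).1 h2
    rw [smul_smul] at hta
    exact ⟨t, ht, smul_top_restrict Γ(F, U) _ hta⟩

theorem exists_nhd_PD (Q : ℕ → ℕ → Prop) [IsAffine X] [IsAffine Y] [IsIntegral Y] [IsLocallyNoetherian Y]
    [LocallyOfFiniteType f] (hF : Coh.IsCoh F) (x : X) (hx : f x = genericPoint Y) (hP : PD Q f F x) :
    ∃ O : X.Opens, x ∈ O ∧ ∀ z ∈ O, PD Q f F z := by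
  haveI := LocallyOfFiniteType.isLocallyNoetherian f
  have hU := isAffineOpen_top X
  have hV := isAffineOpen_top Y
  have hle : (⊤ : X.Opens) ≤ f ⁻¹ᵁ ⊤ := le_top
  letI : Algebra Γ(Y, ⊤) Γ(X, ⊤) := (f.appLE ⊤ ⊤ hle).hom.toAlgebra
  letI : Module Γ(Y, ⊤) Γ(F, ⊤) := Module.compHom _ (f.appLE ⊤ ⊤ hle).hom
  haveI : IsScalarTower Γ(Y, ⊤) Γ(X, ⊤) Γ(F, ⊤) := IsScalarTower.of_algebraMap_smul fun _ _ => rfl
  haveI : Algebra.FiniteType Γ(Y, ⊤) Γ(X, ⊤) := f.finiteType_appLE hV hU hle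
  haveI : IsNoetherianRing Γ(Y, ⊤) := IsLocallyNoetherian.component_noetherian ⟨⊤, hV⟩
  haveI : Module.Finite Γ(X, ⊤) Γ(F, ⊤) := QCoh.finite_sections hF hU
  let pr : X → Ideal Γ(X, ⊤) := fun z => (hU.primeIdealOf ⟨z, trivial⟩).asIdeal
  have hpr : ∀ (P : Ideal Γ(X, ⊤)), P.IsPrime → ∃ z, pr z = P := fun P hP => by
    obtain ⟨z, hz, he⟩ := QCoh.exists_point hU ⟨P, hP⟩
    exact ⟨z, congrArg PrimeSpectrum.asIdeal he⟩
  have hsp : ∀ a b, pr a ≤ pr b ↔ a ⤳ b := fun a b => AssLib.primeIdealOf_le_iff hU _ _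
  have hinj : ∀ a b, pr a = pr b → a = b := fun a b h => AssLib.eq_of_primeIdealOf_eq hU _ _ h
  have hrd : ∀ z, FibDim.rd f z = DimFormula.fd Γ(Y, ⊤) (pr z) := fun z => by
    have h1 := DimFormula.rd_eq_fd f hV hU hle (hU.primeIdealOf ⟨z, trivial⟩)
    rw [hU.fromSpec_primeIdealOf] at h1
    exact h1
  have hgen : ∀ z, (∀ c, algebraMap Γ(Y, ⊤) Γ(X, ⊤) c ∈ pr z → c = 0) ↔ f z = genericPoint Y := fun z => by
    have hcomap : (pr z).comap (algebraMap Γ(Y, ⊤) Γ(X, ⊤)) = (hV.primeIdealOf ⟨f z, trivial⟩).asIdeal :=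
      AssLib.comap_primeIdealOf f hV hU hle (w := z) trivial
    constructor
    · intro h
      have h0 : (hV.primeIdealOf ⟨f z, trivial⟩).asIdeal = ⊥ := by
        rw [← hcomap]
        exact eq_bot_iff.2 fun c hc => h c hc
      refine ((genericPoint_specializes (f z)).antisymm ?_).eq.symm
      refine (AssLib.primeIdealOf_le_iff hV (x := genericPoint Y) (y := f z) trivial trivial).1 ?_
      rw [h0]
      exact bot_le
    · intro h c hc
      have : c ∈ (hV.primeIdealOf ⟨f z, trivial⟩).asIdeal := by rw [← hcomap]; exact hc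
      rw [show (⟨f z, trivial⟩ : (⊤ : Y.Opens)) = ⟨genericPoint Y, trivial⟩ from Subtype.ext h] at this
      obtain ⟨y, hy, he⟩ := QCoh.exists_point hV ⟨(⊥ : Ideal Γ(Y, ⊤)), Ideal.isPrime_bot⟩
      exact (congrArg PrimeSpectrum.asIdeal he).le
        ((AssLib.primeIdealOf_le_iff hV hy trivial).2 ((genericPoint_spec Y).specializes trivial) this)
  obtain ⟨s, hs, hpairs⟩ := exists_pairs (R := Γ(Y, ⊤)) Γ(F, ⊤) (pr x) ((hgen x).2 hx) (fun P P' _ _ hP' hlt => by
    obtain ⟨a, rfl⟩ := hpr P inferInstance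
    obtain ⟨b, rfl⟩ := hpr P' inferInstance
    rw [← hrd, ← hrd]
    have hb := (hgen b).1 hP'
    exact FibDim.rd_lt f ((hsp a b).1 hlt.le) (fun e => hlt.ne (e ▸ rfl))
      (((hgen a).1 fun c hc => hP' c (hlt.le hc)).trans hb.symm))
  refine ⟨X.basicOpen s, (QCoh.mem_basicOpen_iff_notMem hU (x := x) trivial s).2 hs, fun z hz a ha hfa haz b hb hfb hba => ?_⟩
  have hsa : s ∉ pr a := fun h => (QCoh.mem_basicOpen_iff_notMem hU (x := z) trivial s).1 hz ((hsp a z).2 haz h)
  obtain ⟨P, P', _, _, hPass, hP'ass, hP0, hP'P, hPx, hPd, hP'd⟩ := hpairs (pr a) (pr b) hsa ((hsp b a).2 hba)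
    (FAr_of_mem_FA f F hF.1 hU hV hle trivial ha) (FAr_of_mem_FA f F hF.1 hU hV hle trivial hb)
  obtain ⟨c, rfl⟩ := hpr P inferInstance
  obtain ⟨d, rfl⟩ := hpr P' inferInstance
  have hfc := (hgen c).1 hP0
  have hfd' := (hgen d).1 fun r hr => hP0 r (hP'P hr)
  rw [hrd, hrd, ← hP'd, ← hPd, ← hrd, ← hrd]
  refine hP c ?_ (hfc.trans hx.symm) ((hsp c x).1 hPx) d ?_ (hfd'.trans hfc.symm) ((hsp d c).1 hP'P)
  · exact (mem_FA_iff_mem_ass f F hfc).2 ((AssLib.mem_ass_iff hF.1 hU trivial).2 hPass)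
  · exact (mem_FA_iff_mem_ass f F hfd').2 ((AssLib.mem_ass_iff hF.1 hU trivial).2 hP'ass)

end Groth.Agent.FibreAss
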