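import Groth.Agent.FibreAss.Dvr
import Groth.Agent.ConsPropLib.Noetherian
import Groth.Agent.FlatApproxHx.Scheme
import Groth.Agent.QCoh.Support
import Groth.Agent.FibInj.Good
import Groth.Agent.ModStLib.FibGrpd

/-!
# Openness of conditions on the associated points of the fibres of a flat module
-/

set_option autoImplicit false
set_option linter.style.haveILetI false
set_option backward.isDefEq.respectTransparency false
set_option backward.isDefEq.respectTransparency.types false

universe u

open AlgebraicGeometry CategoryTheory Limits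

namespace Groth.Agent.FibreAss

variable {X Y : Scheme.{u}}

theorem isOpen_noetherian (Q : ℕ → ℕ → Prop) (f : X ⟶ Y) [IsAffine X] [IsAffine Y] [IsLocallyNoetherian Y]
    [LocallyOfFiniteType f] (F : X.Modules) (hF : Coh.IsCoh F) (hflat : FlatMod.IsFlatOver f F) :
    IsOpen {x : X | PD Q f F x} := by
  haveI := LocallyOfFiniteType.isLocallyNoetherian f
  haveI : IsNoetherian X := {}
  have hgen : ∀ {x' x : X}, x' ⤳ x → PD Q f F x → PD Q f F x' := fun h => PD_generization Q f F hF hflat h
  have hc : Topology.IsConstructible {x : X | PD Q f F x} := by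
    refine ConsPropLib.isConstructible_of_dichotomy _ fun T j _ _ _ => ?_
    by_cases hj : PD Q f F (j (genericPoint T))
    · obtain ⟨TS, jS, _, _, hr, hg⟩ := ConsPropLib.exists_integral_closure (f (j (genericPoint T)))
      haveI : IsLocallyNoetherian TS := LocallyOfFiniteType.isLocallyNoetherian jS
      haveI : IsAffine TS := isAffine_of_isAffineHom jS
      have sub : Set.range (j ≫ f) ⊆ Set.range jS := by
        rw [hr]
        rintro _ ⟨t, rfl⟩
        exact specializes_iff_mem_closure.1 ((genericPoint_specializes t).map (j ≫ f).continuous)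
      obtain ⟨a, ha⟩ := H23.RedSub.exists_lift_closed (j ≫ f) jS sub
      let l : T ⟶ pullback f jS := pullback.lift j a ha.symm
      let q := pullback.snd f jS
      let p := pullback.fst f jS
      let F' := (Scheme.Modules.pullback p).obj F
      have hlj : ∀ t, PD Q q F' (l t) ↔ PD Q f F (j t) := fun t => by
        rw [PD_baseChange Q F (IsPullback.of_hasPullback f jS) (l t), ← Scheme.Hom.comp_apply, pullback.lift_fst]
      have hql : q (l (genericPoint T)) = genericPoint TS := jS.isClosedEmbedding.injective (by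
        rw [hg, ← Scheme.Hom.comp_apply, ← Scheme.Hom.comp_apply,
          show l ≫ q ≫ jS = j ≫ f from (pullback.lift_snd_assoc _ _ _ _).trans ha, Scheme.Hom.comp_apply])
      haveI : IsLocallyNoetherian (pullback f jS) := LocallyOfFiniteType.isLocallyNoetherian q
      haveI : IsAffine (pullback f jS) := isAffine_of_isAffineHom p
      obtain ⟨O, hO, hOP⟩ := exists_nhd_PD q F' Q (ZClosLib.isCoh_pullback p hF) _ hql ((hlj _).2 hj)
      exact Or.inl ⟨genericPoint T, interior_maximal (fun t ht => (hlj t).1 (hOP _ ht))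
        (O.isOpen.preimage l.continuous) hO⟩
    · refine Or.inr ?_
      rw [show (j ⁻¹' {x : X | PD Q f F x})ᶜ = Set.univ from Set.eq_univ_of_forall fun t ht =>
        hj (hgen ((genericPoint_specializes t).map j.continuous) ht), interior_univ]
      exact Set.univ_nonempty
  refine isOpen_iff_mem_nhds.2 fun x hx => FibDim.mem_nhds_of_generizations hc.isLocallyConstructible
    fun x' hx' => hgen hx' hx

theorem PD_comp_mono (Q : ℕ → ℕ → Prop) {Z : Scheme.{u}} (q : X ⟶ Y) (e : Y ⟶ Z) [Mono e] [LocallyOfFiniteType q]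
    [LocallyOfFiniteType (q ≫ e)] (F : X.Modules) (x : X) : PD Q (q ≫ e) F x ↔ PD Q q F x := by
  have h : IsPullback (𝟙 X) q (q ≫ e) e :=
    IsPullback.mk ⟨by simp⟩ ⟨PullbackCone.IsLimit.mk _
      (fun s => s.fst) (fun s => by simp) (fun s => (cancel_mono e).1 (by rw [Category.assoc]; exact s.condition))
      (fun s m h1 _ => by simpa using h1)⟩
  refine (PD_baseChange Q F h x).symm.trans ?_
  exact PD_congr Q _ ((Scheme.Modules.pullbackId X).app F) x

theorem isOpen_PD (Q : ℕ → ℕ → Prop) (f : X ⟶ Y) [LocallyOfFinitePresentation f] (F : X.Modules)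
    (hF : CohB1.IsFP F) (hflat : FlatMod.IsFlatOver f F) : IsOpen {x : X | PD Q f F x} := by
  refine isOpen_iff_mem_nhds.2 fun x hx => ?_
  obtain ⟨V, hV, hxV, -⟩ := exists_isAffineOpen_mem_and_subset (U := (⊤ : Y.Opens)) (x := f x) trivial
  obtain ⟨U, hU, hxU, hUV'⟩ := exists_isAffineOpen_mem_and_subset (U := f ⁻¹ᵁ V) (x := x) hxV
  have hUV : U ≤ f ⁻¹ᵁ V := hUV'
  haveI : IsAffine (U : Scheme.{u}) := hU
  haveI : IsAffine (V : Scheme.{u}) := hV
  let g := f.resLE V U hUV
  let FU := (Scheme.Modules.pullback U.ι).obj F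
  have hgf : g ≫ V.ι = U.ι ≫ f := f.resLE_comp_ι hUV
  haveI : LocallyOfFiniteType (g ≫ V.ι) := hgf ▸ inferInstance
  have hflU : FlatMod.IsFlatOver g FU := fun u =>
    (FibInj.isFlatOverAt_comp_openImmersion g V.ι FU u).1 (hgf ▸
      FlatFunHx.isFlatOverAt_pullback_of_flat f U.ι F u (Flat.stalkMap U.ι u) (hflat (U.ι u)))
  have hFU : CohB1.IsFP FU := ModStLib.isFP_pullback U.ι hF
  haveI : Coh.IsQCoh FU := QCoh.isQCoh_of_isFP hFU
  obtain ⟨X₀, S₀, f₀, c, c', _, _, sq, hft, _, F₀, hF₀, hfl₀, ⟨i⟩⟩ := FlatApproxHx.exists_scheme_model g FU hFU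
  haveI : IsNoetherianRing Γ(S₀, ⊤) := Algebra.FiniteType.isNoetherianRing ℤ _
  haveI : IsLocallyNoetherian S₀ := isLocallyNoetherian_of_isOpenImmersion S₀.isoSpec.hom
  have hO := (isOpen_noetherian Q f₀ F₀ hF₀ (hfl₀ hflU)).preimage c'.continuous
  have hset : ∀ u, PD Q f F (U.ι u) ↔ PD Q f₀ F₀ (c' u) := fun u => by
    rw [← PD_comp Q F U.ι u]
    refine Iff.trans ?_ ((PD_congr Q _ i u).symm.trans (PD_baseChange Q F₀ sq u))
    have h1 : PD Q (g ≫ V.ι) FU u ↔ PD Q g FU u := PD_comp_mono Q g V.ι FU u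
    convert h1 using 2
    exact hgf.symm
  refine Filter.mem_of_superset ((U.ι.isOpenEmbedding.isOpenMap _ hO).mem_nhds
    ⟨⟨x, hxU⟩, (hset ⟨x, hxU⟩).1 hx, rfl⟩) ?_
  rintro _ ⟨u, hu, rfl⟩
  exact (hset u).2 hu

end Groth.Agent.FibreAss
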