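import Groth.Agent.FibreAss.Basic

/-!
# Pairs of associated points of a fibre through a point
-/

set_option autoImplicit false
set_option linter.style.haveILetI false

universe u

open AlgebraicGeometry CategoryTheory Limits

namespace Groth.Agent.FibreAss

variable {X Y : Scheme.{u}} (Q : ℕ → ℕ → Prop)

/-- The pair of dimensions of any two comparable associated points of the fibre through `x` satisfies `Q`. -/
def PD (f : X ⟶ Y) [LocallyOfFiniteType f] (F : X.Modules) (x : X) : Prop :=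
  ∀ z ∈ FA f F, f z = f x → z ⤳ x → ∀ z' ∈ FA f F, f z' = f z → z' ⤳ z →
    Q (FibDim.rd f z') (FibDim.rd f z)

variable {f : X ⟶ Y} (F : X.Modules) {X' Y' : Scheme.{u}} {p : X' ⟶ X} {q : X' ⟶ Y'} {g : Y' ⟶ Y}

theorem PD_baseChange (h : IsPullback p q f g) [LocallyOfFiniteType f] [LocallyOfFiniteType q] (x' : X') :
    PD Q q ((Scheme.Modules.pullback p).obj F) x' ↔ PD Q f F (p x') := by
  have hsq : ∀ w, f (p w) = g (q w) := fun w => by
    rw [← Scheme.Hom.comp_apply, h.w, Scheme.Hom.comp_apply]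
  constructor
  · intro hP z hz hfz hzx w hw hfw hwz
    obtain ⟨z₁, hz₁, hqz, hzx₁, rfl⟩ := exists_lift_FA F h hz hfz hzx
    obtain ⟨w₁, hw₁, hqw, hwz₁, rfl⟩ := exists_lift_FA F h hw hfw hwz
    have := hP z₁ hz₁ hqz hzx₁ w₁ hw₁ hqw hwz₁
    rwa [← (map_FA F h hz₁).2.2, ← (map_FA F h hw₁).2.2] at this
  · intro hP z hz hqz hzx w hw hqw hwz
    obtain ⟨hz₁, -, hrz⟩ := map_FA F h hz
    obtain ⟨hw₁, -, hrw⟩ := map_FA F h hw
    rw [← hrz, ← hrw]
    exact hP _ hz₁ (by rw [hsq, hsq, hqz]) (hzx.map p.continuous) _ hw₁ (by rw [hsq, hsq, hqw])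
      (hwz.map p.continuous)

theorem rd_openImmersion_comp {U : Scheme.{u}} (j : U ⟶ X) [IsOpenImmersion j] [LocallyOfFiniteType f] (u : U) :
    FibDim.rd (j ≫ f) u = FibDim.rd f (j u) := by
  have h := VarDim.rdeg_comp j f u
  rw [VarDim.rdeg_preimmersion j u, ← FibDim.rd_eq_rdeg, ← FibDim.rd_eq_rdeg] at h
  exact_mod_cast h.trans (add_zero _)

theorem PD_comp {U : Scheme.{u}} (j : U ⟶ X) [IsOpenImmersion j] [LocallyOfFiniteType f] (u : U) :
    PD Q (j ≫ f) ((Scheme.Modules.pullback j).obj F) u ↔ PD Q f F (j u) := by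
  constructor
  · intro hP z hz hfz hzx w hw hfw hwz
    have hr : IsOpen (Set.range j) := j.isOpenEmbedding.isOpen_range
    obtain ⟨z, rfl⟩ : z ∈ Set.range j := hzx.mem_open hr ⟨u, rfl⟩
    obtain ⟨w, rfl⟩ : w ∈ Set.range j := hwz.mem_open hr ⟨z, rfl⟩
    have h := hP z ((mem_FA_comp f F j z).2 hz) hfz
      (j.isOpenEmbedding.isEmbedding.isInducing.specializes_iff.1 hzx) w ((mem_FA_comp f F j w).2 hw) hfw
      (j.isOpenEmbedding.isEmbedding.isInducing.specializes_iff.1 hwz)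
    rwa [rd_openImmersion_comp, rd_openImmersion_comp] at h
  · intro hP z hz hfz hzx w hw hfw hwz
    rw [rd_openImmersion_comp, rd_openImmersion_comp]
    exact hP _ ((mem_FA_comp f F j z).1 hz) hfz (hzx.map j.continuous) _ ((mem_FA_comp f F j w).1 hw) hfw
      (hwz.map j.continuous)

theorem FA_congr {F' : X.Modules} (e : F ≅ F') [LocallyOfFiniteType f] : FA f F = FA f F' := by
  ext z
  rw [← f.fiberι_asFiber z, ← mem_ass_fiber_iff, ← mem_ass_fiber_iff,
    AssLib2.ass_congr ((Scheme.Modules.pullback (f.fiberι (f z))).mapIso e)]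

theorem PD_congr {F' : X.Modules} (e : F ≅ F') [LocallyOfFiniteType f] (x : X) : PD Q f F x ↔ PD Q f F' x := by
  rw [PD, PD, FA_congr F e]

/-- `PD` in terms of the fibre scheme. -/
theorem PD_iff_fiber (f : X ⟶ Y) [LocallyOfFiniteType f] (F : X.Modules) (x : X) :
    PD Q f F x ↔ ∀ z ∈ AssSch.Ass ((Scheme.Modules.pullback (f.fiberι (f x))).obj F), f.asFiber x ∈ closure {z} →
      ∀ z' ∈ AssSch.Ass ((Scheme.Modules.pullback (f.fiberι (f x))).obj F), z ∈ closure {z'} →
        Q (FibDim.rd f (f.fiberι (f x) z')) (FibDim.rd f (f.fiberι (f x) z)) := by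
  let ι := f.fiberι (f x)
  have hsp : ∀ a b, ι a ⤳ ι b ↔ b ∈ closure {a} := fun a b =>
    ι.isEmbedding.isInducing.specializes_iff.trans specializes_iff_mem_closure
  constructor
  · intro hP z hz hzx w hw hwz
    refine hP _ ((mem_ass_fiber_iff f F _ z).1 hz) (FibDim.fiber_apply_fiberι f z) ?_ _
      ((mem_ass_fiber_iff f F _ w).1 hw) ?_ ((hsp _ _).2 hwz)
    · have := (hsp z (f.asFiber x)).2 hzx
      rwa [show ι (f.asFiber x) = x from f.fiberι_asFiber x] at this
    · rw [FibDim.fiber_apply_fiberι, FibDim.fiber_apply_fiberι]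
  · intro hP z hz hfz hzx w hw hfw hwz
    obtain ⟨z, rfl⟩ : z ∈ Set.range ι := by rw [Scheme.Hom.range_fiberι]; exact hfz
    obtain ⟨w, rfl⟩ : w ∈ Set.range ι := by rw [Scheme.Hom.range_fiberι]; exact hfw.trans hfz
    refine hP z ((mem_ass_fiber_iff f F _ z).2 hz) ((hsp _ _).1 ?_) w ((mem_ass_fiber_iff f F _ w).2 hw)
      ((hsp _ _).1 hwz)
    rwa [show ι (f.asFiber x) = x from f.fiberι_asFiber x]

end Groth.Agent.FibreAss
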