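import Groth.Agent.FibreAss.Proper
import Groth.Agent.Codepth5.Sk
import Groth.Agent.RegBiequi.SupportDim
import Groth.Agent.Alg6.AssDepth
import Groth.Agent.Alg6.LocLoc

/-!
# Equidimensional fibre modules satisfying `(S_k)`
-/

set_option autoImplicit false
set_option linter.style.haveILetI false
set_option backward.isDefEq.respectTransparency false
set_option backward.isDefEq.respectTransparency.types false

universe u

open AlgebraicGeometry CategoryTheory IsLocalRing

namespace Groth.Agent.FibreAss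

open Codepth5 (dd fibIdeal)
open FibDim (fib)

section Stalk

variable {X : Scheme.{u}} {G : X.Modules}

/-- The inequality of `(S_k)` for a pair dimension, depth. -/
def SkPair (k : ℕ) (v : WithBot ℕ∞ × ℕ∞) : Prop :=
  min (k : WithBot ℕ∞) v.1 ≤ ((v.2 : ℕ∞) : WithBot ℕ∞)

theorem dd_stalk (hG : Coh.IsQCoh G) {U : X.Opens} (hU : IsAffineOpen U) {x : X} (hx : x ∈ U) :
    dd (X.presheaf.stalk x) (G.presheaf.stalk x) =
      dd (Localization.AtPrime (hU.primeIdealOf ⟨x, hx⟩).asIdeal)
        (LocalizedModule (hU.primeIdealOf ⟨x, hx⟩).asIdeal.primeCompl Γ(G, U)) := by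
  letI := QCoh.stalkAlg (X := X) hx
  letI := QCoh.stalkModule G hx
  haveI := QCoh.isScalarTower_stalk G hx
  haveI := QCoh.isLocalization_stalk' hU hx
  haveI := QCoh.isLocalizedModule_germLin hG hU hx
  exact Prod.ext (Alg6.supportDim_localized_eq (hU.primeIdealOf ⟨x, hx⟩).asIdeal _ (QCoh.germLin G hx))
    (Alg6.depth_localized_eq (hU.primeIdealOf ⟨x, hx⟩).asIdeal _ (QCoh.germLin G hx))

theorem dd_localized_stalk (hG : Coh.IsQCoh G) {U : X.Opens} (hU : IsAffineOpen U) {x w : X} (hx : x ∈ U) (hw : w ∈ U)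
    (p : Ideal (X.presheaf.stalk x)) [p.IsPrime]
    (hp : p.comap (X.presheaf.germ U x hx).hom = (hU.primeIdealOf ⟨w, hw⟩).asIdeal) :
    dd (Localization.AtPrime p) (LocalizedModule p.primeCompl (G.presheaf.stalk x)) =
      dd (X.presheaf.stalk w) (G.presheaf.stalk w) := by
  rw [dd_stalk hG hU hw]
  letI := QCoh.stalkAlg (X := X) hx
  letI := QCoh.stalkModule G hx
  haveI := QCoh.isScalarTower_stalk G hx
  haveI := QCoh.isLocalization_stalk' hU hx
  haveI := QCoh.isLocalizedModule_germLin hG hU hx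
  let q := (hU.primeIdealOf ⟨x, hx⟩).asIdeal
  let p' : Ideal Γ(X, U) := (hU.primeIdealOf ⟨w, hw⟩).asIdeal
  change p.comap (algebraMap Γ(X, U) (X.presheaf.stalk x)) = p' at hp
  haveI : IsLocalization.AtPrime (Localization.AtPrime p) p' := by
    have := IsLocalization.isLocalization_isLocalization_atPrime_isLocalization q.primeCompl (Localization.AtPrime p) p
    simpa only [Ideal.under_def, hp] using this
  let g : Γ(G, U) →ₗ[Γ(X, U)] LocalizedModule p.primeCompl (G.presheaf.stalk x) :=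
    ((LocalizedModule.mkLinearMap p.primeCompl (G.presheaf.stalk x)).restrictScalars Γ(X, U)).comp (QCoh.germLin G hx)
  haveI : IsLocalizedModule p'.primeCompl g := by
    rw [isLocalizedModule_iff_isBaseChange _ (Localization.AtPrime p)]
    exact (IsLocalizedModule.isBaseChange q.primeCompl (X.presheaf.stalk x) (QCoh.germLin G hx)).comp
      (IsLocalizedModule.isBaseChange p.primeCompl (Localization.AtPrime p)
        (LocalizedModule.mkLinearMap p.primeCompl (G.presheaf.stalk x)))
  exact Prod.ext (Alg6.supportDim_localized_eq p' _ g) (Alg6.depth_localized_eq p' _ g)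

/-- `(S_k)` of a stalk, at the generizations of the point. -/
theorem hasSk_stalk_iff (hG : Coh.IsQCoh G) (x : X) (k : ℕ) :
    LocCoh.HasSk k (X.presheaf.stalk x) (G.presheaf.stalk x) ↔
      ∀ w, w ⤳ x → SkPair k (dd (X.presheaf.stalk w) (G.presheaf.stalk w)) := by
  obtain ⟨U, hU, hx, -⟩ := exists_isAffineOpen_mem_and_subset (U := (⊤ : X.Opens)) (x := x) trivial
  letI := QCoh.stalkAlg (X := X) hx
  haveI := QCoh.isLocalization_stalk' hU hx
  let q := (hU.primeIdealOf ⟨x, hx⟩).asIdeal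
  constructor
  · intro h w hw
    have hwU : w ∈ U := hw.mem_open U.isOpen hx
    have hdisj : Disjoint (q.primeCompl : Set Γ(X, U)) (hU.primeIdealOf ⟨w, hwU⟩).asIdeal :=
      Set.disjoint_left.mpr fun r hr hrw => hr ((AssLib.primeIdealOf_le_iff hU hx hwU).2 hw hrw)
    haveI := IsLocalization.isPrime_of_isPrime_disjoint q.primeCompl (X.presheaf.stalk x) _
      (hU.primeIdealOf ⟨w, hwU⟩).2 hdisj
    have h2 := h ((hU.primeIdealOf ⟨w, hwU⟩).asIdeal.map (algebraMap Γ(X, U) (X.presheaf.stalk x)))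
    rw [← dd_localized_stalk hG hU hx hwU _ (IsLocalization.comap_map_of_isPrime_disjoint q.primeCompl
      (X.presheaf.stalk x) (hU.primeIdealOf ⟨w, hwU⟩).2 hdisj)]
    exact h2
  · intro h p hp
    obtain ⟨w, hwU, hw⟩ := QCoh.exists_point hU (PrimeSpectrum.comap (X.presheaf.germ U x hx).hom ⟨p, hp⟩)
    have hwx : w ⤳ x := (AssLib.primeIdealOf_le_iff hU hx hwU).1 (by
      rw [hw]
      exact le_of_le_of_eq (Ideal.comap_mono (le_maximalIdeal hp.ne_top)) (AssLib.comap_maximalIdeal_stalk hU hx))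
    have := h w hwx
    rwa [← dd_localized_stalk hG hU hx hwU p (by rw [hw]; rfl)] at this

theorem mem_support_stalk_iff (hG : Coh.IsCoh G) (x : X) (a : PrimeSpectrum (X.presheaf.stalk x)) :
    a ∈ Module.support (X.presheaf.stalk x) (G.presheaf.stalk x) ↔ X.fromSpecStalk x a ∈ CohB1.support G := by
  obtain ⟨U, hU, hx, -⟩ := exists_isAffineOpen_mem_and_subset (U := (⊤ : X.Opens)) (x := x) trivial
  let w := X.fromSpecStalk x a
  have h1 : w = hU.fromSpec (PrimeSpectrum.comap (X.presheaf.germ U x hx).hom a) := by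
    show X.fromSpecStalk x a = _
    rw [← hU.fromSpecStalk_eq_fromSpecStalk hx]
    rfl
  have hwU : w ∈ U := h1 ▸ ((Set.ext_iff.1 hU.range_fromSpec _).1 (Set.mem_range_self _))
  have h2 : hU.primeIdealOf ⟨w, hwU⟩ = PrimeSpectrum.comap (X.presheaf.germ U x hx).hom a :=
    hU.fromSpec.isOpenEmbedding.injective ((hU.fromSpec_primeIdealOf ⟨_, hwU⟩).trans h1)
  have h := congrArg Prod.fst (dd_localized_stalk hG.1 hU hx hwU a.asIdeal (by rw [h2]; rfl))
  rw [Module.mem_support_iff]
  constructor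
  · intro hn hs
    haveI : Subsingleton (G.presheaf.stalk w) := hs
    exact not_subsingleton_iff_nontrivial.2 hn ((Module.supportDim_eq_bot_iff_subsingleton _ _).1
      (h.trans (Module.supportDim_eq_bot_of_subsingleton _ _)))
  · intro hn
    refine not_subsingleton_iff_nontrivial.1 fun hs => hn ?_
    exact (Module.supportDim_eq_bot_iff_subsingleton _ _).1 (h.symm.trans (Module.supportDim_eq_bot_of_subsingleton _ _))

theorem mem_minimalPrimes_annihilator_iff (hG : Coh.IsCoh G) (x : X) (a : PrimeSpectrum (X.presheaf.stalk x)) :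
    a.asIdeal ∈ (Module.annihilator (X.presheaf.stalk x) (G.presheaf.stalk x)).minimalPrimes ↔
      X.fromSpecStalk x a ∈ CohB1.support G ∧
        ∀ t ∈ CohB1.support G, t ⤳ X.fromSpecStalk x a → t = X.fromSpecStalk x a := by
  let R : Type u := X.presheaf.stalk x
  let c : PrimeSpectrum R → X := X.fromSpecStalk x
  haveI : Module.Finite R (G.presheaf.stalk x) := QCoh.finite_stalk_of_isFT hG.1 hG.2 x
  have hann : ∀ b : PrimeSpectrum R, Module.annihilator R (G.presheaf.stalk x) ≤ b.asIdeal ↔ c b ∈ CohB1.support G :=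
    fun b => by
      rw [← mem_support_stalk_iff hG x b, Module.support_eq_zeroLocus]
      rfl
  constructor
  · intro ha
    refine ⟨(hann a).1 ha.1.2, fun t ht hta => ?_⟩
    obtain ⟨(b : PrimeSpectrum R), rfl⟩ :=
      DimFormula.fromSpecStalk_range_of_specializes (hta.trans (DimFormula.fromSpecStalk_specializes x a))
    have hba : b ≤ a := (PrimeSpectrum.le_iff_specializes b a).2
      ((X.fromSpecStalk x).isEmbedding.isInducing.specializes_iff.1 hta)
    exact congrArg c (le_antisymm hba (ha.2 ⟨b.isPrime, (hann b).2 ht⟩ hba : a ≤ b))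
  · intro ⟨ha, hmax⟩
    refine ⟨⟨a.isPrime, (hann a).2 ha⟩, fun P hP hle => ?_⟩
    have hb : c ⟨P, hP.1⟩ ⤳ c a := ((PrimeSpectrum.le_iff_specializes ⟨P, hP.1⟩ a).1 hle).map (X.fromSpecStalk x).continuous
    exact (congrArg PrimeSpectrum.asIdeal
      ((X.fromSpecStalk x).isEmbedding.injective (hmax _ ((hann ⟨P, hP.1⟩).1 hP.2) hb))).ge

end Stalk

section Module

/-- A finite module is equidimensional when the quotients by the minimal primes of its support have equal dimension. -/
theorem isEquidimModule_iff {R : Type u} [CommRing R] {M : Type u} [AddCommGroup M] [Module R M] [Module.Finite R M] :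
    EGA4.IsEquidimModule R M ↔ ∀ p ∈ (Module.annihilator R M).minimalPrimes,
      ∀ p' ∈ (Module.annihilator R M).minimalPrimes, ringKrullDim (R ⧸ p) = ringKrullDim (R ⧸ p') := by
  refine ⟨fun h p hp p' hp' => (h p hp).trans (h p' hp').symm, fun h p hp => ?_⟩
  rw [Module.supportDim_eq_ringKrullDim_quotient_annihilator, ringKrullDim_quotient, ringKrullDim_quotient]
  refine le_antisymm (Order.krullDim_le_of_strictMono (fun t => ⟨t.1, fun r hr => t.2 (hp.1.2 hr)⟩)
    fun a b hab => hab) (iSup_le fun l => ?_)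
  haveI := l.head.1.isPrime
  obtain ⟨p', hp', hle⟩ := Ideal.exists_minimalPrimes_le
    (show Module.annihilator R M ≤ l.head.1.asIdeal from l.head.2)
  refine le_trans ?_ (le_of_eq ((ringKrullDim_quotient p').symm.trans ((h p' hp' p hp).trans (ringKrullDim_quotient p))))
  exact Order.LTSeries.length_le_krullDim ⟨l.length,
    fun i => ⟨(l i).1, fun r hr => show r ∈ (l i).1.asIdeal from (l.head_le i : (l.head).1 ≤ (l i).1) (hle hr)⟩,
    fun i => l.step i⟩

end Module

section Fibre

variable {X Y : Scheme.{u}} (f : X ⟶ Y) (k : ℕ) (F : X.Modules)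

/-- `(S_k)` of the fibre module, at the generizations of the point in its fibre. -/
def SkP (x : X) : Prop :=
  ∀ z, f z = f x → z ⤳ x → SkPair k (dd (X.presheaf.stalk z)
    (F.presheaf.stalk z ⧸ (fibIdeal f z • ⊤ : Submodule (X.presheaf.stalk z) (F.presheaf.stalk z))))

theorem isOpen_SkP [LocallyOfFinitePresentation f] (hF : CohB1.IsFP F) (hflat : FlatMod.IsFlatOver f F) :
    IsOpen {x : X | SkP f k F x} := by
  have hM := QCoh.isQCoh_of_isFP hF
  rw [isOpen_iff_forall_mem_open]
  intro x hx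
  obtain ⟨V, hV, hxV, -⟩ := exists_isAffineOpen_mem_and_subset (U := (⊤ : Y.Opens)) (x := f x) trivial
  obtain ⟨U, hU, hxU, hUV'⟩ := exists_isAffineOpen_mem_and_subset (U := f ⁻¹ᵁ V) (x := x) hxV
  have hUV : U ≤ f ⁻¹ᵁ V := hUV'
  letI : Algebra Γ(Y, V) Γ(X, U) := (f.appLE V U hUV).hom.toAlgebra
  haveI : Algebra.FinitePresentation Γ(Y, V) Γ(X, U) := f.finitePresentation_appLE hV hU hUV
  letI : Module Γ(Y, V) Γ(F, U) := Module.compHom _ (f.appLE V U hUV).hom
  haveI : IsScalarTower Γ(Y, V) Γ(X, U) Γ(F, U) := IsScalarTower.of_algebraMap_smul fun _ _ => rfl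
  haveI := QCoh.finitePresentation_of_isFP hF hU
  haveI : Module.Flat Γ(Y, V) Γ(F, U) := (QCoh.flat_appLE_iff f hM hU hV hUV).2 fun z _ => hflat z
  have hsq : ∀ t : PrimeSpectrum Γ(X, U),
      f (hU.fromSpec t) = hV.fromSpec (PrimeSpectrum.comap (algebraMap Γ(Y, V) Γ(X, U)) t) := fun t => by
    rw [← Scheme.Hom.comp_apply, ← hV.SpecMap_appLE_fromSpec f hU hUV, Scheme.Hom.comp_apply]
    rfl
  have hmem : ∀ t, hU.fromSpec t ∈ U := fun t => (Set.ext_iff.1 hU.range_fromSpec _).1 (Set.mem_range_self t)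
  have hP : ∀ t, hU.primeIdealOf ⟨hU.fromSpec t, hmem t⟩ = t := fun t =>
    hU.fromSpec.isOpenEmbedding.injective (hU.fromSpec_primeIdealOf ⟨_, hmem t⟩)
  have hone : ∀ z (hz : z ∈ U), SkPair k (dd (X.presheaf.stalk z)
      (F.presheaf.stalk z ⧸ (fibIdeal f z • ⊤ : Submodule (X.presheaf.stalk z) (F.presheaf.stalk z)))) ↔
        Codepth5.SkOne Γ(Y, V) Γ(F, U) k (hU.primeIdealOf ⟨z, hz⟩).asIdeal := fun z hz => by
    letI := QCoh.stalkModule F hz
    haveI := QCoh.isLocalizedModule_germLin hM hU hz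
    rw [Codepth5.dd_chart_eq f hU hV hUV hz (fun _ _ => rfl) (QCoh.germLin F hz)]
    rfl
  have hiff : ∀ q, SkP f k F (hU.fromSpec q) ↔ Codepth5.SkGen Γ(Y, V) Γ(F, U) k q := fun q => by
    constructor
    · intro h t ht
      have h1 := (hone _ (hmem t.1)).1 (h (hU.fromSpec t.1) ((hsq t.1).trans ((congrArg hV.fromSpec t.2).trans (hsq q).symm))
        (((PrimeSpectrum.le_iff_specializes _ _).1 ht).map hU.fromSpec.continuous))
      simpa only [hP t.1] using h1
    · intro h z hfz hzq
      have hz : z ∈ U := hzq.mem_open U.isOpen (hmem q)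
      have hq := hU.fromSpec_primeIdealOf ⟨z, hz⟩
      refine (hone z hz).2 (h ⟨hU.primeIdealOf ⟨z, hz⟩, hV.fromSpec.isOpenEmbedding.injective ?_⟩ ?_)
      · rw [← hsq, ← hsq, hq]
        exact hfz
      · rw [PrimeSpectrum.le_iff_specializes, ← hU.fromSpec.isOpenEmbedding.isInducing.specializes_iff, hq]
        exact hzq
  refine ⟨hU.fromSpec '' {q | Codepth5.SkGen Γ(Y, V) Γ(F, U) k q}, ?_,
    hU.fromSpec.isOpenEmbedding.isOpenMap _ (Codepth5.isOpen_skGen_affine Γ(F, U) k), ?_⟩
  · rintro _ ⟨q, hq, rfl⟩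
    exact (hiff q).2 hq
  · exact ⟨hU.primeIdealOf ⟨x, hxU⟩, (hiff _).1 (by rw [hU.fromSpec_primeIdealOf ⟨x, hxU⟩]; exact hx),
      hU.fromSpec_primeIdealOf ⟨x, hxU⟩⟩

variable [LocallyOfFiniteType f]

theorem hasSk_fibre_iff (hF : Coh.IsCoh F) (y : Y) (w : ↥(f.fiber y)) :
    LocCoh.HasSk k ((f.fiber y).presheaf.stalk w)
        (((Scheme.Modules.pullback (f.fiberι y)).obj F).presheaf.stalk w) ↔
      SkP f k F (f.fiberι y w) := by
  rw [hasSk_stalk_iff (ZClosLib.isCoh_pullback (f.fiberι y) hF).1 w k]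
  constructor
  · intro h z hfz hz
    obtain ⟨v, rfl, hv⟩ := (fiberι_specializes_iff' f y w (hfz.trans (FibDim.fiber_apply_fiberι f w))).2 hz
    rw [← Codepth5.fibre_dd_eq f F _ y v rfl]
    exact h v hv
  · intro h v hv
    rw [Codepth5.fibre_dd_eq f F _ y v rfl]
    exact h _ (by rw [FibDim.fiber_apply_fiberι, FibDim.fiber_apply_fiberι]) (hv.map (f.fiberι y).continuous)

/-- Without embedded points equidimensionality of the fibre module is a condition on associated points. -/
theorem isEquidimModule_fibre_iff_of_max (hF : Coh.IsCoh F) (y : Y) (w : ↥(f.fiber y))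
    (hassmax : ∀ a, a ⤳ w → a ∈ AssSch.Ass ((Scheme.Modules.pullback (f.fiberι y)).obj F) →
      ∀ t ∈ CohB1.support ((Scheme.Modules.pullback (f.fiberι y)).obj F), t ⤳ a → t = a) :
    EGA4.IsEquidimModule ((f.fiber y).presheaf.stalk w)
        (((Scheme.Modules.pullback (f.fiberι y)).obj F).presheaf.stalk w) ↔
      ∃ n, PD (fun _ b => b = n) f F (f.fiberι y w) := by
  haveI : IsLocallyNoetherian (f.fiber y) :=
    LocallyOfFiniteType.isLocallyNoetherian (f.fiberToSpecResidueField y)
  let ι := f.fiberι y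
  let G := (Scheme.Modules.pullback ι).obj F
  have hG : Coh.IsCoh G := ZClosLib.isCoh_pullback ι hF
  haveI : Module.Finite ((f.fiber y).presheaf.stalk w) (G.presheaf.stalk w) :=
    QCoh.finite_stalk_of_isFT hG.1 hG.2 w
  have hrd : ∀ a, a ⤳ w → DimFormula.cd a w + FibDim.rd f (ι w) = FibDim.rd f (ι a) := fun a ha => by
    rw [← DimFormula.cd_fiberι f]
    exact DimFormula.cd_add_rd_of_fibre f (ha.map ι.continuous)
      (by rw [FibDim.fiber_apply_fiberι, FibDim.fiber_apply_fiberι])
  constructor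
  · intro h
    by_cases he : ∃ a, a ⤳ w ∧ a ∈ AssSch.Ass G
    · obtain ⟨a, haw, ha⟩ := he
      refine ⟨FibDim.rd f (ι a), fun z hz hfz hzw z' _ _ _ => ?_⟩
      obtain ⟨b, rfl, hbw⟩ := (fiberι_specializes_iff' f y w (hfz.trans (FibDim.fiber_apply_fiberι f w))).2 hzw
      have hb : b ∈ AssSch.Ass G := (mem_ass_fiber_iff f F y b).2 hz
      obtain ⟨(pa : PrimeSpectrum ((f.fiber y).presheaf.stalk w)), rfl⟩ := DimFormula.fromSpecStalk_range_of_specializes haw
      obtain ⟨(pb : PrimeSpectrum ((f.fiber y).presheaf.stalk w)), rfl⟩ := DimFormula.fromSpecStalk_range_of_specializes hbw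
      have he := isEquidimModule_iff.1 h pb.asIdeal
        ((mem_minimalPrimes_annihilator_iff hG w pb).2 ⟨AssLib.mem_support_of_mem_ass hb, hassmax _ hbw hb⟩)
        pa.asIdeal ((mem_minimalPrimes_annihilator_iff hG w pa).2 ⟨AssLib.mem_support_of_mem_ass ha, hassmax _ haw ha⟩)
      rw [DimFormula.ringKrullDim_stalk_quotient, DimFormula.ringKrullDim_stalk_quotient] at he
      have he' : DimFormula.cd ((f.fiber y).fromSpecStalk w pb) w = DimFormula.cd ((f.fiber y).fromSpecStalk w pa) w := by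
        exact_mod_cast he
      rw [← hrd _ hbw, he', hrd _ haw]
    · refine ⟨0, fun z hz hfz hzw z' _ _ _ => absurd ?_ he⟩
      obtain ⟨b, rfl, hbw⟩ := (fiberι_specializes_iff' f y w (hfz.trans (FibDim.fiber_apply_fiberι f w))).2 hzw
      exact ⟨b, hbw, (mem_ass_fiber_iff f F y b).2 hz⟩
  · rintro ⟨n, hn⟩
    refine isEquidimModule_iff.2 fun p hp p' hp' => ?_
    have key : ∀ (a : PrimeSpectrum ((f.fiber y).presheaf.stalk w)),
        a.asIdeal ∈ (Module.annihilator ((f.fiber y).presheaf.stalk w) (G.presheaf.stalk w)).minimalPrimes →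
        DimFormula.cd ((f.fiber y).fromSpecStalk w a) w + FibDim.rd f (ι w) = n := fun a ha => by
      obtain ⟨h1, h2⟩ := (mem_minimalPrimes_annihilator_iff hG w a).1 ha
      have haw := DimFormula.fromSpecStalk_specializes w a
      have hFA := (mem_ass_fiber_iff f F y _).1 (mem_ass_of_maximal f hF h1 h2)
      rw [hrd _ haw]
      exact hn _ hFA (by rw [FibDim.fiber_apply_fiberι, FibDim.fiber_apply_fiberι]) (haw.map ι.continuous) _ hFA rfl
        specializes_rfl
    have h1 := key ⟨p, hp.1.1⟩ hp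
    have h2 := key ⟨p', hp'.1.1⟩ hp'
    have e1 := DimFormula.ringKrullDim_stalk_quotient w ⟨p, hp.1.1⟩
    have e2 := DimFormula.ringKrullDim_stalk_quotient w ⟨p', hp'.1.1⟩
    rw [e1, e2]
    congr 1
    exact_mod_cast (show DimFormula.cd ((f.fiber y).fromSpecStalk w ⟨p, hp.1.1⟩) w =
      DimFormula.cd ((f.fiber y).fromSpecStalk w ⟨p', hp'.1.1⟩) w by omega)

/-- With `(S_1)` equidimensionality of the fibre module is a condition on associated points. -/
theorem isEquidimModule_fibre_iff (hF : Coh.IsCoh F) (hk : 1 ≤ k) (y : Y) (w : ↥(f.fiber y))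
    (hS : SkP f k F (f.fiberι y w)) :
    EGA4.IsEquidimModule ((f.fiber y).presheaf.stalk w)
        (((Scheme.Modules.pullback (f.fiberι y)).obj F).presheaf.stalk w) ↔
      ∃ n, PD (fun _ b => b = n) f F (f.fiberι y w) := by
  haveI : IsLocallyNoetherian (f.fiber y) :=
    LocallyOfFiniteType.isLocallyNoetherian (f.fiberToSpecResidueField y)
  let ι := f.fiberι y
  let G := (Scheme.Modules.pullback ι).obj F
  have hG : Coh.IsCoh G := ZClosLib.isCoh_pullback ι hF
  haveI : Module.Finite ((f.fiber y).presheaf.stalk w) (G.presheaf.stalk w) :=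
    QCoh.finite_stalk_of_isFT hG.1 hG.2 w
  have hassmax : ∀ a, a ⤳ w → a ∈ AssSch.Ass G → ∀ t ∈ CohB1.support G, t ⤳ a → t = a := by
    intro a haw ha
    have h1 : SkPair k (dd ((f.fiber y).presheaf.stalk a) (G.presheaf.stalk a)) := by
      rw [Codepth5.fibre_dd_eq f F _ y a rfl]
      exact hS _ (by rw [FibDim.fiber_apply_fiberι, FibDim.fiber_apply_fiberι]) (haw.map ι.continuous)
    haveI : Module.Finite ((f.fiber y).presheaf.stalk a) (G.presheaf.stalk a) :=
      QCoh.finite_stalk_of_isFT hG.1 hG.2 a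
    have hd : LocCoh.depth ((f.fiber y).presheaf.stalk a) (G.presheaf.stalk a) = 0 := by
      by_contra hne
      exact Alg6.one_le_depth_iff.1 (Order.one_le_iff_pos.2 (pos_iff_ne_zero.2 hne)) ((AssLib.mem_ass_def G a).1 ha)
    have hdim : Module.supportDim ((f.fiber y).presheaf.stalk a) (G.presheaf.stalk a) ≤ 0 := by
      have h2 : min (k : WithBot ℕ∞) (Module.supportDim ((f.fiber y).presheaf.stalk a) (G.presheaf.stalk a)) ≤ 0 :=
        h1.trans_eq (by show ((LocCoh.depth _ _ : ℕ∞) : WithBot ℕ∞) = _; rw [hd]; rfl)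
      rcases min_le_iff.1 h2 with h3 | h3
      · exfalso
        have : k ≤ 0 := by exact_mod_cast h3
        omega
      · exact h3
    intro t ht hta
    obtain ⟨(b : PrimeSpectrum ((f.fiber y).presheaf.stalk a)), rfl⟩ := DimFormula.fromSpecStalk_range_of_specializes hta
    have hmin := Order.krullDim_nonpos_iff_forall_isMin.1 hdim
      ⟨IsLocalRing.closedPoint _, (mem_support_stalk_iff hG a _).2 (by
        rw [Scheme.fromSpecStalk_closedPoint]; exact AssLib.mem_support_of_mem_ass ha)⟩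
    have hbm : b ≤ IsLocalRing.closedPoint _ := IsLocalRing.le_maximalIdeal b.isPrime.ne_top
    have hmb := @hmin ⟨b, (mem_support_stalk_iff hG a b).2 ht⟩ hbm
    rw [show b = IsLocalRing.closedPoint _ from le_antisymm hbm hmb, Scheme.fromSpecStalk_closedPoint]
  exact isEquidimModule_fibre_iff_of_max f F hF y w hassmax

/-- Equidimensional with `(S_k)`, as conditions on the point. -/
theorem equidim_and_hasSk_iff (hF : Coh.IsCoh F) (hk : 1 ≤ k) (y : Y) (w : ↥(f.fiber y)) :
    (EGA4.IsEquidimModule ((f.fiber y).presheaf.stalk w)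
        (((Scheme.Modules.pullback (f.fiberι y)).obj F).presheaf.stalk w) ∧
      LocCoh.HasSk k ((f.fiber y).presheaf.stalk w)
        (((Scheme.Modules.pullback (f.fiberι y)).obj F).presheaf.stalk w)) ↔
      ((∃ n, PD (fun _ b => b = n) f F (f.fiberι y w)) ∧ SkP f k F (f.fiberι y w)) := by
  rw [hasSk_fibre_iff f k F hF y w]
  exact ⟨fun h => ⟨(isEquidimModule_fibre_iff f k F hF hk y w h.2).1 h.1, h.2⟩,
    fun h => ⟨(isEquidimModule_fibre_iff f k F hF hk y w h.2).2 h.1, h.2⟩⟩

theorem isOpen_equidim_sk [LocallyOfFinitePresentation f] (hF : CohB1.IsFP F) (hflat : FlatMod.IsFlatOver f F) :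
    IsOpen {x : X | (∃ n, PD (fun _ b => b = n) f F x) ∧ SkP f k F x} := by
  have h : {x : X | (∃ n, PD (fun _ b => b = n) f F x) ∧ SkP f k F x} =
      (⋃ n, {x : X | PD (fun _ b => b = n) f F x}) ∩ {x | SkP f k F x} := by
    ext x
    simp
  rw [h]
  exact (isOpen_iUnion fun n => isOpen_PD _ f F hF hflat).inter (isOpen_SkP f k F hF hflat)

end Fibre

end Groth.Agent.FibreAss
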