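import Groth.Agent.FibreAss.Cons
import Groth.Agent.FibreAss.Sk
import Groth.Agent.CMBCAny.Basic
import Groth.Agent.Ega41H93.DimDepthRes
import Groth.Agent.KZ.LFRes
import Groth.Agent.S4698
import Groth.Prelude.Def_CInt

/-!
# The rectified depth of the fibres of a module
-/

set_option autoImplicit false
set_option linter.style.haveILetI false
set_option backward.isDefEq.respectTransparency false
set_option backward.isDefEq.respectTransparency.types false

universe u

open AlgebraicGeometry CategoryTheory Limits IsLocalRing TensorProduct Topology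

namespace Groth.Agent.FibreAss

variable {X Y X' Y' : Scheme.{u}}

theorem isCoh_of_isFP {F : X.Modules} (hF : CohB1.IsFP F) : Coh.IsCoh F :=
  ⟨QCoh.isQCoh_of_isFP hF, QCoh.isFT_of_isFP hF⟩

/-- Along a flat morphism with Cohen-Macaulay fibre at the point, depth goes up as much as codimension. -/
theorem depth_pullback_add_codim {Z Z' : Scheme.{u}} (e : Z' ⟶ Z) [Flat e] [IsLocallyNoetherian Z]
    [IsLocallyNoetherian Z'] {G : Z.Modules} (hG : Coh.IsCoh G) (z' : Z')
    (hCM : LocCoh.IsCohenMacaulayLocalRing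
      (↑(Z'.presheaf.stalk z') ⧸ (maximalIdeal (Z.presheaf.stalk (e z'))).map (e.stalkMap z').hom)) :
    LocCoh.depth (Z'.presheaf.stalk z') (((Scheme.Modules.pullback e).obj G).presheaf.stalk z') +
        (DimFormula.codim (e z') : ℕ∞) =
      LocCoh.depth (Z.presheaf.stalk (e z')) (G.presheaf.stalk (e z')) + (DimFormula.codim z' : ℕ∞) := by
  let R : Type u := Z.presheaf.stalk (e z')
  let R' : Type u := Z'.presheaf.stalk z'
  letI : Algebra R R' := (e.stalkMap z').hom.toAlgebra
  haveI : IsLocalHom (algebraMap R R') := inferInstanceAs (IsLocalHom (e.stalkMap z').hom)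
  haveI : Module.Flat R R' := Flat.stalkMap e z'
  let M : Type u := G.presheaf.stalk (e z')
  haveI : Module.Finite R M := QCoh.finite_stalk_of_isFT hG.1 hG.2 (e z')
  let e₀ : ((Scheme.Modules.pullback e).obj G).presheaf.stalk z' ≃ₗ[R'] R' ⊗[R] M :=
    ((KFlatLib.stalkPullbackIso e z').app G).toLinearEquiv
  rw [Hensel.depth_congr e₀]
  rcases subsingleton_or_nontrivial M with hM | hM
  · rw [Ega41H93.depth_of_subsingleton (N := R' ⊗[R] M), Ega41H93.depth_of_subsingleton (N := M), top_add,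
      top_add]
  have h1 := FlatLoc6.depth_tensor (A := R) (B := R') (N := R') M
  rw [FlatLoc6.depth_fibMod] at h1
  have h2 := FlatLoc6.supportDim_tensor (A := R) (B := R') (M := R) (N := R')
  rw [Module.supportDim_eq_of_equiv (AlgebraTensorModule.rid R R' R'),
    Module.supportDim_self_eq_ringKrullDim, Module.supportDim_self_eq_ringKrullDim,
    DimFormula.ringKrullDim_stalk, DimFormula.ringKrullDim_stalk] at h2
  let J : Ideal R' := (maximalIdeal R).map (algebraMap R R')
  haveI : IsLocalRing (R' ⧸ J) := hCM.toIsLocalRing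
  have hJ : FlatLoc6.mN R R' R' = J := by
    show J • (⊤ : Ideal R') = J
    rw [Ideal.smul_eq_mul, Ideal.mul_top]
  let eq₀ : (R' ⧸ FlatLoc6.mN R R' R') ≃ₗ[R'] (R' ⧸ J) := Submodule.quotEquivOfEq _ _ hJ
  have hsl : ∀ (r : R') (x : R' ⧸ FlatLoc6.mN R R' R'), eq₀ (r • x) = Ideal.Quotient.mk J r • eq₀ x :=
    fun r x => eq₀.map_smul r x
  have h3 : Module.supportDim R' (R' ⧸ FlatLoc6.mN R R' R') =
      ((LocCoh.depth R' (R' ⧸ FlatLoc6.mN R R' R') : ℕ∞) : WithBot ℕ∞) := by
    rw [Alg6.supportDim_eq_of_semilinear (Ideal.Quotient.mk J) Ideal.Quotient.mk_surjective eq₀.toAddEquiv hsl,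
      Alg6.depth_eq_of_semilinear (Ideal.Quotient.mk J) Ideal.Quotient.mk_surjective eq₀.toAddEquiv hsl]
    exact hCM.supportDim_eq_depth
  rw [h3] at h2
  have h4 : (DimFormula.codim z' : ℕ∞) =
      (DimFormula.codim (e z') : ℕ∞) + LocCoh.depth R' (R' ⧸ FlatLoc6.mN R R' R') := by
    exact_mod_cast h2
  show LocCoh.depth R' (R' ⊗[R] M) + _ = LocCoh.depth R M + _
  rw [h1, h4, add_assoc, add_comm (DimFormula.codim (e z') : ℕ∞)]

/-- The rectified depth of the fibre of a module at a point. -/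
noncomputable def RD (f : X ⟶ Y) (F : X.Modules) (x : X) : ℕ∞ :=
  CInt.fiberDepth f F x + (FibDim.rd f x : ℕ∞)

theorem fiberDepth_eq (f : X ⟶ Y) (F : X.Modules) {x : X} {y : Y} (w : ↥(f.fiber y)) (hw : f.fiberι y w = x) :
    CInt.fiberDepth f F x =
      LocCoh.depth ((f.fiber y).presheaf.stalk w) (((Scheme.Modules.pullback (f.fiberι y)).obj F).presheaf.stalk w) :=
  congrArg Prod.snd ((Codepth5.fibre_dd_eq f F x _ _ (f.fiberι_asFiber x)).trans
    (Codepth5.fibre_dd_eq f F x y w hw).symm)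

theorem RD_congr (f : X ⟶ Y) {F F' : X.Modules} (i : F ≅ F') (x : X) : RD f F x = RD f F' x := by
  let e := ((DerSch.stalkFunctor (f.fiber (f x)) (f.asFiber x)).mapIso
    ((Scheme.Modules.pullback (f.fiberι (f x))).mapIso i)).toLinearEquiv
  unfold RD
  congr 1
  exact congrArg Prod.snd (Codepth5.dd_congr (RingHom.id _) Function.surjective_id e.toAddEquiv
    (fun r x => e.map_smul r x))

theorem RD_baseChange {p : X' ⟶ X} {q : X' ⟶ Y'} {f : X ⟶ Y} {g : Y' ⟶ Y} (h : IsPullback p q f g)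
    [LocallyOfFiniteType f] {F : X.Modules} (hF : Coh.IsCoh F) (x' : X') :
    RD q ((Scheme.Modules.pullback p).obj F) x' = RD f F (p x') := by
  haveI : LocallyOfFiniteType q := MorphismProperty.of_isPullback h inferInstance
  obtain ⟨e, he, hι⟩ := ConsPropLib.exists_fibre_pullback h (q x')
  haveI : Flat e := by
    refine MorphismProperty.of_isPullback he.flip ?_
    rw [HasRingHomProperty.Spec_iff (P := @Flat)]
    algebraize [(g.residueFieldMap (q x')).hom]
    exact RingHom.flat_algebraMap_iff.2 inferInstance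
  haveI := DimFormula.isLocallyNoetherian_fiber q (q x')
  haveI := DimFormula.isLocallyNoetherian_fiber f (g (q x'))
  let z' := q.asFiber x'
  have hez : f.fiberι (g (q x')) (e z') = p x' := by
    rw [← Scheme.Hom.comp_apply, hι, Scheme.Hom.comp_apply, Scheme.Hom.fiberι_asFiber]
  have hb : DimFormula.fb f (p x') = DimFormula.codim (e z') := by
    have key : ∀ (y : Y), f (p x') = y → ∀ (w : ↥(f.fiber y)), f.fiberι y w = p x' →
        DimFormula.fb f (p x') = DimFormula.codim w := by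
      intro y hy w hw
      subst hy
      rw [(f.fiberι _).isEmbedding.injective (hw.trans (f.fiberι_asFiber _).symm)]
      rfl
    exact key _ (comm_apply h x') (e z') hez
  have hCM : LocCoh.IsCohenMacaulayLocalRing (↑((q.fiber (q x')).presheaf.stalk z') ⧸
      (maximalIdeal ((f.fiber (g (q x'))).presheaf.stalk (e z'))).map (e.stalkMap z').hom) := by
    refine (Triage.CMMor.isCM_congr (Triage.CMMor.exists_equiv_fibre_stalk e z').some).2 ?_
    let Fy := f.fiber (g (q x'))
    let k := Y.residueField (g (q x'))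
    obtain ⟨φ, hφ⟩ := Spec.map_surjective (Fy.fromSpecResidueField (e z') ≫ f.fiberToSpecResidueField (g (q x')))
    have hk : φ.hom.EssFiniteType :=
      CMBCAny.essFiniteType_of_fromSpecResidueField (Field.toIsField k) (f.fiberToSpecResidueField (g (q x'))) (e z') φ hφ
    letI : Field k := inferInstance
    letI : Algebra k (Fy.residueField (e z')) := φ.hom.toAlgebra
    letI : Algebra k (Y'.residueField (q x')) := (g.residueFieldMap (q x')).hom.toAlgebra
    haveI : Algebra.EssFiniteType k (Fy.residueField (e z')) := hk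
    refine CMBCAny.isCM_stalk_of_field_pullback (k := k) (K := Fy.residueField (e z')) (L := Y'.residueField (q x'))
      (a := pullback.snd e (Fy.fromSpecResidueField (e z')))
      (b := pullback.fst e (Fy.fromSpecResidueField (e z')) ≫ q.fiberToSpecResidueField (q x')) ?_ _
    show IsPullback _ _ (Spec.map φ) (Spec.map (g.residueFieldMap (q x')))
    rw [hφ]
    exact (IsPullback.of_hasPullback e (Fy.fromSpecResidueField (e z'))).flip.paste_vert he
  have hd := depth_pullback_add_codim e (ZClosLib.isCoh_pullback (f.fiberι (g (q x'))) hF) z' hCM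
  let iso : (Scheme.Modules.pullback (q.fiberι (q x'))).obj ((Scheme.Modules.pullback p).obj F) ≅
      (Scheme.Modules.pullback e).obj ((Scheme.Modules.pullback (f.fiberι (g (q x')))).obj F) :=
    (Scheme.Modules.pullbackComp _ _).app F ≪≫ (Scheme.Modules.pullbackCongr hι.symm).app F ≪≫
      ((Scheme.Modules.pullbackComp _ _).app F).symm
  have hiso : CInt.fiberDepth q ((Scheme.Modules.pullback p).obj F) x' =
      LocCoh.depth ((q.fiber (q x')).presheaf.stalk z')
        (((Scheme.Modules.pullback e).obj ((Scheme.Modules.pullback (f.fiberι (g (q x')))).obj F)).presheaf.stalk z') :=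
    Hensel.depth_congr ((DerSch.stalkFunctor (q.fiber (q x')) z').mapIso iso).toLinearEquiv
  rw [← hiso, ← fiberDepth_eq f F (e z') hez, ← hb] at hd
  change CInt.fiberDepth q _ x' + _ = CInt.fiberDepth f F (p x') + (DimFormula.fb q x' : ℕ∞) at hd
  have h1 := dimAt_baseChange h x'
  unfold dimAt at h1
  unfold RD
  refine (WithTop.add_right_inj (ENat.coe_ne_top (DimFormula.fb f (p x')))).1 ?_
  rw [add_right_comm, hd, add_assoc, add_assoc, add_comm (DimFormula.fb q x' : ℕ∞),
    ← Nat.cast_add, ← Nat.cast_add, h1]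

theorem RD_comp {U : Scheme.{u}} (j : U ⟶ X) [IsOpenImmersion j] (f : X ⟶ Y) [LocallyOfFiniteType f]
    (F : X.Modules) (u : U) : RD (j ≫ f) ((Scheme.Modules.pullback j).obj F) u = RD f F (j u) := by
  let σ : X.presheaf.stalk (j u) →+* U.presheaf.stalk u := (j.stalkMap u).hom
  have hσ : Function.Bijective σ := ConcreteCategory.bijective_of_isIso (j.stalkMap u)
  letI : Algebra (X.presheaf.stalk (j u)) (U.presheaf.stalk u) := σ.toAlgebra
  let V := F.presheaf.stalk (j u)
  let e₀ : ((Scheme.Modules.pullback j).obj F).presheaf.stalk u ≃ₗ[U.presheaf.stalk u]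
      TensorProduct (X.presheaf.stalk (j u)) (U.presheaf.stalk u) V :=
    ((KFlatLib.stalkPullbackIso j u).app F).toLinearEquiv
  let e₁ : X.presheaf.stalk (j u) ≃ₗ[X.presheaf.stalk (j u)] U.presheaf.stalk u :=
    LinearEquiv.ofBijective (Algebra.linearMap _ _) hσ
  let e₂ : V ≃ₗ[X.presheaf.stalk (j u)] TensorProduct (X.presheaf.stalk (j u)) (U.presheaf.stalk u) V :=
    (TensorProduct.lid _ V).symm ≪≫ₗ TensorProduct.congr e₁ (LinearEquiv.refl _ V)
  let e : V ≃+ ((Scheme.Modules.pullback j).obj F).presheaf.stalk u := e₂.toAddEquiv.trans e₀.symm.toAddEquiv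
  have he : ∀ (r : X.presheaf.stalk (j u)) (v : V), e (r • v) = σ r • e v := fun r v => by
    show e₀.symm (e₂ (r • v)) = σ r • e₀.symm (e₂ v)
    rw [e₂.map_smul, show r • e₂ v = σ r • e₂ v from (algebraMap_smul (U.presheaf.stalk u) r (e₂ v)).symm,
      e₀.symm.map_smul]
  have hJ : (Codepth5.fibIdeal f (j u)).map σ = Codepth5.fibIdeal (j ≫ f) u := by
    rw [Codepth5.fibIdeal, Codepth5.fibIdeal, Scheme.Hom.stalkMap_comp, CommRingCat.hom_comp, ← Ideal.map_map]
    rfl
  have hd : CInt.fiberDepth (j ≫ f) ((Scheme.Modules.pullback j).obj F) u = CInt.fiberDepth f F (j u) :=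
    (congrArg Prod.snd ((Codepth5.fibre_dd_eq f F (j u) _ _ (f.fiberι_asFiber (j u))).trans
      ((Codepth5.dd_quot_congr σ hσ.2 e he _ _ hJ).trans
        (Codepth5.fibre_dd_eq (j ≫ f) _ u _ _ ((j ≫ f).fiberι_asFiber u)).symm))).symm
  rw [RD, RD, hd, rd_openImmersion_comp (f := f) j u]

theorem RD_comp_mono {Z : Scheme.{u}} (q : X ⟶ Y) (e : Y ⟶ Z) [Mono e] [LocallyOfFiniteType (q ≫ e)]
    {F : X.Modules} (hF : Coh.IsCoh F) (x : X) : RD (q ≫ e) F x = RD q F x := by
  have h : IsPullback (𝟙 X) q (q ≫ e) e :=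
    IsPullback.mk ⟨by simp⟩ ⟨PullbackCone.IsLimit.mk _
      (fun s => s.fst) (fun s => by simp) (fun s => (cancel_mono e).1 (by rw [Category.assoc]; exact s.condition))
      (fun s m h1 _ => by simpa using h1)⟩
  exact ((RD_congr q ((Scheme.Modules.pullbackId X).app F).symm x).trans (RD_baseChange h hF x)).symm

theorem RD_eq_top_iff (f : X ⟶ Y) [LocallyOfFiniteType f] {F : X.Modules} (hF : Coh.IsCoh F) (x : X) :
    RD f F x = ⊤ ↔ x ∉ CohB1.support F := by
  haveI := DimFormula.isLocallyNoetherian_fiber f (f x)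
  have hG := ZClosLib.isCoh_pullback (f.fiberι (f x)) hF
  haveI : Module.Finite ((f.fiber (f x)).presheaf.stalk (f.asFiber x))
      (((Scheme.Modules.pullback (f.fiberι (f x))).obj F).presheaf.stalk (f.asFiber x)) :=
    QCoh.finite_stalk_of_isFT hG.1 hG.2 _
  haveI : Module.Finite (X.presheaf.stalk x) (F.presheaf.stalk x) := QCoh.finite_stalk_of_isFT hF.1 hF.2 x
  obtain ⟨σ, hσ, e, he⟩ := AssLib2.exists_fibre_equiv f x F (f x) (f.asFiber x) (f.fiberι_asFiber x)
  have hJ : Codepth5.fibIdeal f x ≤ maximalIdeal (X.presheaf.stalk x) :=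
    Ideal.map_le_iff_le_comap.2 (IsLocalRing.maximalIdeal_comap (f.stalkMap x).hom).ge
  show _ ↔ ¬¬Subsingleton (F.presheaf.stalk x)
  rw [not_not, RD, WithTop.add_eq_top, or_iff_left (ENat.coe_ne_top _)]
  constructor
  · intro ht
    by_contra hn
    rw [not_subsingleton_iff_nontrivial] at hn
    haveI : Nontrivial (F.presheaf.stalk x ⧸
        (Codepth5.fibIdeal f x • ⊤ : Submodule (X.presheaf.stalk x) (F.presheaf.stalk x))) :=
      Submodule.Quotient.nontrivial_iff.mpr fun h =>
        top_ne_bot (α := Submodule (X.presheaf.stalk x) (F.presheaf.stalk x))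
          (Submodule.eq_bot_of_le_smul_of_le_jacobson_bot _ _ Module.Finite.fg_top h.ge
            (hJ.trans (IsLocalRing.jacobson_eq_maximalIdeal ⊥ bot_ne_top).ge))
    haveI := e.symm.toEquiv.nontrivial
    obtain ⟨a, ha⟩ := LC.exists_depth_eq_nat (R := (f.fiber (f x)).presheaf.stalk (f.asFiber x))
      (((Scheme.Modules.pullback (f.fiberι (f x))).obj F).presheaf.stalk (f.asFiber x))
    exact ENat.coe_ne_top a (ha.symm.trans ht)
  · intro hs
    haveI := e.symm.toEquiv.subsingleton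
    exact Ega41H93.depth_of_subsingleton

theorem isLocallyConstructible_support {F : X.Modules} (hF : CohB1.IsFP F) :
    IsLocallyConstructible (CohB1.support F) := fun x => by
  obtain ⟨U, hU, hxU, -⟩ := exists_isAffineOpen_mem_and_subset (U := (⊤ : X.Opens)) (x := x) trivial
  exact ⟨U, U.2.mem_nhds hxU, U.2, isConstructible_support hF hU⟩

theorem isConstructible_RD_ge {S : Scheme.{u}} [IsNoetherian X] [IsNoetherian S] (f : X ⟶ S)
    [LocallyOfFiniteType f] {F : X.Modules} (hF : Coh.IsCoh F) (n : ℕ) :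
    IsConstructible {x : X | (n : ℕ∞) ≤ RD f F x} := by
  haveI : QuasiCompact f := quasiCompact_of_compactSpace f
  refine ConsPropLib.isConstructible_of_dichotomy _ fun T j _ _ _ => ?_
  obtain ⟨TS, jS, _, _, hr, hgen⟩ := ConsPropLib.exists_integral_closure (f (j (genericPoint T)))
  haveI : IsLocallyNoetherian TS := LocallyOfFiniteType.isLocallyNoetherian jS
  have sub : Set.range (j ≫ f) ⊆ Set.range jS := by
    rw [hr]
    rintro _ ⟨t, rfl⟩
    exact specializes_iff_mem_closure.1 ((genericPoint_specializes t).map (j ≫ f).continuous)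
  obtain ⟨a, ha⟩ := H23.RedSub.exists_lift_closed (j ≫ f) jS sub
  let l : T ⟶ pullback f jS := pullback.lift j a ha.symm
  let f₁ := pullback.snd f jS
  haveI : IsLocallyNoetherian (pullback f jS : Scheme.{u}) := LocallyOfFiniteType.isLocallyNoetherian f₁
  let F₁ := (Scheme.Modules.pullback (pullback.fst f jS)).obj F
  have hF₁ : Coh.IsCoh F₁ := ZClosLib.isCoh_pullback _ hF
  obtain ⟨W, hWne, hWflat⟩ := S4698.result f₁ F₁ hF₁
  have hη : genericPoint TS ∈ W := by
    obtain ⟨t, ht⟩ := hWne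
    exact ((genericPoint_spec TS).specializes (Set.mem_univ t)).mem_open W.2 ht
  let X₂ := f₁ ⁻¹ᵁ W
  let f₂ := f₁ ∣_ W
  let F₂ := (Scheme.Modules.pullback X₂.ι).obj F₁
  have sq := (isPullback_morphismRestrict f₁ W).flip
  haveI : LocallyOfFiniteType f₂ := MorphismProperty.of_isPullback sq inferInstance
  haveI : IsLocallyNoetherian (W : Scheme.{u}) := LocallyOfFiniteType.isLocallyNoetherian W.ι
  haveI : LocallyOfFinitePresentation f₂ := FibreLoc5.lfp_of_noetherian' f₂
  haveI : IsLocallyNoetherian (X₂ : Scheme.{u}) := LocallyOfFiniteType.isLocallyNoetherian f₂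
  have hfl : FlatMod.IsFlatOver f₂ F₂ := fun u => by
    refine (FibInj.isFlatOverAt_comp_openImmersion f₂ W.ι F₂ u).1 ?_
    rw [morphismRestrict_ι]
    refine FlatFunHx.isFlatOverAt_pullback_of_flat f₁ X₂.ι F₁ u (Flat.stalkMap X₂.ι u) (hWflat _ ?_)
    exact u.2
  have hopen : IsOpen {z : (X₂ : Scheme.{u}) | (n : ℕ∞) ≤ RD f₂ F₂ z} := by
    convert Codepth5.isOpen_rect f₂ F₂ (KZ.LFRes.isFP_of_isCoh (ZClosLib.isCoh_pullback X₂.ι hF₁)) hfl n using 1
    ext z
    rw [Set.mem_setOf_eq, Set.mem_setOf_eq,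
      VarDim.topologicalKrullDim_closure_singleton (k := (W : Scheme.{u}).residueField (f₂ z))
        (f₂.fiberToSpecResidueField (f₂ z)) (f₂.asFiber z),
      ← WithBot.coe_add]
    exact (WithBot.coe_le_coe (a := (n : ℕ∞))).symm
  let Z : Set T := l ⁻¹' (X₂.ι '' {z : (X₂ : Scheme.{u}) | (n : ℕ∞) ≤ RD f₂ F₂ z})
  have hZ : IsOpen Z := (X₂.ι.isOpenEmbedding.isOpenMap _ hopen).preimage l.continuous
  let O : Set T := l ⁻¹' (X₂ : Set ↥(pullback f jS : Scheme.{u}))
  have hO : IsOpen O := X₂.2.preimage l.continuous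
  have hgO : genericPoint T ∈ O := by
    show f₁ (l (genericPoint T)) ∈ W
    convert hη
    refine jS.isClosedEmbedding.injective ?_
    rw [hgen, ← Scheme.Hom.comp_apply, ← Scheme.Hom.comp_apply, show l ≫ f₁ ≫ jS = j ≫ f from
      (pullback.lift_snd_assoc _ _ _ _).trans ha, Scheme.Hom.comp_apply]
  have key : ∀ t ∈ O, t ∈ Z ↔ (n : ℕ∞) ≤ RD f F (j t) := by
    intro t ht
    let u : (X₂ : Scheme.{u}) := ⟨l t, ht⟩
    have hu : RD f₂ F₂ u = RD f F (j t) := by
      rw [RD_baseChange sq hF₁ u]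
      show RD f₁ F₁ (l t) = _
      rw [RD_baseChange (IsPullback.of_hasPullback f jS) hF (l t), ← Scheme.Hom.comp_apply, pullback.lift_fst]
    rw [← hu]
    exact ⟨fun ⟨u', h', he⟩ => (X₂.ι.isOpenEmbedding.injective (a₁ := u') (a₂ := u) he) ▸ h',
      fun h => ⟨u, h, rfl⟩⟩
  by_cases hg : (n : ℕ∞) ≤ RD f F (j (genericPoint T))
  · exact Or.inl ⟨genericPoint T, interior_maximal (t := O ∩ Z) (fun t ht => (key t ht.1).1 ht.2) (hO.inter hZ)
      ⟨hgO, (key _ hgO).2 hg⟩⟩
  · refine Or.inr ⟨genericPoint T, interior_maximal (t := O) (s := (j ⁻¹' {x : X | (n : ℕ∞) ≤ RD f F x})ᶜ) (fun t ht h => hg ?_) hO hgO⟩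
    have hgZ : genericPoint T ∈ Z := (genericPoint_specializes t).mem_open hZ ((key t ht).2 h)
    exact (key _ hgO).1 hgZ

theorem isLocallyConstructible_RD_ge {S : Scheme.{u}} (f : X ⟶ S) [LocallyOfFinitePresentation f]
    {F : X.Modules} (hF : CohB1.IsFP F) (n : ℕ) :
    IsLocallyConstructible {x : X | (n : ℕ∞) ≤ RD f F x} := by
  intro x
  obtain ⟨V, hV, hxV, -⟩ := exists_isAffineOpen_mem_and_subset (U := (⊤ : S.Opens)) (x := f x) trivial
  obtain ⟨U, hU, hxU, hUV'⟩ := exists_isAffineOpen_mem_and_subset (U := f ⁻¹ᵁ V) (x := x) hxV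
  have hUV : U ≤ f ⁻¹ᵁ V := hUV'
  refine ⟨U, U.2.mem_nhds hxU, U.2, ?_⟩
  haveI : IsAffine (U : Scheme.{u}) := hU
  haveI : IsAffine (V : Scheme.{u}) := hV
  let g := f.resLE V U hUV
  let FU := (Scheme.Modules.pullback U.ι).obj F
  have hgf : g ≫ V.ι = U.ι ≫ f := f.resLE_comp_ι hUV
  haveI : LocallyOfFiniteType (g ≫ V.ι) := hgf ▸ inferInstance
  have hFU : CohB1.IsFP FU := ModStLib.isFP_pullback U.ι hF
  haveI : Coh.IsQCoh FU := QCoh.isQCoh_of_isFP hFU
  obtain ⟨X₀, S₀, f₀, c, c', _, _, sq, hft, _, F₀, hF₀, -, ⟨i⟩⟩ := FlatApproxHx.exists_scheme_model g FU hFU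
  haveI : IsNoetherianRing Γ(S₀, ⊤) := Algebra.FiniteType.isNoetherianRing ℤ _
  haveI : IsLocallyNoetherian S₀ := isLocallyNoetherian_of_isOpenImmersion S₀.isoSpec.hom
  haveI : IsNoetherian S₀ := {}
  haveI : IsLocallyNoetherian X₀ := LocallyOfFiniteType.isLocallyNoetherian f₀
  haveI : IsNoetherian X₀ := {}
  haveI : QuasiCompact c' := quasiCompact_of_compactSpace c'
  have hc := c'.isConstructible_preimage (isConstructible_RD_ge f₀ hF₀ n)
  show IsConstructible (U.ι ⁻¹' {x : X | (n : ℕ∞) ≤ RD f F x} : Set (U : Scheme.{u}))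
  convert hc using 1
  ext u
  show (n : ℕ∞) ≤ RD f F (U.ι u) ↔ (n : ℕ∞) ≤ RD f₀ F₀ (c' u)
  rw [← RD_comp U.ι f F u, ← RD_baseChange sq hF₀ u, RD_congr g i u,
    ← RD_comp_mono g V.ι (isCoh_of_isFP hFU) u]
  simp only [hgf]
  rfl

theorem isLocallyConstructible_RD_eq {S : Scheme.{u}} (f : X ⟶ S) [LocallyOfFinitePresentation f]
    {F : X.Modules} (hF : CohB1.IsFP F) (n : ℕ∞) :
    IsLocallyConstructible {x : X | RD f F x = n} := by
  induction n using ENat.recTopCoe with
  | top =>
    convert FibreLoc5.lc_compl (isLocallyConstructible_support hF) using 1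
    ext x
    exact RD_eq_top_iff f (isCoh_of_isFP hF) x
  | coe n =>
    convert (isLocallyConstructible_RD_ge f hF n).inter
      (FibreLoc5.lc_compl (isLocallyConstructible_RD_ge f hF (n + 1))) using 1
    ext x
    show RD f F x = (n : ℕ∞) ↔ (n : ℕ∞) ≤ RD f F x ∧ ¬((n + 1 : ℕ) : ℕ∞) ≤ RD f F x
    rcases eq_or_ne (RD f F x) ⊤ with h | h
    · rw [h]; exact ⟨fun h' => absurd h'.symm (ENat.coe_ne_top n), fun h' => absurd le_top h'.2⟩
    · obtain ⟨m, hm⟩ := WithTop.ne_top_iff_exists.1 h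
      have hm' : RD f F x = (m : ℕ∞) := hm.symm
      rw [hm', Nat.cast_inj, Nat.cast_le, Nat.cast_le]
      omega

end Groth.Agent.FibreAss
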